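import Cfsg.Agent.H78.P6.H78_YUFin
import Cfsg.Agent.H54.P6.H64_YEMod

/-! P6 port: the unitary models in the structures of `H54/P6/H64_YEMod`. -/

set_option autoImplicit false
set_option linter.unusedSectionVars false

namespace H78.P6T

open H85.P6.H67.UA (XU)

universe u

variable {n : ℕ} {F : Type} [Field F] [StarRing F] [TrivialStar F] [CharP F 2] [Finite F]
  {Y : Type} [Group Y] {ι : XU n F →* Y} {τ : MulAut Y} {Gd : XU n F → Prop} {U : Subgroup Y}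

theorem mb (h : H78.P6.H64.YE.MB ι τ Gd U) : H54.P6.H64.YE.MB ι τ Gd U :=
  ⟨⟨h.t2, h.fix, h.syl, h.stU, h.tne, h.gen⟩, ⟨h.gdc, h.cl⟩,
    ⟨h.qs.perf, h.qs.oddZ, h.qs.nrm, h.qs.qs, h.qs.k2⟩, h.m3⟩

theorem good {R : Subgroup Y} (h : H78.P6.H64.YE.Good τ U R) : H54.P6.H64.YE.Good τ U R :=
  ⟨h.1, h.2, h.3, h.4, h.5⟩

theorem rtU (h : H78.P6.H64.YE.RtU ι τ Gd U) : H54.P6.H64.YE.RtU ι τ Gd U := by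
  obtain ⟨a1, a2, a3, r, Z, Q, ⟨m1, m2, R, m3, m4⟩, d, s, a, k, w, z⟩ := h
  exact ⟨a1, a2, a3, r, Z, Q, ⟨good m1, m2, R, good m3, m4⟩,
    ⟨d.1, d.2, d.3, d.4, d.5, d.6, d.7, d.8, d.9, d.10, d.11, d.12, d.13, d.14, d.15⟩,
    ⟨s.1, s.2, s.3⟩, ⟨a.1, a.2, a.3⟩, ⟨k.1, k.2, k.3⟩, ⟨w.1, w.2⟩, ⟨z.1, z.2, z.3⟩⟩

theorem rd {Go : XU n F → Prop} {r : Y} {Z Q : Subgroup Y} (d : H78.P6.H64.YE.RD ι τ Go U r Z Q) :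
    H54.P6.H64.YE.RD ι τ Go U r Z Q :=
  ⟨d.1, d.2, d.3, d.4, d.5, d.6, d.7, d.8, d.9, d.10, d.11, d.12, d.13, d.14, d.15⟩

theorem mc {Go : XU n F → Prop} {R : Subgroup Y} (h : H78.P6.H64.YE.MC ι τ Go U R) :
    H54.P6.H64.YE.MC ι τ Go U R :=
  let ⟨m1, m2, R, m3, m4⟩ := h
  ⟨good m1, m2, R, good m3, m4⟩

theorem mod (h : H78.P6.H64.YE.Mod ι τ Gd) : H54.P6.H64.YE.Mod ι τ Gd := by
  obtain ⟨U, b, h⟩ := h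
  refine ⟨U, mb b, h.imp ?_ (Or.imp rtU (Or.imp ?_ (Or.imp id ?_)))⟩
  · rintro ⟨a1, a2, a3, r, Z, Q, m, d, s, a, w, z⟩
    exact ⟨a1, a2, a3, r, Z, Q, mc m, rd d, ⟨s.1, s.2, s.3⟩, ⟨a.1, a.2, a.3, a.4, a.5, a.6⟩, ⟨w.1, w.2⟩,
      ⟨z.1, z.2, z.3⟩⟩
  · rintro ⟨a1, a2, a3, r, Z, Q, A, A', m, d, l⟩
    exact ⟨a1, a2, a3, r, Z, Q, A, A', mc m, rd d,
      ⟨l.1, l.2, l.3, l.4, l.5, l.6, l.7, l.8, l.9, l.10, l.11⟩⟩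
  · rintro ⟨a1, a2, a3, me, r, Z, Q, c, R, R₀, R₁, m, m', d, a, z, ob, oh, os, oc, ou, oq⟩
    exact ⟨a1, a2, a3, ⟨me.1, me.2⟩, r, Z, Q, c, R, R₀, R₁, mc m, mc m', rd d, ⟨a.1, a.2, a.3⟩,
      ⟨z.1, z.2, z.3⟩, ⟨ob.1, ob.2, ob.3, ob.4, ob.5, ob.6⟩, oh, ⟨os.1, os.2, os.3, os.4, os.5⟩,
      ⟨oc.1, oc.2, oc.3, oc.4, oc.5, oc.6, oc.7, oc.8, oc.9⟩, ⟨ou.1, ou.2, ou.3, ou.4, ou.5⟩,
      ⟨oq.1, oq.2⟩⟩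

theorem jobMU0 : H54.P6.H64.YE.JobMU0 := fun n F _ _ _ _ _ _ b c o K _ _ _ _ x h =>
  (H78.P6.H78.YU.jobMU0 n F b c o K x h).imp_left mod

theorem jobMU1 : H54.P6.H64.YE.JobMU1 := fun n F _ _ _ _ _ _ b c o K _ _ _ _ x h =>
  mod (H78.P6.H78.YU.jobMU1 n F b c o K x h)

/-- The final statements, back in the copy `Z_YEMod`. -/
theorem fin (h : H54.P6.H64.YE.JobFin.{u}) : H78.P6.H64.YE.JobFin.{u} :=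
  ⟨h.1, h.2, h.3, h.4, h.5, h.6⟩

end H78.P6T
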