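import Cfsg.Agent.H54.P6.H64_YEKit2
import Cfsg.Agent.H78.Y3RA

namespace H5 end H5
open H5
namespace H85.P6 end H85.P6
open H85.P6
namespace H85.P6.H5 end H85.P6.H5
open H85.P6.H5
namespace H85.P6.H5.YECA end H85.P6.H5.YECA
open H85.P6.H5.YECA
namespace H54.P6 end H54.P6
open H54.P6
namespace H78.P6


/-! STD-SP endgame (row S3129), slot CA: `C_K(Z)` normalises `Q`. -/

set_option autoImplicit false
set_option linter.unusedSectionVars false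

namespace Y3CA

open H64.SG (O2 Syl Cz Cs Ns cjs Is2 Inv2 UF IsO2 fx mem_Cz mem_Cs is2_of_sq isPGroup_iff_is2
  Cs_le_Ns)
open Subgroup H67.UA H67.SP H64.YE
open H67.SA (cm mem_sup_zp)
open H59.SO (Ind CE ind_conj map_mem_Cs mem_Cs_map)

universe u

variable {n : ℕ} {F : Type} [Field F] [StarRing F] [TrivialStar F] [CharP F 2] [Finite F]
  {Y : Type} [Group Y] [Finite Y] [QS Y] {G : Type u} [Group G] [Finite G] {ι : XU n F →* Y}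
  {τ : MulAut Y} {Gd Go : XU n F → Prop} {U : Subgroup Y} {e : XU n F →* G} {t : G} {Φ : Y →* G}
  {K₀ : Subgroup G} {r : Y} {Z Q P : Subgroup Y}

theorem main (gc : JobGC.{u}) (h : E1 ι τ Gd Go U e t Φ K₀) (rd : RD ι τ Go U r Z Q)
    (ra : H78.Y3.RA2 τ Z Q P) (pe : PE Φ Z P) (sc : SC U Φ K₀ Z Q)
    (c1 : ∀ O : Subgroup G, Odd (Nat.card O) → t ∈ Ns O → (Cs Z).map Φ ≤ Ns O →
      O ⊓ Ns Φ.range ≤ Ns (Q.map Φ) → O ≤ Cs (Q.map Φ)) : CN Φ K₀ Z Q := by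
  have hk := h.ker
  have hQ : IsPGroup 2 Q := h.syl.2.1.to_le rd.qu
  have hQ2 := isPGroup_iff_is2.1 hQ
  have ht2 : t * t = 1 := h.uf.inv.1
  have htH : t ∈ Cs (Z.map Φ) := mem_Cs_map.2 fun z hz => (h.act.comm (ra.tz z hz)).symm
  have hCH : (Cs Z).map Φ ≤ Cs (Z.map Φ) := by
    rintro _ ⟨y, hy, rfl⟩; exact map_mem_Cs hy
  have hTH : U.map Φ ⊔ zpowers t ≤ Cs (Z.map Φ) :=
    sup_le ((map_mono rd.uz).trans hCH) (zpowers_le.2 htH)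
  have hτQ : τ ∈ H67.SA.St Q := rd.stq τ (rd.str τ rd.tr)
  have hMH : Ns Φ.range ⊓ Cs (Z.map Φ) ≤ Ns (Q.map Φ) := fun m ⟨hm, hc⟩ => by
    obtain ⟨β, hβ⟩ := exists_ind hk hm
    exact hβ.mem_Ns_map (rd.stq β (rd.str β ((ind_comm_iff hk hβ (is2_of_sq rd.inv.1)).1
      (mem_Cs_map.1 hc r rd.rz).symm)))
  have hsc0 : ∀ y ∈ Q, ∀ g ∈ K₀, g ∈ Cs (Z.map Φ) → g * Φ y * g⁻¹ ∈ U.map Φ ⊔ zpowers t →
      g * Φ y * g⁻¹ ∈ Q.map Φ := fun y hy g hg hc hT => by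
    refine sc y hy g hg hc ?_
    have h1 : g * Φ y * g⁻¹ ∈ K₀ := mul_mem (mul_mem hg (h.le ⟨y, rfl⟩)) (inv_mem hg)
    rcases (mem_sup_zp (h.act.mem_Ns_map h.stU) ht2).1 hT with h2 | h2
    · exact h2
    · exact absurd ((mul_mem_cancel_left h1).1 (h.le (map_le_range Φ U h2))) h.nt
  rcases gc G (Ns Φ.range) (Cs (Z.map Φ)) (U.map Φ ⊔ zpowers t) (Z.map Φ) (Q.map Φ)
    ⟨hTH, h.sylS.2.1, by
      have h1 := h.sylS.2.2
      rw [relIndex_top_right, ← relIndex_mul_index hTH] at h1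
      exact (Nat.odd_mul.1 h1).1⟩ (map_mono rd.zq) ((map_mono rd.qu).trans le_sup_left) le_rfl
    (by rintro _ ⟨y, hy, rfl⟩; exact ⟨_, rd.sq y hy, map_mul Φ y y⟩)
    (by
      rintro _ ⟨y, hy, rfl⟩ g hg hT
      rcases h.top g with h1 | h1
      · exact hsc0 y hy g h1 hg hT
      · have h2 : g * Φ y * g⁻¹ = g * t * Φ (τ y) * (g * t)⁻¹ := by
          have h3 : τ (τ y) = y := by rw [← MulAut.mul_apply, h.t2, MulAut.one_apply]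
          conv_lhs => rw [← h3, ← h.act]
          group
        rw [h2] at hT ⊢
        exact hsc0 _ ((hτQ y).1 hy) _ h1 (mul_mem hg htH) hT) hMH with
    ⟨O, hOH, hO, hN, hdec⟩ | ⟨N, B, gd⟩
  · have h1 := c1 O hO (hN (le_normalizer htH)) (hCH.trans (le_normalizer.trans hN))
      fun o ho => hMH ⟨ho.2, hOH ho.1⟩
    intro g hg
    obtain ⟨o, ho, m, hm, rfl⟩ := hdec g hg.2
    exact mul_mem (Cs_le_Ns _ (h1 ho)) hm.2
  · exfalso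
    have hPB : P.map Φ ≤ Ns B := pe.trans ((closure_le _).2 fun s hs =>
      (gd.inv s hs.2.1 hs.1 hs.2.2).2)
    obtain ⟨hB, x, hx, y, hy, xc, yc, hxB, hyB, hne⟩ := (ra.irr (Q ⊓ B.comap Φ)
      (fun z hz => ⟨rd.zq hz, gd.vb ⟨z, hz, rfl⟩⟩) inf_le_left
        fun p hp => mem_normalizer_fintype fun y hy => by
          have h1 : Φ (p * y * p⁻¹) ∈ B := by
            rw [map_mul, map_mul, map_inv]
            exact H98.conj_mem_of_mem_normalizer (hPB ⟨p, hp, rfl⟩) hy.2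
          exact ⟨(mem_map2 hk hQ ((hQ2 y hy.1).conj p)).1 (gd.bq h1), h1⟩).resolve_left fun h1 => by
      obtain ⟨_, ⟨y, hy, rfl⟩, -, -, h2, -⟩ := gd.four
      exact h2 (h1 hy).2
    obtain ⟨d, -, -, hdB, hb⟩ := gd.tr (Φ x) ⟨x, hx, rfl⟩ (Φ y) ⟨y, hy, rfl⟩
      (fun h1 => hxB ⟨hx, h1⟩) fun h1 => hyB ⟨hy, h1⟩
    obtain ⟨z, hz, ez⟩ := gd.bq hb
    have hzZ : z ∈ Z := hB ⟨⟨hz, (ez ▸ hb : Φ z ∈ B)⟩, mem_Cs.2 fun w hw => by
      refine inj2 hk (hQ2 _ (mul_mem hw.1 hz)) (hQ2 _ (mul_mem hz hw.1)) ?_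
      have k1 : Φ x ∈ Cz (Φ w) := mem_Cz.2 (by rw [← map_mul, ← map_mul, mem_Cs.1 xc w hw])
      have k2 : Φ y ∈ Cz (Φ w) := mem_Cz.2 (by rw [← map_mul, ← map_mul, mem_Cs.1 yc w hw])
      have k3 : d ∈ Cz (Φ w) := mem_Cz.2 (mem_Cs.1 hdB _ hw.2)
      have k4 := mem_Cz.1 (mul_mem (mul_mem (mul_mem k3 k1) (inv_mem k3)) (inv_mem k2))
      rw [map_mul, map_mul, ez, k4]⟩
    have h1 : d * Φ x * d⁻¹ = Φ (z * y) := by rw [map_mul, ez, inv_mul_cancel_right]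
    have h2 : z * y * (z * y) = y * y := by
      have h3 : z * y = y * z := rd.uz (rd.qu hy) z hzZ
      calc z * y * (z * y) = y * z * (z * y) := by rw [← h3]
        _ = y * (z * z) * y := by group
        _ = y * y := by rw [rd.z2 z hzZ, mul_one]
    have h3 : Φ (x * x) * d = d * Φ (x * x) := hdB _ (gd.vb ⟨_, rd.sq x hx, rfl⟩)
    refine hne (inj2 hk (hQ2 _ (mul_mem hx hx)) (hQ2 _ (mul_mem hy hy)) ?_)
    rw [← h2, map_mul Φ (z * y), ← h1, ← mul_inv_eq_iff_eq_mul.2 h3.symm, map_mul]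
    group

/-- `JobCA` with the weak fact `RA2`. -/
def JobCA2 : Prop := JobGC.{u} → All1.{u} fun _ _ _ _ _ _ _ _ _ _ _ ι τ _ Go U _ _ Φ K₀ =>
  ∀ r Z Q P, RD ι τ Go U r Z Q → H78.Y3.RA2 τ Z Q P → PE Φ Z P → SC U Φ K₀ Z Q → CN Φ K₀ Z Q

theorem jobCA2 : JobCA2.{u} := by
  intro gc n F _ _ _ _ _ _ G _ _ e t Y _ _ _ ι τ Gd Go U Φ K₀ h r Z Q P rd ra pe sc
  exact main gc h rd ra pe sc fun O h1 h2 h3 h4 => h.case1 rd h1 h2 h3 h4

end Y3CA
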