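import Cfsg.Agent.H78.P6.H78_S2Def

namespace H78 end H78
open H78
namespace H85.P6 end H85.P6
open H85.P6
namespace H85.P6.H78 end H85.P6.H78
open H85.P6.H78
namespace H85.P6.H78.S2 end H85.P6.H78.S2
open H85.P6.H78.S2
namespace H78.P6


/-! STD-SP chapter II: a toolbox for the slots on the family `y`. -/

set_option autoImplicit false
set_option linter.unusedSectionVars false

namespace H78.S2

open H64.SG (Cz Cs Ns)
open H67.UA hiding Par
open H67.SP
open H67.SA (SLn la)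
open H86.SPI (ok pp hf_self hf_comm EE_mul' EE_comm EE_sq hf_smul_right')
open Matrix Subgroup

universe u

variable {n : ℕ} {F : Type} [Field F] [StarRing F] [TrivialStar F] [CharP F 2] [Finite F] [Par n F]

theorem ac_EE' {u v x : Vn n F} (h : hf v u = 0) (hx : hf x u = 0) (c : F) :
    ac (EE u v c) x = x + hf x v • u := ac_EE_perp (ok h c) hx

theorem ac_EE_u {u v : Vn n F} (h : hf v u = 0) (c : F) : ac (EE u v c) u = u :=
  ac_EE_self (ok h c)

theorem ac_Tc' (c : F) (u y : Vn n F) : ac (Tc c u) y = y + (c * hf y u) • u :=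
  ac_Tc (hf_self u) (star_trivial c) y

theorem ac_Tc_fix (c : F) {u y : Vn n F} (h : hf y u = 0) : ac (Tc c u) y = y := by
  rw [ac_Tc', h, mul_zero, zero_smul, add_zero]

theorem ac_qq' {u v : Vn n F} (h : hf v u = 0) (y : Vn n F) :
    ac (qq v u) y = y + hf y v • u + hf y u • v := ac_qq (pp (hf_symm h)) y

theorem ac_qq_fix {u v y : Vn n F} (h : hf v u = 0) (h1 : hf y u = 0) (h2 : hf y v = 0) :
    ac (qq v u) y = y := by simp [ac_qq' h, h1, h2]

theorem qq_smul' (a : F) (v u : Vn n F) : qq (a • v) u = qq v (a • u) := by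
  rw [qq_smul, star_trivial]

theorem EE_shift' (a : F) (u x : Vn n F) (c : F) : EE u (x + a • u) c = EE u x c := by
  rw [EE_shift, tr_eq_zero.2 (star_trivial a), add_zero]

theorem Tc_mul (a b : F) (u : Vn n F) : Tc a u * Tc b u = Tc (a + b) u :=
  (Tc_add (hf_self u) (star_trivial a) (star_trivial b)).symm

theorem Tc_sq (a : F) (u : Vn n F) : Tc a u * Tc a u = 1 := Tc_mul_self (hf_self u) (star_trivial a)

theorem Tc_smul' (a c : F) (u : Vn n F) : Tc c (a • u) = Tc (a ^ 2 * c) u := by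
  rw [Tc_smul, nm, star_trivial, pow_two]

theorem EE_mul_Tc {u v : Vn n F} (h : hf v u = 0) (c d : F) : EE u v c * Tc d u = EE u v (c + d) := by
  simpa using EE_mul' h (hf_zero_left u) c d

theorem Tc_mul_EE {u v : Vn n F} (h : hf v u = 0) (c d : F) : Tc d u * EE u v c = EE u v (c + d) := by
  rw [EE_comm (hf_zero_left u) h, EE_mul_Tc h]

theorem EE_conj' {u v : Vn n F} (h : hf v u = 0) (c : F) (g : XU n F) :
    g * EE u v c * g⁻¹ = EE (ac g u) (ac g v) c := EE_conj (ok h c) g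

theorem EE_fix {u v : Vn n F} (h : hf v u = 0) (c : F) {g : XU n F} (h1 : ac g u = u)
    (h2 : ac g v = v) : g * EE u v c = EE u v c * g := by
  rw [← mul_inv_eq_iff_eq_mul, EE_conj' h, h1, h2]

theorem EE_inj' {u x y : Vn n F} {c d : F} (hu : u ≠ 0) (h : hf x u = 0) (h' : hf y u = 0)
    (e : EE u x c = EE u y d) : (∃ a : F, y = x + a • u) ∧ c = d := by
  obtain ⟨a, h1, h2⟩ := EE_inj hu (ok h c) (ok h' d) e
  exact ⟨⟨a, h1⟩, by rwa [tr_eq_zero.2 (star_trivial a), add_zero] at h2⟩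

theorem Tc_inj {u : Vn n F} (hu : u ≠ 0) {c d : F} (e : Tc c u = Tc d u) : c = d :=
  (EE_inj' hu (hf_zero_left u) (hf_zero_left u) e).2

theorem li_ne {u x : Vn n F} (h : Li u x) : u ≠ 0 := fun k => one_ne_zero (h 1 0 (by simp [k])).1

theorem li_symm {u x : Vn n F} (h : Li u x) : Li x u := fun a b k =>
  (h b a (by rwa [add_comm])).symm

theorem dep_of_not_li {u x : Vn n F} (hu : u ≠ 0) (h : ¬ Li u x) : ∃ c : F, x = c • u := by
  simp only [Li, not_forall] at h
  obtain ⟨a, b, h1, h2⟩ := h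
  have hb : b ≠ 0 := by
    rintro rfl
    exact h2 ⟨(smul_eq_zero.1 (by simpa using h1)).resolve_right hu, rfl⟩
  refine ⟨b⁻¹ * a, ?_⟩
  have h3 : b • x = a • u := by rw [← zero_add (a • u), ← h1, add_right_comm, v_add_self, zero_add]
  rw [mul_smul, ← h3, inv_smul_smul₀ hb]

theorem li_of_not_dep {u x : Vn n F} (hu : u ≠ 0) (h : ∀ c : F, x ≠ c • u) : Li u x := by
  by_contra k
  obtain ⟨c, hc⟩ := dep_of_not_li hu k
  exact h c hc

/-- a vector with prescribed products with `u` and `x` -/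
theorem exists_dual {u x : Vn n F} (h : Li u x) (a b : F) : ∃ v, hf v u = a ∧ hf v x = b := by
  obtain ⟨v, hv⟩ := H54.SPF.sep 2 ![u, x] (H54.SPF.li_iff.1 h) ![a, b]
  exact ⟨v, hv 0, hv 1⟩

theorem exists_dual3 {u x w : Vn n F} (h : Li3 u x w) (a b c : F) :
    ∃ v, hf v u = a ∧ hf v x = b ∧ hf v w = c := by
  obtain ⟨v, hv⟩ := H54.SPF.sep 3 ![u, x, w] (H54.SPF.li3_iff.1 h) ![a, b, c]
  exact ⟨v, hv 0, hv 1, hv 2⟩

variable {G : Type u} [Group G] {e : XU n F →* G} {t : G} {y : Vn n F → Vn n F → G} {δ : F}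
  {u x x' u' : Vn n F} {w w' : G}

theorem Rw.mul (h : Rw e t u x w) (h' : Rw e t u x' w') (h0 : hf x' u = 0) (h1 : hf x u = 0) :
    Rw e t u (x + x') (w * w') where
  tr := by
    rw [show w * w' * t * (w * w')⁻¹ = w * (w' * t * w'⁻¹) * w⁻¹ by group, h'.tr,
      show w * (t * e (qq x' u)) * w⁻¹ = w * t * w⁻¹ * (w * e (qq x' u) * w⁻¹) by group, h.tr,
      h.act _ _ h0, mul_assoc, ← map_mul, EE_mul' h1 h0]
    simp [CharTwo.add_self_eq_zero]
  act v c hv := by
    rw [show w * w' * e (EE u v c) * (w * w')⁻¹ = w * (w' * e (EE u v c) * w'⁻¹) * w⁻¹ by group,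
      h'.act _ _ hv, h.act _ _ hv, hf_add_right, add_assoc, add_comm (hf v x')]

/-- Two elements with the same translation differ by an element of `⟨t⟩ Q_u`. -/
theorem Rw.uq (v : BV e t) (hu : u ≠ 0) (h : Rw e t u x w) (h' : Rw e t u x w') :
    ∃ s c, hf s u = 0 ∧ Te e t (w⁻¹ * w') (EE u s c) := by
  refine v.vq _ u ?_ hu fun s c hs => ?_
  · rw [← mul_inv_eq_iff_eq_mul, show w⁻¹ * w' * t * (w⁻¹ * w')⁻¹ = w⁻¹ * (w' * t * w'⁻¹) * w by
      group, h'.tr, ← h.tr]
    group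
  · rw [← mul_inv_eq_iff_eq_mul, show w⁻¹ * w' * e (EE u s c) * (w⁻¹ * w')⁻¹ =
      w⁻¹ * (w' * e (EE u s c) * w'⁻¹) * w by group, h'.act _ _ hs, ← h.act _ _ hs]
    group

/-- `w EE u v c = EE u v (c + hf v x) w` -/
theorem Rw.mv (h : Rw e t u x w) {v : Vn n F} (hv : hf v u = 0) (c : F) :
    w * e (EE u v c) = e (EE u v (c + hf v x)) * w := mul_inv_eq_iff_eq_mul.1 (h.act v c hv)

theorem Rw.tc (h : Rw e t u x w) (c : F) : w * e (Tc c u) = e (Tc c u) * w := by
  simpa using h.mv (hf_zero_left u) c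

theorem Fam0.fix (f : Fam0 e t y) (h : hf x u = 0) {g : XU n F} (h1 : ac g u = u)
    (h2 : ac g x = x) : e g * y u x = y u x * e g := by
  rw [← mul_inv_eq_iff_eq_mul, f.eqv _ u x h, h1, h2]

theorem Fam0.inv (f : Fam0 e t y) (h : hf x u = 0) : (y u x)⁻¹ = y u x :=
  inv_eq_of_mul_eq_one_right (f.sq u x h)

theorem Fam0.y0 (f : Fam0 e t y) (u : Vn n F) : y u 0 = 1 := by simpa using f.dep u 0

theorem Fam0.sh (f : Fam0 e t y) (h : hf x u = 0) (c : F) :
    y u (x + c • u) = y u x * e (Tc c u) := by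
  by_cases hu : u = 0
  · simp [hu, f.zero]
  by_cases hl : Li u x
  · obtain ⟨v, h1, h2⟩ := exists_dual hl 0 c
    have := f.eqv (EE u v 0) u x h
    rw [ac_EE_u h1, ac_EE' h1 h, hf_comm, h2] at this
    rw [← this, mul_inv_eq_iff_eq_mul, mul_assoc, ← map_mul, Tc_mul_EE h1, (f.rl u x h).mv h1, h2,
      zero_add, CharTwo.add_self_eq_zero]
  · obtain ⟨a, rfl⟩ := dep_of_not_li hu hl
    rw [← add_smul, f.dep, f.dep, ← map_mul, Tc_mul]

theorem Fam.fix (f : Fam e δ y) (h : hf x u = 0) {g : XU n F} (h1 : ac g u = u)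
    (h2 : ac g x = x) : e g * y u x = y u x * e g := by
  rw [← mul_inv_eq_iff_eq_mul, f.eqv _ u x h, h1, h2]

theorem Fam.mv (f : Fam e δ y) (h : hf x u = 0) (g : XU n F) :
    e g * y u x = y (ac g u) (ac g x) * e g := mul_inv_eq_iff_eq_mul.1 (f.eqv g u x h)

theorem Fam.y0 (f : Fam e δ y) (u : Vn n F) : y u 0 = 1 := by simpa using f.dep u 0

theorem Fam.zero (f : Fam e δ y) (x : Vn n F) : y 0 x = 1 := by
  have := f.sw x 0 (hf_zero_left x)
  simpa [f.y0] using this

theorem Fam.sq (f : Fam e δ y) (h : hf x u = 0) : y u x * y u x = 1 := by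
  simpa [hf_self, f.y0] using f.add u x x h h

theorem Fam.inv (f : Fam e δ y) (h : hf x u = 0) : (y u x)⁻¹ = y u x :=
  inv_eq_of_mul_eq_one_right (f.sq h)

theorem Fam.add0 (f : Fam e δ y) (h : hf x u = 0) (h' : hf x' u = 0) (h0 : hf x' x = 0) :
    y u x * y u x' = y u (x + x') := by simpa [h0] using f.add u x x' h h'

theorem Fam.comm (f : Fam e δ y) (h : hf x u = 0) (h' : hf x' u = 0) :
    y u x * y u x' = y u x' * y u x := by
  rw [f.add u x x' h h', f.add u x' x h' h, add_comm, hf_comm]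

theorem Fam.sh (f : Fam e δ y) (h : hf x u = 0) (c : F) :
    y u (x + c • u) = y u x * e (Tc c u) := by
  rw [← f.add0 h (by rw [hf_smul_left, hf_self, mul_zero])
    (by rw [hf_smul_left, hf_symm h, mul_zero]), f.dep]

theorem Fam.tc (f : Fam e δ y) (h : hf x u = 0) (c : F) :
    y u x * e (Tc c u) = e (Tc c u) * y u x :=
  (f.fix h (ac_Tc_fix c (hf_self u)) (ac_Tc_fix c h)).symm

/-- the action on `Q_u` -/
theorem Fam.act (f : Fam e δ y) (h : hf x u = 0) {v : Vn n F} (hv : hf v u = 0) (c : F) :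
    y u x * e (EE u v c) = e (EE u v (c + hf v x)) * y u x := by
  rw [f.mv h, ac_EE_u hv, ac_EE' hv h, f.sh h, mul_assoc, ← map_mul, Tc_mul_EE hv, hf_comm x,
    add_assoc, CharTwo.add_self_eq_zero, add_zero]

theorem Fam.sw' (f : Fam e δ y) (h : hf x u = 0) : y u x = y x u * e (qq u x) :=
  f.sw x u (hf_symm h)

theorem Fam.qc (f : Fam e δ y) (h : hf x u = 0) (a : F) :
    e (qq (a • x) u) * y u x = y u x * e (qq (a • x) u) :=
  have h1 : hf (a • x) u = 0 := by rw [hf_smul_left, h, mul_zero]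
  f.fix h (ac_qq_fix h1 (hf_self u) (hf_symm h1))
    (ac_qq_fix h1 h (by rw [hf_smul_right', hf_self, mul_zero]))

/-- the action on `Q_x` -/
theorem Fam.act' (f : Fam e δ y) (h : hf x u = 0) {v : Vn n F} (hv : hf v x = 0) (c : F) :
    y u x * e (EE x v c) = e (EE x v (c + hf v u)) * y u x := by
  rw [f.sw' h, mul_assoc, ← map_mul, EE_comm (hf_symm h) hv, map_mul, ← mul_assoc,
    f.act (hf_symm h) hv, mul_assoc]

/-- additivity in the first variable -/
theorem Fam.add1 (f : Fam e δ y) (h : hf x u = 0) (h' : hf x u' = 0) :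
    y u x * y u' x = y (u + u') x * e (Tc (δ * hf u' u) x) := by
  have h1 := hf_symm h
  have h2 := hf_symm h'
  have h3 : hf (u + u') x = 0 := by rw [hf_add_left, h1, h2, add_zero]
  have h4 := f.act h2 h1 (hf u u')
  rw [CharTwo.add_self_eq_zero] at h4
  rw [f.sw' h, f.sw' h', f.sw x _ h3, mul_assoc, ← mul_assoc (e _), ← h4, ← mul_assoc, ← mul_assoc,
    f.add x u u' h1 h2]
  simp only [mul_assoc, ← map_mul]
  rw [EE_mul' h1 h2, Tc_mul_EE h3, EE_mul_Tc h3, hf_comm u]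
  simp [CharTwo.add_self_eq_zero]

theorem Fam.add1' (f : Fam e δ y) (h : hf x u = 0) (h' : hf x u' = 0) (h0 : hf u' u = 0) :
    y u x * y u' x = y (u + u') x := by simpa [h0] using f.add1 h h'

theorem Fam.sh1 (f : Fam e δ y) (h : hf x u = 0) (c : F) :
    y (u + c • x) x = y u x * e (Tc c x) := by
  rw [← f.add1' h (by rw [hf_smul_right', hf_self, mul_zero])
    (by rw [hf_smul_left, h, mul_zero]), f.sm c x x (hf_self x), f.dep]

/-- conjugation of `qq s u'` by `y u x`, for `u' ⊥ u, x` and `s ⊥ x, u'` -/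
theorem Fam.cjq (f : Fam e δ y) (h : hf x u = 0) (h1 : hf u' u = 0) (h2 : hf u' x = 0)
    {s : Vn n F} (h3 : hf s u' = 0) (h4 : hf s x = 0) :
    y u x * e (qq s u') * y u x = e (qq s u') * y u' (hf s u • x) := by
  have k : hf x (hf s u • u') = 0 := by rw [hf_smul_right', hf_symm h2, mul_zero]
  have k1 := f.mv h (qq s u')
  rw [ac_EE' h3 (hf_symm h1), ac_qq_fix h3 (hf_symm h2) (hf_symm h4), hf_comm u,
    ← f.add1' h k (by rw [hf_smul_left, h1, mul_zero])] at k1
  rw [mul_assoc, k1, ← mul_assoc, ← mul_assoc, f.sq h, one_mul, f.sm _ _ _ (hf_symm h2)]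
  exact (f.fix (by rw [hf_smul_left, hf_symm h2, mul_zero]) (ac_EE_u h3 0) (ac_qq_fix h3
    (by rw [hf_smul_left, hf_symm h2, mul_zero]) (by rw [hf_smul_left, hf_symm h4, mul_zero]))).symm

end H78.S2
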