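import Cfsg.Agent.H78.P6.H78_S2Kit
import Mathlib.Algebra.QuadraticAlgebra.Basic

namespace H35 end H35
open H35
namespace H85.P6 end H85.P6
open H85.P6
namespace H85.P6.H35 end H85.P6.H35
open H85.P6.H35
namespace H85.P6.H35.S2QX end H85.P6.H35.S2QX
open H85.P6.H35.S2QX
namespace H78.P6


/-! STD-SP chapter II, slot QX: the quadratic extension. -/

set_option autoImplicit false

namespace H35.S2QX

open H67.UA hiding Par
open H67.SP H78.S2 QuadraticAlgebra

theorem jobQX : JobQX := by
  intro F _ _ _ δ h
  have := Fintype.ofFinite F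
  have t2 : (2 : F) = 0 := two0 F
  have : Fact (∀ r : F, r ^ 2 ≠ δ + 1 * r) := ⟨fun r k => h r (by
    linear_combination k + (δ + r) * t2)⟩
  have : Finite (QuadraticAlgebra F δ 1) := Finite.of_equiv _ (equivProd δ 1).symm
  have : CharP (QuadraticAlgebra F δ 1) 2 := charP_of_injective_algebraMap
    (algebraMap_injective (R := F) (a := δ) (b := 1)) 2
  have t3 : (2 : QuadraticAlgebra F δ 1) = 0 := CharTwo.two_eq_zero
  let s : QuadraticAlgebra F δ 1 →ₐ[F] QuadraticAlgebra F δ 1 :=
    { (starRingAut : RingAut (QuadraticAlgebra F δ 1)) with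
      map_zero' := star_zero _
      map_one' := star_one _
      commutes' := fun r => by ext <;> simp [algebraMap_eq] }
  have hw : (ω : QuadraticAlgebra F δ 1) * ω = algebraMap F _ δ + ω := by
    ext <;> simp [algebraMap_eq]
  have hs : star (ω : QuadraticAlgebra F δ 1) = ω + 1 := by
    ext <;> simp [CharTwo.neg_eq]
  have hf : FiniteField.frobeniusAlgHom F (QuadraticAlgebra F δ 1) = s := by
    refine algHom_ext ?_
    have h1 := congrArg (FiniteField.frobeniusAlgHom F (QuadraticAlgebra F δ 1)) hw
    rw [map_mul, map_add, AlgHom.commutes] at h1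
    change _ = star ω
    rw [hs]
    set w := FiniteField.frobeniusAlgHom F (QuadraticAlgebra F δ 1) ω with hw'
    have h2 : (w - ω) * (w - (ω + 1)) = 0 := by
      linear_combination h1 + hw + (algebraMap F _ δ + ω - w * ω) * t3
    refine sub_eq_zero.1 ((mul_eq_zero.1 h2).resolve_left fun k => ?_)
    have h3 : FiniteField.frobeniusAlgHom F (QuadraticAlgebra F δ 1) = 1 :=
      algHom_ext (sub_eq_zero.1 k)
    have h4 := FiniteField.orderOf_frobeniusAlgHom F (QuadraticAlgebra F δ 1)
    rw [h3, orderOf_one, finrank_eq_two] at h4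
    exact absurd h4 (by decide)
  refine ⟨QuadraticAlgebra F δ 1, inferInstance, inferInstance, inferInstance, inferInstance,
    ⟨algebraMap _ _, starRingAut, ?_, fun a => ?_, fun a => star_star a, fun a => ⟨fun k => ?_, ?_⟩⟩,
    fun _ => rfl, ω, ?_, ?_⟩
  · rw [Nat.card_congr (equivProd δ 1), Nat.card_prod, pow_two]
  · rw [Nat.card_eq_fintype_card]
    exact (congrArg (fun f => f a) hf).symm
  · refine ⟨a.re, ?_⟩
    have h1 : (star a).re = a.re := congrArg QuadraticAlgebra.re k
    ext
    · rfl
    · exact (by simpa using h1 : a.im = 0).symm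
  · rintro ⟨r, rfl⟩
    exact s.commutes r
  · rw [tr, hs]; linear_combination ω * t3
  · rw [nm, hs]
    change _ = algebraMap F _ δ
    linear_combination hw + ω * t3

end H35.S2QX
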