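import Cfsg.Agent.H78.P6.H78_S2Kit

namespace H10 end H10
open H10
namespace H85.P6 end H85.P6
open H85.P6
namespace H85.P6.H10 end H85.P6.H10
open H85.P6.H10
namespace H85.P6.H10.S2L end H85.P6.H10.S2L
open H85.P6.H10.S2L
namespace H78.P6


/-! STD-SP chapter II, slot L1: the Steinberg relations of `SL`. -/

set_option autoImplicit false
set_option linter.unusedSectionVars false

namespace H10.S2L

open H78.S2
open H67.UA hiding Par
open H67.SP
open H86.SPI (ok pp hf_self hf_comm EE_mul' EE_comm EE_sq hf_smul_right' qq_zero_left)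
open Matrix Subgroup

universe u

variable {n : ℕ} {F : Type} [Field F] [StarRing F] [TrivialStar F] [CharP F 2] [Finite F] [Par n F]
  {G : Type u} [Group G] {e : XU n F →* G} {y : Vn n F → Vn n F → G} {u x u' f : Vn n F}

theorem ad (r : Fam e 0 y) {x' : Vn n F} (h : hf x u = 0) (h' : hf x' u = 0) :
    y u x * y u x' = y u (x + x') := by simpa using r.add u x x' h h'

theorem ad1 (r : Fam e 0 y) (h : hf x u = 0) (h' : hf x u' = 0) :
    y u x * y u' x = y (u + u') x := by simpa using r.add1 h h'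

theorem sl0 {a b : Vn n F} (h : hf a b = 0) (c : F) : hf (c • a) b = 0 := by
  rw [hf_smul_left, h, mul_zero]

theorem sr0 {a b : Vn n F} (h : hf a b = 0) (c : F) : hf a (c • b) = 0 := by
  rw [hf_smul_right', h, mul_zero]

theorem al0 {a b c : Vn n F} (h : hf a c = 0) (h' : hf b c = 0) : hf (a + b) c = 0 := by
  rw [hf_add_left, h, h', add_zero]

/-- conjugation inside one family -/
theorem cj_same (r : Fam e 0 y) (h : hf x u = 0) (h' : hf f u = 0) :
    y u x * y u f * y u x = y u f := by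
  rw [r.comm h h', mul_assoc, r.sq h, mul_one]

/-- the generic triangle -/
theorem triT (r : Rel e 0 y) (h1 : hf x u = 0) (h2 : hf f u' = 0) (h3 : hf x u' = 0)
    (h4 : hf u' u = 0) (h5 : hf f x = 0) :
    y u x * y u' f * y u x = y u' (f + hf f u • x) := by
  have r' := r.toFam
  by_cases ha : hf f u = 0
  · rw [(r.com u x u' f h1 h2 h4 (hf_symm h3) ha h5).eq, mul_assoc, r'.sq h1, mul_one, ha, zero_smul,
      add_zero]
  by_cases hl : Li3 u x u'
  · have q : Tq u x (hf f u • u') ((hf f u)⁻¹ • f) :=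
      ⟨h1, sl0 h4 _, sl0 (hf_symm h3) _, fun a b c k => by
        obtain ⟨k1, k2, k3⟩ := hl a b (c * hf f u) (by rwa [mul_smul])
        exact ⟨k1, k2, (mul_eq_zero.1 k3).resolve_right ha⟩, sl0 (sr0 h2 _) _, sl0 h5 _,
        by rw [hf_smul_left, inv_mul_cancel₀ ha]⟩
    have := r.tri _ _ _ _ q
    rw [r'.sm _ _ _ (sl0 h2 _), smul_inv_smul₀ ha, r'.sm _ _ _ h3, zero_smul, qq_zero_left, map_one,
      mul_one, ad r' h2 (sl0 h3 _)] at this
    exact this
  simp only [Li3, not_forall] at hl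
  obtain ⟨a, b, c, k, k'⟩ := hl
  have k1 : a = 0 := by
    have := congrArg (hf f) k
    rw [hf_add_right, hf_add_right, hf_smul_right', hf_smul_right', hf_smul_right', h5, h2,
      hf_zero_right] at this
    exact (mul_eq_zero.1 (by simpa using this)).resolve_right ha
  subst k1
  rw [zero_smul, zero_add] at k
  by_cases hb : b = 0
  · subst hb
    have hc : c ≠ 0 := fun hc => k' ⟨rfl, rfl, hc⟩
    have : u' = 0 := (smul_eq_zero.1 (by simpa using k)).resolve_left hc
    subst this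
    rw [r'.zero, r'.zero, mul_one, r'.sq h1]
  obtain ⟨s, rfl⟩ : ∃ s : F, x = s • u' := ⟨b⁻¹ * c, by
    have h3 : b • x = c • u' := by
      rw [← zero_add (c • u'), ← k, add_assoc, v_add_self, add_zero]
    rw [mul_smul, ← h3, inv_smul_smul₀ hb]⟩
  have k2 : hf (s • u) u' = 0 := sl0 (hf_symm h4) s
  have k3 := r'.eqv (qq (s • u) u') u' f h2
  rw [ac_EE_u k2, ac_EE' k2 h2, hf_smul_right'] at k3
  have k4 : y u (s • u') = y u' (s • u) * e (qq (s • u) u') := by
    rw [← r'.sm _ _ _ h4, r'.sw _ _ k2]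
  have k5 := r'.inv h1
  rw [← congrArg (y u (s • u') * y u' f * ·) k5, k4, _root_.mul_inv_rev, r'.inv k2, smul_smul, mul_comm _ s,
    ← cj_same r' k2 (al0 h2 (sl0 (hf_self u') _)), ← k3]
  simp only [mul_assoc]

/-- `x` is a multiple of `u` -/
theorem triL (r : Fam e 0 y) (s : F) (h2 : hf f u' = 0) (h3 : hf (s • u) u' = 0) :
    y u (s • u) * y u' f * y u (s • u) = y u' (f + hf f u • s • u) := by
  have k := r.eqv (Tc s u) u' f h2
  rw [ac_Tc', ac_Tc', hf_comm u' u, ← hf_smul_left, h3, zero_smul, add_zero, ← map_inv,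
    inv_eq_of_mul_eq_one_right (Tc_sq s u), ← r.dep] at k
  rw [k, smul_smul, mul_comm]

/-- `f` is a multiple of `u'` -/
theorem triR (r : Fam e 0 y) (s : F) (h1 : hf x u = 0) (h3 : hf x u' = 0) :
    y u x * y u' (s • u') * y u x = y u' (s • u' + hf (s • u') u • x) := by
  have k := r.mv h1 (Tc s u')
  rw [ac_Tc', ac_Tc_fix s h3, ← r.dep, ← ad1 r h1 (sr0 h3 _), r.sm _ _ _ h3] at k
  rw [mul_assoc, k, ← mul_assoc, ← mul_assoc, r.sq h1, one_mul, ad r (sl0 h3 _) (sl0 (hf_self _) _),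
    add_comm, hf_smul_left, hf_comm u']

theorem comm_of (r : Fam e 0 y) (h1 : hf x u = 0) {B : G} (h : y u x * B * y u x = B) :
    Commute (y u x) B := by
  rw [commute_iff_eq, ← mul_inv_eq_iff_eq_mul, r.inv h1, h]

theorem comm1 (r : Rel e 0 y) (h1 : hf x u = 0) (h2 : hf f u' = 0) (h3 : hf x u' = 0)
    (h4 : hf f u = 0) (h5 : hf f x = 0) : Commute (y u x) (y u' f) := by
  have r' := r.toFam
  have h2' := hf_symm h2
  have k1 := triT r h1 h2' (hf_symm h5) h4 (hf_symm h3)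
  have k2 := r'.cjq h1 h4 h5 h2' (hf_symm h3)
  have k3 : hf (hf u' u • x) f = 0 := sl0 (hf_symm h5) _
  have k4 := r'.fix k3 (ac_EE_u h2' 0) (ac_qq_fix h2' k3 (sl0 h3 _))
  refine comm_of r' h1 ?_
  rw [r'.sw _ _ h2', show y u x * (y f u' * e (qq u' f)) * y u x =
    y u x * y f u' * (y u x * y u x) * e (qq u' f) * y u x by rw [r'.sq h1]; group,
    show y u x * y f u' * (y u x * y u x) * e (qq u' f) * y u x =
      y u x * y f u' * y u x * (y u x * e (qq u' f) * y u x) by group, k1, k2, k4, ← mul_assoc,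
    ad r' (al0 h2' k3) k3, add_assoc, v_add_self, add_zero]

theorem comm2 (r : Rel e 0 y) (h1 : hf x u = 0) (h2 : hf f u' = 0) (h3 : hf x u' = 0)
    (h4 : hf f u = 0) (h5 : hf u' u = 0) : Commute (y u x) (y u' f) := by
  have r' := r.toFam
  have h2' := hf_symm h2
  have k0 : hf (x + hf x f • u') u = 0 := al0 h1 (sl0 h5 _)
  have k1 := triT r h2' k0 h5 (hf_symm h4) (al0 h3 (sl0 (hf_self _) _))
  rw [hf_add_left, sl0 h2', add_zero, add_assoc, v_add_self, add_zero] at k1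
  have k2 := r'.mv h1 (qq u' f)
  rw [ac_qq_fix h2' (hf_symm h4) (hf_symm h5), ac_qq' h2', h3, zero_smul, add_zero] at k2
  rw [commute_iff_eq, r'.sw _ _ h2', mul_assoc, k2, ← k1]
  simp only [mul_assoc]
  rw [← mul_assoc (y f u') (y f u'), r'.sq h2', one_mul]

theorem comm3 (r : Rel e 0 y) (h1 : hf x u = 0) (h2 : hf f u' = 0) (h3 : hf x u' = 0)
    (h4 : hf f u = 0) {p q : Vn n F} (pu : hf p u = 0) (px : hf p x = 0) (pu' : hf p u' = 0)
    (pf : hf p f = 0) (qu : hf q u = 0) (qx : hf q x = 0) (qu' : hf q u' = 0) (qf : hf q f = 0)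
    (qp : hf q p = 1) : Commute (y u x) (y u' f) := by
  have r' := r.toFam
  have k1 := triT r (hf_symm pf) qu' h2 (hf_symm pu') qf
  rw [qp, one_smul, ← ad r' qu' h2] at k1
  have c1 := comm2 r h1 (hf_symm pf) (hf_symm px) h4 pu
  have c2 := comm1 r h1 qu' h3 qu qx
  have k2 : y u' f = (y u' q)⁻¹ * (y p f * y u' q * y p f) := by rw [k1]; group
  rw [k2]
  exact c2.inv_right.mul_right ((c1.mul_right c2).mul_right c1)

theorem ev0 {i j : Fin (n + 1)} (h : j ≠ i.rev) : hf (ev i : Vn n F) (ev j) = 0 := by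
  rw [hf_ev, if_neg h]

theorem ev0' {i j : Fin (n + 1)} (h : i ≠ j) : hf (ev i : Vn n F) (ev j.rev) = 0 :=
  ev0 fun k => h (Fin.rev_inj.1 k).symm

theorem ev1 (i : Fin (n + 1)) : hf (ev i : Vn n F) (ev i.rev) = 1 := by rw [hf_ev, if_pos rfl]

theorem exists_m (h : 5 ≤ n) (i j : Fin (n + 1)) : ∃ m, m ≠ i ∧ m ≠ j ∧ m ≠ i.rev ∧ m ≠ j.rev := by
  by_contra k
  push Not at k
  have h1 : (Finset.univ : Finset (Fin (n + 1))) ⊆ {i, j, i.rev, j.rev} := fun m _ => by
    by_contra k'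
    simp only [Finset.mem_insert, Finset.mem_singleton, not_or] at k'
    exact k'.2.2.2 (k m k'.1 k'.2.1 k'.2.2.1)
  have h2 := (Finset.card_le_card h1).trans Finset.card_le_four
  rw [Finset.card_univ, Fintype.card_fin] at h2
  omega

theorem stA (r : Rel e 0 y) : H57.StA (xL y) where
  add i j h s t := by
    rw [xL, xL, xL, ad r.toFam (sl0 (ev0' h) _) (sl0 (ev0' h) _), add_smul]
  comm i j k l h1 h2 h3 h4 s t := by
    have a1 : hf (s • ev i : Vn n F) (ev j.rev) = 0 := sl0 (ev0' h1) _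
    have a2 : hf (t • ev k : Vn n F) (ev l.rev) = 0 := sl0 (ev0' h2) _
    have a3 : hf (s • ev i : Vn n F) (ev l.rev) = 0 := sl0 (ev0' h3) _
    have a4 : hf (t • ev k : Vn n F) (ev j.rev) = 0 := sl0 (ev0' h4.symm) _
    by_cases c1 : i = k.rev
    swap
    · exact comm1 r a1 a2 a3 a4 (sl0 (sr0 (ev0 c1) _) _)
    by_cases c2 : l.rev = j
    swap
    · exact comm2 r a1 a2 a3 a4 (ev0' c2)
    subst c1 c2
    obtain ⟨m, m1, m2, m3, m4⟩ := exists_m (Par.five (n := n) (F := F)) k l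
    have m1' : m.rev ≠ k := fun z => m3 (Fin.rev_eq_iff.1 z)
    have m2' : m.rev ≠ l := fun z => m4 (Fin.rev_eq_iff.1 z)
    have m3' : m.rev ≠ k.rev := fun z => m1 (Fin.rev_inj.1 z)
    have m4' : m.rev ≠ l.rev := fun z => m2 (Fin.rev_inj.1 z)
    exact comm3 r a1 a2 a3 a4 (p := ev m.rev) (q := ev m) (ev0' m4') (sr0 (ev0' m1') _) (ev0' m2')
      (sr0 (ev0 (by rw [Fin.rev_rev]; exact m1.symm)) _) (ev0' m4) (sr0 (ev0' m1) _) (ev0' m2)
      (sr0 (ev0 m1'.symm) _) (ev1 m)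
  tri i j k h1 h2 h3 s t := by
    have r' := r.toFam
    have a1 : hf (s • ev i : Vn n F) (ev j.rev) = 0 := sl0 (ev0' h1) _
    have a2 : hf (t • ev j : Vn n F) (ev k.rev) = 0 := sl0 (ev0' h2) _
    have a3 : hf (s • ev i : Vn n F) (ev k.rev) = 0 := sl0 (ev0' h3) _
    have key : y (ev j.rev) (s • ev i) * y (ev k.rev) (t • ev j) * y (ev j.rev) (s • ev i) =
        y (ev k.rev) (t • ev j + hf (t • ev j : Vn n F) (ev j.rev) • s • ev i) := by
      by_cases c1 : i = j.rev
      · subst c1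
        exact triL r' s a2 a3
      by_cases c2 : k.rev = j
      · subst c2
        exact triR r' t a1 a3
      exact triT r a1 a2 a3 (ev0' c2) (sl0 (sr0 (ev0 c1) _) _)
    rw [xL, xL, xL, r'.inv a1, r'.inv a2, key, ad r' (al0 a2 (sl0 a3 _)) a2, add_right_comm,
      v_add_self, zero_add, hf_smul_left, ev1, mul_one, smul_smul, mul_comm]

theorem jobL1 : JobL1.{u} := fun _ _ _ _ _ _ _ _ _ _ _ _ _ _ _ _ _ _ r => stA r

end H10.S2L
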