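import Cfsg.Agent.H78.P6.H78_S2Kit

namespace H30 end H30
open H30
namespace H85.P6 end H85.P6
open H85.P6
namespace H85.P6.H30 end H85.P6.H30
open H85.P6.H30
namespace H85.P6.H30.S2UZ end H85.P6.H30.S2UZ
open H85.P6.H30.S2UZ
namespace H78.P6


/-! STD-SP chapter II, slot UZ: the unitary family. -/

set_option autoImplicit false
set_option linter.all false

namespace H30.S2UZ

open H67.UA hiding Par
open H67.SP H78.S2
open H86.SPI (hf_self hf_comm EE_mul' hf_smul_right' hf_comb qq_dep)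

universe u

variable {n : ℕ} {F : Type} [Field F] [StarRing F] [TrivialStar F] [CharP F 2] [Finite F] [Par n F]
  {G : Type u} [Group G] {e : XU n F →* G} {t : G} {y : Vn n F → Vn n F → G} {δ : F}
  {u x x' u' s s' z z' f : Vn n F}

theorem hs (h : hf x u = 0) (a : F) : hf (a • x) u = 0 := by rw [hf_smul_left, h, mul_zero]
theorem hs' (h : hf u x = 0) (a : F) : hf u (a • x) = 0 := by rw [hf_smul_right', h, mul_zero]

variable (e y) in
/-- `EE u (s + η z) c` -/
noncomputable def V (u s z : Vn n F) (c : F) : G := e (EE u s c) * y u z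

theorem V_tc (r : Fam e δ y) (h1 : hf s u = 0) (h2 : hf z u = 0) (c d : F) :
    V e y u s z c * e (Tc d u) = V e y u s z (c + d) := by
  rw [V, V, mul_assoc, r.tc h2, ← mul_assoc, ← map_mul, EE_mul_Tc h1]

theorem V_mul (r : Fam e δ y) (h1 : hf s u = 0) (h2 : hf z u = 0) (h3 : hf s' u = 0)
    (h4 : hf z' u = 0) (c c' : F) : V e y u s z c * V e y u s' z' c' =
      V e y u (s + s') (z + z') (c + (c' + hf s' z) + hf s' s + δ * hf z' z) := by
  rw [← V_tc r (by rw [hf_add_left, h1, h3, add_zero]) (by rw [hf_add_left, h2, h4, add_zero]),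
    V, V, V, mul_assoc, ← mul_assoc (y u z), r.act h2 h3, mul_assoc, r.add u z z' h2 h4,
    ← mul_assoc, ← map_mul, EE_mul' h1 h3, mul_assoc]

theorem V_conj (r : Fam e δ y) (h1 : hf s u = 0) (h2 : hf z u = 0) (c : F) (g : XU n F) :
    e g * V e y u s z c * (e g)⁻¹ = V e y (ac g u) (ac g s) (ac g z) c := by
  rw [V, V, ← EE_conj' h1, ← r.eqv g u z h2, map_mul, map_mul, map_inv]; group

theorem V_sw (r : Fam e δ y) (h : hf x u = 0) (a b : F) :
    e (qq (a • x) u) * y (b • x) u = V e y u ((a + b) • x) (b • x) 0 := by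
  have h1 := r.qc (hs h b) 1
  rw [one_smul] at h1
  rw [r.sw u _ (hs h b), ← h1, ← mul_assoc, ← map_mul, EE_mul' (hs h a) (hs h b), V, add_smul]
  simp [hf_smul_left, hf_smul_right', hf_self]

theorem V_two (r : Fam e δ y) (h1 : hf f u = 0) (h2 : hf x u = 0) (h3 : hf f x = 0)
    (a b c d a' b' c' d' : F) :
    V e y u (a • f + b • x) (c • f + d • x) 0 * V e y u (a' • f + b' • x) (c' • f + d' • x) 0 =
      V e y u ((a + a') • f + (b + b') • x) ((c + c') • f + (d + d') • x) 0 := by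
  have k : ∀ a b : F, hf (a • f + b • x) u = 0 := fun a b => by
    rw [hf_add_left, hs h1, hs h2, add_zero]
  rw [V_mul r (k ..) (k ..) (k ..) (k ..), hf_comb h3, hf_comb h3, hf_comb h3]
  congr 1
  · module
  · module
  · simp

theorem tri_y (r : Rel e δ y) (h : Tq u x u' f) (b b' : F) :
    y u (b • x) * y u' (b' • f) * y u (b • x) =
      y u' (b' • f) * y u' ((b * b') • x) * e (qq ((δ * (b * b')) • x) u') := by
  have r' := r.toFam
  by_cases h1 : b = 0
  · simp [h1, r'.y0]
  by_cases h2 : b' = 0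
  · simp [h2, r'.y0, r'.sq (hs h.xu b)]
  have := r.tri u (b • x) (b' • u') f ⟨hs h.xu b, hs h.uu b', hs (hs' h.ux b) b', fun p q w k => by
    rw [smul_smul, smul_smul] at k
    obtain ⟨k1, k2, k3⟩ := h.li _ _ _ k
    exact ⟨k1, (mul_eq_zero.1 k2).resolve_right h1, (mul_eq_zero.1 k3).resolve_right h2⟩,
    hs' h.fu' b', hs' h.fx b, h.fu⟩
  rw [r'.sm b' u' f h.fu', r'.sm b' u' _ (hs (hf_symm h.ux) b), ← qq_smul', smul_smul, smul_smul,
    smul_smul] at this
  rw [this, mul_comm b' b]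
  congr 4
  ring

theorem V_tri (r : Rel e δ y) (h : Tq u x u' f) (a b a' b' : F) :
    V e y u (a • x) (b • x) 0 * V e y u' (a' • f) (b' • f) 0 * V e y u (a • x) (b • x) 0 =
      V e y u' (a' • f) (b' • f) 0 *
        V e y u' ((a * a' + δ * (b * b')) • x) ((a * b' + a' * b + b * b') • x) 0 := by
  have r' := r.toFam
  have xu' := hf_symm h.ux
  have k1 := r'.cjq (hs h.xu b) h.uu (hs' h.ux b) (hs h.fu' a') (hs (hs' h.fx b) a')
  rw [hf_smul_left, h.fu, mul_one, smul_smul] at k1
  have k2 := tri_y r h b b'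
  have k3 : y u (b • x) * V e y u' (a' • f) (b' • f) 0 * y u (b • x) =
      V e y u' (a' • f + (δ * (b * b')) • x) (b' • f + (a' * b + b * b') • x) 0 := by
    have e1 := V_two r' h.fu' xu' h.fx a' 0 0 (a' * b) 0 0 b' 0
    have e2 := V_two r' h.fu' xu' h.fx a' 0 b' (a' * b) 0 0 0 (b * b')
    have e3 := V_two r' h.fu' xu' h.fx a' 0 b' (a' * b + b * b') 0 (δ * (b * b')) 0 0
    simp only [zero_smul, add_zero, zero_add] at e1 e2 e3
    rw [← e3, ← e2, ← e1]
    simp only [V, EE_zero, map_one, one_mul, r'.y0, mul_one]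
    rw [← k1]
    simp only [mul_assoc] at k2 ⊢
    rw [← k2]
    rw [← mul_assoc (y u (b • x)) (y u (b • x)), r'.sq (hs h.xu b), one_mul]
  have q1 := hs h.xu a
  have a1 : ac (qq (a • x) u) u' = u' := ac_qq_fix q1 h.uu (hs' h.ux a)
  have a2 : ac (qq (a • x) u) x = x := ac_qq_fix q1 h.xu (hs' (hf_self x) a)
  have a3 : ac (qq (a • x) u) f = f + a • x := by rw [ac_qq' q1, hs' h.fx, h.fu]; simp
  have k : ∀ a b : F, hf (a • f + b • x) u' = 0 := fun a b => by
    rw [hf_add_left, hs h.fu', hs xu', add_zero]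
  have k4 := V_conj r' (k a' (δ * (b * b'))) (k b' (a' * b + b * b')) 0 (qq (a • x) u)
  simp only [ac_add, ac_smul, a1, a2, a3] at k4
  have k5 : e (qq (a • x) u) * y u (b • x) = y u (b • x) * e (qq (a • x) u) :=
    r'.fix (hs h.xu b) (ac_EE_u q1 0) (by rw [ac_smul, a2])
  have k6 : (e (qq (a • x) u))⁻¹ = e (qq (a • x) u) :=
    inv_eq_of_mul_eq_one_right (by rw [← map_mul, H86.SPI.qq_sq q1, map_one])
  have e4 := V_two r' h.fu' xu' h.fx a' 0 b' 0 0 (a * a' + δ * (b * b')) 0
    (a * b' + a' * b + b * b')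
  simp only [zero_smul, add_zero, zero_add] at e4
  rw [← k3, k6] at k4
  rw [e4, show a' • f + (a * a' + δ * (b * b')) • x = a' • (f + a • x) + (δ * (b * b')) • x by module,
    show b' • f + (a * b' + a' * b + b * b') • x = b' • (f + a • x) + (a' * b + b * b') • x by module,
    ← k4]
  have hV : V e y u (a • x) (b • x) 0 = e (qq (a • x) u) * y u (b • x) := rfl
  rw [hV]
  nth_rw 2 [k5]
  simp only [mul_assoc]

theorem jobUZ : JobUZ.{u} := by
  intro n F _ _ _ _ _ _ G _ _ e t _ _ _ _ v δ y r tw K _ _ _ _ q hq η h1 h2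
  have r' := r.toFam
  have t2 := two0 K
  have sφ : ∀ a, star (q.φ a) = q.φ a := fun a => by rw [hq, (q.fix _).2 ⟨a, rfl⟩]
  have h3 : star η = η + 1 := by linear_combination h1 - η * t2
  have h4 : η * η = η + q.φ δ := by
    rw [nm, h3] at h2; linear_combination h2 - η * t2
  have co : ∀ α : K, ∃ p : F × F, α = q.φ p.1 + q.φ p.2 * η := fun α => by
    obtain ⟨b, hb⟩ := (q.fix (tr α)).1 (by rw [← hq, star_tr])
    obtain ⟨a, ha⟩ := (q.fix (α + q.φ b * η)).1 (by
      rw [← hq, star_add, star_mul', sφ, h3, hb, tr]; linear_combination star α * t2)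
    exact ⟨(a, b), by rw [ha]; linear_combination -(q.φ b * η) * t2⟩
  have st : ∀ a b, star (q.φ a + q.φ b * η) = q.φ (a + b) + q.φ b * η := fun a b => by
    rw [star_add, star_mul', sφ, sφ, h3, map_add]; ring
  have trc : ∀ a b, tr (q.φ a + q.φ b * η) = q.φ b := fun a b => by
    rw [tr, st, map_add]; linear_combination (q.φ a + q.φ b * η) * t2
  choose p hp using co
  have uq : ∀ a b, p (q.φ a + q.φ b * η) = (a, b) := fun a b => by
    have k := hp (q.φ a + q.φ b * η)
    have k2 := congrArg tr k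
    rw [trc, trc] at k2
    rw [← k2] at k
    exact Prod.ext (q.φ.injective (add_right_cancel k)).symm (q.φ.injective k2).symm
  have co : ∀ α : K, ∃ a b, α = q.φ a + q.φ b * η := fun α => ⟨_, _, hp α⟩
  have ml : ∀ a b a' b', (q.φ a + q.φ b * η) * (q.φ a' + q.φ b' * η) =
      q.φ (a * a' + δ * (b * b')) + q.φ (a * b' + a' * b + b * b') * η := fun a b a' b' => by
    simp only [map_add, map_mul]; linear_combination q.φ b * q.φ b' * h4
  have f2 := two0 F
  refine ⟨fun u x α => V e y u ((p α).1 • x) ((p α).2 • x) 0, ⟨fun g u x α h => ?_,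
    fun u x a h => ?_, fun u x α β h => ?_, fun u x α h => ?_, fun c u x α h => ?_,
    fun u α c h => ?_, fun u x x' α c h h' k => ?_, fun u x x' α β c h h' k => ?_,
    fun u x u' x' α β k1 k2 k3 k4 k5 k6 => ?_, fun u x u' f α β h => ?_⟩, fun u x α h => ?_⟩
  · rw [V_conj r' (hs h _) (hs h _), ac_smul, ac_smul]
  · have := uq a 0
    rw [map_zero, zero_mul, add_zero] at this
    simp [this, V, r'.y0]
  · obtain ⟨a, b, rfl⟩ := co α
    obtain ⟨a', b', rfl⟩ := co β
    rw [show q.φ a + q.φ b * η + (q.φ a' + q.φ b' * η) = q.φ (a + a') + q.φ (b + b') * η by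
      simp only [map_add]; ring]
    simp only [uq]
    rw [V_mul r' (hs h _) (hs h _) (hs h _) (hs h _), add_smul, add_smul]
    simp [hf_smul_left, hf_smul_right', hf_self]
  · obtain ⟨a, b, rfl⟩ := co α
    simp only [st, uq]
    rw [← V_sw r' h, V, r'.sm b x u (hf_symm h), qq_smul', qq_comm]
  · obtain ⟨a, b, rfl⟩ := co α
    rw [show q.φ c * (q.φ a + q.φ b * η) = q.φ (a * c) + q.φ (b * c) * η by
      simp only [map_mul]; ring]
    simp only [uq, smul_smul]
  · obtain ⟨a, b, rfl⟩ := co α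
    rw [trc] at h
    simp only [uq]
    rw [V, show EE u (a • u) 0 = 1 from qq_dep a u, map_one, one_mul, r'.dep, q.φ.injective h]
  · obtain ⟨a, b, rfl⟩ := co α
    rw [nm, st, ml] at k
    have k2 := congrArg p k
    rw [show q.φ c = q.φ c + q.φ 0 * η by simp, uq, uq] at k2
    have k3 : c = a * (a + b) + δ * (b * b) := congrArg Prod.fst k2
    have h'' : hf (x + x') u = 0 := by rw [hf_add_left, h, h', add_zero]
    simp only [uq]
    rw [V_mul r' (hs h _) (hs h _) (hs h' _) (hs h' _), V_tc r' (hs h'' _) (hs h'' _), smul_add,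
      smul_add, k3]
    congr 1
    simp only [hf_smul_left, hf_smul_right']; ring
  · obtain ⟨a, b, rfl⟩ := co α
    obtain ⟨a', b', rfl⟩ := co β
    rw [st, ml, trc] at k
    simp only [uq]
    rw [V_mul r' (hs h _) (hs h _) (hs h' _) (hs h' _), V_mul r' (hs h' _) (hs h' _) (hs h _) (hs h _),
      V_tc r' (by rw [hf_add_left, hs h, hs h', add_zero])
        (by rw [hf_add_left, hs h, hs h', add_zero]), add_comm (a' • x'), add_comm (b' • x'),
      q.φ.injective k]
    congr 1
    simp only [hf_smul_left, hf_smul_right', hf_comm x x']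
    linear_combination (-(a * b' + b * b') * hf x' x) * f2
  · generalize (p α).1 = a, (p α).2 = b, (p β).1 = a', (p β).2 = b'
    have g1 : ac (qq (a • x) u) u' = u' := ac_qq_fix (hs k1 a) k3 (hs' k4 a)
    have g2 : ∀ c : F, ac (qq (a • x) u) (c • x') = c • x' := fun c =>
      ac_qq_fix (hs k1 a) (hs k5 c) (hs (hs' k6 a) c)
    refine Commute.mul_left (Commute.mul_right ?_ (r'.fix (hs k2 _) g1 (g2 _)))
      (Commute.mul_right (Commute.symm (r'.fix (hs k1 _) ?_ ?_)) (r.com _ _ _ _ (hs k1 _) (hs k2 _)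
        k3 (hs' k4 _) (hs k5 _) (hs (hs' k6 _) _)))
    · exact Commute.map (EE_fix (hs k2 _) 0 g1 (g2 _)) e
    · exact ac_qq_fix (hs k2 _) (hf_symm k3) (hs' (hf_symm k5) _)
    · exact ac_qq_fix (hs k2 _) (hs (hf_symm k4) _) (hs (hs' (hf_symm k6) _) _)
  · obtain ⟨a, b, rfl⟩ := co α
    obtain ⟨a', b', rfl⟩ := co β
    simp only [ml, uq]
    exact V_tri r h a b a' b'
  · obtain ⟨a, b, rfl⟩ := co α
    simp only [st, uq]
    rw [← V_sw r' h, ← tw u _ (hs h b), V, ← mul_assoc, v.cen]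
    simp only [mul_assoc]

end H30.S2UZ
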