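import Cfsg.Agent.H78.P6.H78_S2Def
import Cfsg.Agent.H85.P6.H81_UAFX
import Cfsg.Agent.H85.P6.H67_UAFQ

namespace H69 end H69
open H69
namespace H85.P6 end H85.P6
open H85.P6
namespace H85.P6.H69 end H85.P6.H69
open H85.P6.H69
namespace H85.P6.H69.SP2 end H85.P6.H69.SP2
open H85.P6.H69.SP2
namespace H78.P6


/-! STD-SP (row S3129), chapter II, slot `RU`: the homomorphism from `SU`. -/

set_option autoImplicit false
set_option linter.unusedSectionVars false

namespace H69.SP2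

open H67.UA hiding Par
open H67.SP H78.S2
open Matrix Subgroup

universe u

theorem nrmU {n : ℕ} {F K : Type} [Field F] [Finite F] [Field K] [StarRing K] [CharP K 2] [Finite K]
    [p : Par n F] (x : Qx F K) (h : ∀ a : K, star a = x.σ a) (N : Subgroup (XU n K))
    (hN : N.Normal) : N ≤ center _ ∨ N = ⊤ := by
  have hf : Hf K := ⟨by
    by_contra hn
    push Not at hn
    have hs : Function.Surjective x.φ := fun a => (x.fix a).1 ((h a).symm.trans (hn a))
    have := Nat.card_le_card_of_surjective _ hs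
    have h2 : 1 < Nat.card F := Finite.one_lt_card
    rw [x.card] at this
    nlinarith⟩
  have hq : qK K = Nat.card F := Nat.pow_left_injective two_ne_zero (Q.card.symm.trans x.card)
  have hp : H67.UA.Par n K := { hf with five := p.five }
  have := H67.UA.jobFQ n K
  obtain ⟨P, e, -⟩ := H81.UAX.exists_iso (n := n) (K := K)
  have := Fintype.ofFinite K
  have := p.five
  have := H59.isSimpleGroup_PSU (H81.UAX.hF (K := K)) (n := n + 1) (by omega) (by omega)
  have : IsSimpleGroup (XU n K ⧸ center _) := (H55.quotCenterCongr e).isSimpleGroup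
  exact H81.UAX.nrm_of (H81.UAX.perf_congr e H81.UAX.su_perf) N hN

theorem jobRU : JobRU.{u} := by
  intro um n F _ _ _ _ _ _ G _ _ e t b c fx fy v K _ _ _ _ x h ct Z uf tw
  obtain ⟨M, mf⟩ := um n F K x h
  set ι := bc (m := n) x.φ (x.st (Or.inr h))
  have U : UF (e.prod ι) x.φ fun u y α => (Z u y α, zM x.φ u y α) :=
    ⟨fun g u y α k => Prod.ext (uf.eqv g u y α k) (M.eqv g u y α k),
      fun u y a k => Prod.ext (uf.rat u y a k) (M.rat u y a k),
      fun u y α β k => Prod.ext (uf.add u y α β k) (M.add u y α β k),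
      fun u y α k => Prod.ext (uf.sw u y α k) (M.sw u y α k),
      fun a u y α k => Prod.ext (uf.sm a u y α k) (M.sm a u y α k),
      fun u α a k => Prod.ext (uf.dep u α a k) (M.dep u α a k),
      fun u y y' α a k k' l => Prod.ext (uf.ad2 u y y' α a k k' l) (M.ad2 u y y' α a k k' l),
      fun u y y' α β a k k' l => Prod.ext (uf.cm u y y' α β a k k' l) (M.cm u y y' α β a k k' l),
      fun u y u' y' α β k1 k2 k3 k4 k5 k6 => Prod.ext (uf.com u y u' y' α β k1 k2 k3 k4 k5 k6)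
        (M.com u y u' y' α β k1 k2 k3 k4 k5 k6),
      fun u y u' f α β k => Prod.ext (uf.tri u y u' f α β k) (M.tri u y u' f α β k)⟩
  have inj := ct.2 (G × XU n K) (MonoidHom.snd _ _) _ _ U (fun _ => rfl) fun _ _ _ _ => rfl
  have top : ∀ A : Subgroup (XU n K), (∀ g, ι g ∈ A) →
      (∀ u y α, hf y u = 0 → zM x.φ u y α ∈ A) → ⊤ ≤ A := fun A k1 k2 => by
    rw [← ct.1]
    refine sup_le ?_ ((closure_le _).2 ?_)
    · rintro _ ⟨g, rfl⟩
      exact k1 g
    · rintro _ ⟨u, y, α, k, rfl⟩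
      exact k2 u y α k
  obtain ⟨Φ, hΦ⟩ := H57.exists_hom_of_inj
    (κ := XU n F ⊕ {p : Vn n F × Vn n F × K // hf p.2.1 p.1 = 0})
    (Sum.elim e fun p => Z p.1.1 p.1.2.1 p.1.2.2) (Sum.elim ι fun p => zM x.φ p.1.1 p.1.2.1 p.1.2.2)
    (eq_top_iff.2 (top _ (fun g => subset_closure ⟨.inl g, rfl⟩)
      fun u y α k => subset_closure ⟨.inr ⟨(u, y, α), k⟩, rfl⟩))
    fun g hg => inj g ((closure_le _).2 (by
      rintro _ ⟨k | k, rfl⟩
      · exact mem_sup_left ⟨k, rfl⟩
      · exact mem_sup_right (subset_closure ⟨_, _, _, k.2, rfl⟩)) hg)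
  have r1 : ∀ g, Φ (ι g) = e g := fun g => hΦ (.inl g)
  have r2 : ∀ u y α, hf y u = 0 → Φ (zM x.φ u y α) = Z u y α :=
    fun u y α k => hΦ (.inr ⟨(u, y, α), k⟩)
  refine ⟨Φ, (nrmU x h _ inferInstance).resolve_right fun k => ?_, r1, fun s => ?_⟩
  · obtain ⟨a, ha⟩ := (FA.ns (n := n) (F := F)).exists_ne
    exact ha (v.inj (by rw [← r1, map_one]; exact k.ge (mem_top _)))
  · refine top (((MulAut.conj t).toMonoidHom.comp Φ).eqLocus
      (Φ.comp (fa x.σ (x.sf (Or.inr h))).toMonoidHom)) (fun g => ?_) (fun u y α k => ?_) (mem_top s)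
    · change t * Φ (ι g) * t⁻¹ = Φ (fa x.σ (x.sf (Or.inr h)) (ι g))
      rw [show fa x.σ (x.sf (Or.inr h)) (ι g) = ι g from
        X_ext (Matrix.ext fun i j => (x.fix _).2 ⟨_, rfl⟩), r1, v.cen, mul_inv_cancel_right]
    · change t * Φ (zM x.φ u y α) * t⁻¹ = Φ (fa x.σ (x.sf (Or.inr h)) (zM x.φ u y α))
      rw [mf u y α k, r2 _ _ _ k, r2 _ _ _ k, tw u y α k]

end H69.SP2
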