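import Cfsg.Agent.H78.P6.H78_S2Def

namespace H54 end H54
open H54
namespace H57 end H57
open H57
namespace H78 end H78
open H78
namespace H85.P6 end H85.P6
open H85.P6
namespace H85.P6.H54 end H85.P6.H54
open H85.P6.H54
namespace H85.P6.H57 end H85.P6.H57
open H85.P6.H57
namespace H85.P6.H78 end H85.P6.H78
open H85.P6.H78
namespace H85.P6.H78.S2 end H85.P6.H78.S2
open H85.P6.H78.S2
namespace H78.P6


/-! STD-SP chapter II, slot LV: the Levi data of `XU n K`. -/

set_option autoImplicit false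
set_option linter.unusedSectionVars false

namespace H78.S2

open H67.UA hiding Par
open H67.SP H54 H57 Matrix
open scoped MatrixGroups

section

variable {n m : ℕ} (hm : n + 1 = 2 * (m + 2))

theorem up_inj {i j : Fin (m + 2)} : up hm i = up hm j ↔ i = j := by simp [up, Fin.ext_iff]

theorem up_ne_rev (i j : Fin (m + 2)) : up hm i ≠ (up hm j).rev := fun h => by
  have := congrArg Fin.val h
  have := i.2
  have := j.2
  simp only [up, Fin.val_rev] at *
  omega

/-- the hyperbolic numbering -/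
noncomputable def eI : (Fin (m + 2) ⊕ Fin (m + 2)) ⊕ Empty ≃ Fin (n + 1) :=
  Equiv.ofBijective (Sum.elim (Sum.elim (up hm) fun k => (up hm k).rev) Empty.elim)
    ((Fintype.bijective_iff_injective_and_card _).2 ⟨by
      rintro ((a | a) | ⟨⟨⟩⟩) ((b | b) | ⟨⟨⟩⟩) h
      · rw [(up_inj hm).1 h]
      · exact (up_ne_rev hm _ _ h).elim
      · exact (up_ne_rev hm _ _ h.symm).elim
      · rw [(up_inj hm).1 (Fin.rev_injective h)], by simp; omega⟩)

theorem eI_l (k : Fin (m + 2)) : eI hm (.inl (.inl k)) = up hm k := rfl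
theorem eI_r (k : Fin (m + 2)) : eI hm (.inl (.inr k)) = (up hm k).rev := rfl

variable (K : Type) [Field K] [StarRing K] [CharP K 2] [Finite K]

/-- the form -/
noncomputable def fdX : FD K (Fin (n + 1)) (m + 2) :=
  FD.ofBlocks (starRingEnd K) 1 (AddMonoidHom.id K + (starRingEnd K).toAddMonoidHom).ker
    (fun a => star_star a) (by simp)
    (fun a => by simp [AddMonoidHom.mem_ker]) (fun a h => by simpa [AddMonoidHom.mem_ker] using h)
    (fun c a h => by
      have h' : a + star a = 0 := h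
      change star c * a * c + star (star c * a * c) = 0
      rw [star_mul', star_mul', star_star]
      linear_combination (c * star c) * h')
    (eI hm).symm 0 fun v _ => funext fun j => j.elim

theorem sq_fdX (u v : Vn n K) : (fdX hm K).sq (fdX hm K).hM u v = hf v u := by
  have h : ∀ u v : Vn n K, (fdX hm K).sq (fdX hm K).M u v =
      ∑ k, star (u (up hm k)) * v (up hm k).rev := fun u v => by
    change (_ ∘ u) ⬝ᵥ ((hypM K _ _).submatrix _ _ *ᵥ v) = _
    rw [hyp_sum]
    simp [dotProduct, eI_l, eI_r]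
    rfl
  rw [FD.sq_hM, h, h, hf, ← (eI hm).sum_comp]
  change _ + 1 * star _ = _
  simp [Fintype.sum_sum_type, eI_l, eI_r, mul_comm, add_comm]

theorem isom_fdX {A : Matrix (Fin (n + 1)) (Fin (n + 1)) K} :
    (fdX hm K).Isom A ↔ ∀ u v, hf (A *ᵥ u) (A *ᵥ v) = hf u v := by
  refine ⟨fun h u v => by rw [← sq_fdX hm, h.1, sq_fdX], fun h => ⟨fun u v => by
    rw [sq_fdX, sq_fdX, h], fun v => ?_⟩⟩
  have := h v v
  rw [← sq_fdX hm, ← sq_fdX hm, FD.sq_hM, FD.sq_hM] at this
  change (_ - _) + star (_ - _) = (0 : K)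
  change _ + 1 * star _ = _ + 1 * star _ at this
  rw [star_sub]
  linear_combination this

variable (n) in
/-- the full isometry group -/
def GX : Subgroup (GL (Fin (n + 1)) K) where
  carrier := {g | ∀ u v, hf (g.1 *ᵥ u) (g.1 *ᵥ v) = hf u v}
  one_mem' := by simp
  mul_mem' := fun {a b} ha hb u v => by
    rw [Units.val_mul, ← mulVec_mulVec, ← mulVec_mulVec, ha, hb]
  inv_mem' := fun {a} ha u v => by
    rw [← ha, mulVec_mulVec, mulVec_mulVec, a.mul_inv, one_mulVec, one_mulVec]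

variable (n) in
/-- its matrices -/
def rhoX : GX n K →* Matrix (Fin (n + 1)) (Fin (n + 1)) K := (Units.coeHom _).comp (GX n K).subtype

theorem rhoX_inj : Function.Injective (rhoX n K) := fun _ _ h => Subtype.ext (Units.ext h)

theorem rhoX_isom (g : GX n K) : (fdX hm K).Isom (rhoX n K g) := (isom_fdX hm K).2 g.2

theorem exists_rhoX (A : Matrix (Fin (n + 1)) (Fin (n + 1)) K) (hA : IsUnit A)
    (h : (fdX hm K).Isom A) : ∃ g, rhoX n K g = A := ⟨⟨hA.unit, (isom_fdX hm K).1 h⟩, rfl⟩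

variable (n) in
/-- `X ≤ GX` -/
def inX : XU n K →* GX n K :=
  (SpecialLinearGroup.toGL.comp (io n K)).codRestrict _ fun g u v => hf_ac g u v

theorem inX_inj : Function.Injective (inX n K) := fun _ _ h =>
  Subtype.ext (SpecialLinearGroup.toGL_injective (congrArg Subtype.val h))

/-- the datum of `GX` -/
noncomputable def cdG : CD K (Fin (n + 1)) (Fin (m + 2)) (GX n K) :=
  (fdX hm K).cd (rhoX n K) (rhoX_inj K) (rhoX_isom hm K) (exists_rhoX hm K)

theorem US_le (l : (Fin (m + 2) → ℤ) →+ ℤ) : (cdG hm K).US (posS l) ≤ (inX n K).range :=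
  fun g hg => by
    obtain ⟨x, hx⟩ := exists_X g.1.1 (CD.det_eq_one hg) g.2
    exact ⟨x, Subtype.ext (Units.ext hx)⟩

/-- the datum of `X` -/
noncomputable def cdX : CD K (Fin (n + 1)) (Fin (m + 2)) (XU n K) :=
  (cdG hm K).comap (inX n K) (inX_inj K) (US_le hm K)

/-- the Levi datum -/
noncomputable def lvX : LV (cdX hm K) :=
  (lvFD (eI hm).symm (fdX hm K) rfl (fun _ => rfl) _ _ _ _).comap _ (inX_inj K) (US_le hm K)

theorem rho_cdX (g : XU n K) : (cdX hm K).ρ g = mt g := rfl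
theorem lvX_up (k : Fin (m + 2)) : (lvX hm K).up k = up hm k := rfl
theorem lvX_dn (k : Fin (m + 2)) : (lvX hm K).dn k = (up hm k).rev := rfl
theorem lvX_θ (a : K) : (lvX hm K).θ a = star a := rfl

theorem lev_tvn {i j : Fin (m + 2)} (h : i ≠ j) (a : K) :
    (lvX hm K).lev (SpecialLinearGroup.transvection h a) = ss (up hm i) (up hm j) a := by
  have r : ∀ k : Fin (m + 2), (up hm k).rev ≠ (up hm k).rev.rev := fun k e =>
    up_ne_rev hm k k (Fin.rev_injective e)
  have p : Pp (ev (up hm j).rev : Vn n K) (a • ev (up hm i)) := by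
    simpa using (pp_ev (K := K) (r j) (up_ne_rev hm i i)
      (by rw [Fin.rev_rev, Ne, up_inj]; exact h)).smul 1 a
  refine X_ext (Matrix.ext fun s t => ?_)
  rw [mt_EE p.ok, mE, zero_smul, add_zero, op_smul_left, op_smul_right, op_ev,
    show ev (up hm i) = (ev (up hm i).rev.rev : Vn n K) by rw [Fin.rev_rev], op_ev, ← rho_cdX hm]
  obtain ⟨k, rfl | rfl⟩ := (lvX hm K).all s <;> obtain ⟨l, rfl | rfl⟩ := (lvX hm K).all t
  · rw [LV.uu, SpecialLinearGroup.transvection_coe]
    simp [lvX_up, one_apply, single_apply, up_inj, (up_ne_rev hm _ _).symm]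
  · rw [LV.ud]
    simp [lvX_up, lvX_dn, one_apply, up_ne_rev hm, (up_ne_rev hm _ _).symm]
  · rw [LV.du]
    simp [lvX_up, lvX_dn, one_apply, up_ne_rev hm, (up_ne_rev hm _ _).symm]
  · rw [LV.dd, SpecialLinearGroup.transvection_inv, SpecialLinearGroup.transvection_coe, lvX_θ]
    simp [lvX_dn, one_apply, single_apply, up_inj, up_ne_rev hm, apply_ite (star : K → K),
      CharTwo.neg_eq, eq_comm, and_comm]

theorem Tc_ev {i : Fin (n + 1)} (hi : i ≠ i.rev) {c : K} (hc : star c = c) :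
    mt (Tc c (ev i)) = 1 + single i i.rev c := by
  rw [mt_EE (ok_zero (ev_iso hi) hc), mE, op_zero_left, op_zero_right, add_zero, add_zero]
  conv_lhs => rw [show op (ev i) (ev i) = op (ev i : Vn n K) (ev i.rev.rev) by rw [Fin.rev_rev], op_ev]
  simp

end

theorem jobLV : JobLV := by
  intro n F _ _ _ _ _ _ K _ _ _ _ x h m hm
  have hφ : ∀ u, star (x.φ u) = x.φ u := fun u => (h _).trans ((x.fix _).2 ⟨u, rfl⟩)
  have key : ∀ c : K, c + star c = 0 ↔ ∃ u, c = x.φ u := fun c => by
    rw [show c + star c = tr c from rfl, tr_eq_zero, h, x.fix]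
    exact ⟨fun ⟨u, e⟩ => ⟨u, e.symm⟩, fun ⟨u, e⟩ => ⟨u, e.symm⟩⟩
  let L : LG (lvX hm K) F := ⟨x.φ, 1, one_ne_zero, hφ,
    Or.inl (AddSubgroup.ne_bot_iff_exists_ne_zero.2 ⟨⟨1, (key 1).2 ⟨1, (map_one _).symm⟩⟩,
      fun e => one_ne_zero (congrArg Subtype.val e)⟩), fun k c => by
      rw [add_comm (Pi.single _ _), ← Pi.single_smul, smul_eq_mul, mul_one]
      refine (iso_fd (eI hm).symm (fdX hm K) rfl _ (rhoX_inj K) (rhoX_isom hm K)
        (exists_rhoX hm K) k c 1).trans ?_
      change star c * 1 + star (star c * 1) = 0 ↔ _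
      simp only [mul_one, one_mul, star_star, add_comm (star c), key], fun k c => by
      rw [← Pi.single_smul, smul_eq_mul, mul_one]
      refine (iso_fd (eI hm).symm (fdX hm K) rfl _ (rhoX_inj K) (rhoX_isom hm K)
        (exists_rhoX hm K) k 1 c).trans ?_
      change star 1 * c + star (star 1 * c) = 0 ↔ _
      simp only [star_one, one_mul, inv_one, key]⟩
  obtain ⟨μ, hμ⟩ := L.exists_mu (Fin.last (m + 1))
  refine ⟨cdX hm K, lvX hm K, L, μ, hμ, gen_top hμ fun g hg => ?_, fun i j hij a => lev_tvn hm K hij a,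
    fun c => X_ext ?_, fun c => X_ext ?_⟩
  · have d : ((cdX hm K).ρ g).det = 1 := mt_det g
    rw [CD.eq_diagonal (fun i _ h => absurd h ((lvX hm K).nz i)) hg, det_diagonal,
      ← (eI hm).prod_comp, Fintype.prod_sum_type, Fintype.prod_sum_type, Fintype.prod_empty (ι := Empty),
      mul_one] at d
    erw [Finset.prod_congr rfl fun k _ => (lvX hm K).dn_eq hg k, Finset.prod_inv_distrib,
      ← map_prod] at d
    have d' := (mul_inv_eq_one₀ (mt inv_eq_zero.2 (right_ne_zero_of_mul_eq_one d))).1 d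
    exact (key _).1 (tr_eq_zero.2 d'.symm)
  · rw [Tc_ev K (up_ne_rev hm _ _) (hφ c), ← rho_cdX hm, LV.eq_long hμ.at_.key ((lvX hm K).wt_up _)
      ((lvX hm K).wt_dn _) (hμ.at_.U_mem c), hμ.at_.e01]
    simp [L, lvX_up, lvX_dn]
  · rw [Tc_ev K (fun e => up_ne_rev hm _ _ (Fin.rev_injective e)) (hφ c), ← rho_cdX hm,
      LV.eq_long hμ.at_.key.symm ((lvX hm K).wt_dn _) (by rw [neg_neg]; exact (lvX hm K).wt_up _)
      (hμ.at_.L_mem c), hμ.at_.e10]
    simp [L, lvX_up, lvX_dn]

end H78.S2
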