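import Cfsg.Agent.H78.P6.H78_S2Kit
import Cfsg.Agent.H78.P6.H78_S2LV

namespace H57 end H57
open H57
namespace H65 end H65
open H65
namespace H78 end H78
open H78
namespace H85.P6 end H85.P6
open H85.P6
namespace H85.P6.H57 end H85.P6.H57
open H85.P6.H57
namespace H85.P6.H65 end H85.P6.H65
open H85.P6.H65
namespace H85.P6.H78 end H85.P6.H78
open H85.P6.H78
namespace H85.P6.H78.S2 end H85.P6.H78.S2
open H85.P6.H78.S2
namespace H78.P6


/-! STD-SP chapter II, slot CT: the relations `UF` define the unitary group. -/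

set_option autoImplicit false
set_option linter.unusedSectionVars false

namespace H78.S2

open H67.UA hiding Par
open H67.SP H57 H65 Matrix
open H86.SPI (ok pp hf_self hf_comm hf_smul_right')
open scoped MatrixGroups commutatorElement

universe u

local notation "tvn" => Matrix.SpecialLinearGroup.transvection

section SL2

variable {L : Type} [Field L] [CharP L 2]

theorem W_eq : (sl2W : SL(2, L)) = sl2U 1 * sl2L 1 * sl2U 1 := by
  ext i j; fin_cases i <;> fin_cases j <;> simp [mul_apply, CharTwo.neg_eq, CharTwo.add_self_eq_zero]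

theorem T_eq (c : Lˣ) : sl2T c = sl2U (c : L) * sl2L (c : L)⁻¹ * sl2U (c : L) * sl2W := by
  ext i j; fin_cases i <;> fin_cases j <;>
    simp [sl2T, mul_apply, CharTwo.neg_eq, CharTwo.add_self_eq_zero]

theorem T_eq' (c : Lˣ) : sl2T c = sl2L (c : L)⁻¹ * sl2U (c : L) * sl2L (c : L)⁻¹ * sl2W := by
  ext i j; fin_cases i <;> fin_cases j <;>
    simp [sl2T, mul_apply, CharTwo.neg_eq, CharTwo.add_self_eq_zero]

end SL2

variable {n : ℕ} {F : Type} [Field F] [StarRing F] [TrivialStar F] [CharP F 2] [Finite F] [Par n F]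
  {K : Type} [Field K] [StarRing K] [CharP K 2] [Finite K]

theorem ph_ev (φ : F →+* K) (i : Fin (n + 1)) : (fun j => φ ((ev i : Vn n F) j)) = ev i := by
  funext j; simp [ev_apply, apply_ite φ]

theorem bc_Tc (φ : F →+* K) (h : ∀ a, star (φ a) = φ (star a)) {i : Fin (n + 1)} (hi : i ≠ i.rev)
    (c : F) : bc φ h (Tc c (ev i : Vn n F)) = Tc (φ c) (ev i) := X_ext (by
  rw [mt_bc, Tc_ev F hi (star_trivial c), Tc_ev K hi (by rw [h, star_trivial])]
  ext a b
  simp [one_apply, single_apply, apply_ite φ])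

theorem bc_inj (φ : F →+* K) (h : ∀ a, star (φ a) = φ (star a)) :
    Function.Injective (bc (m := n) φ h) := fun a b e => X_ext (Matrix.ext fun i j => by
  have := congrArg (fun g => mt g i j) e
  exact φ.injective this)

section UF

variable {J : Type u} [Group J] {e : XU n F →* J} {φ : F →+* K} {Z : Vn n F → Vn n F → K → J}
  (U : UF e φ Z) {u x s : Vn n F}
include U

theorem UF.z0 (h : hf x u = 0) : Z u x 0 = 1 := by simpa using U.rat u x 0 h

theorem UF.sq (h : hf x u = 0) (α : K) : Z u x α * Z u x α = 1 := by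
  rw [U.add _ _ _ _ h, CharTwo.add_self_eq_zero, U.z0 h]

theorem UF.inv (h : hf x u = 0) (α : K) : (Z u x α)⁻¹ = Z u x α :=
  inv_eq_of_mul_eq_one_right (U.sq h α)

theorem UF.fix (h : hf x u = 0) (α : K) {g : XU n F} (h1 : ac g u = u) (h2 : ac g x = x) :
    e g * Z u x α = Z u x α * e g := by
  rw [← mul_inv_eq_iff_eq_mul, U.eqv _ u x α h, h1, h2]

theorem UF.tc (h : hf x u = 0) (hs : hf s u = 0) (h1 : hf x s = 1) {θ : K} {N : F}
    (hN : φ N = nm θ) (c : F) : Z u x θ * e (Tc c s) * Z u x θ =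
      Z u s (φ c * θ) * e (Tc (N * c) u) * e (Tc c s) := by
  have k : hf (c • s) u = 0 := by rw [hf_smul_left, hs, mul_zero]
  have h2 := U.ad2 u x (c • s) θ N h k hN
  have h3 := mul_inv_eq_iff_eq_mul.1 (U.eqv (Tc c s) u x θ h)
  rw [ac_Tc_fix c (hf_symm hs), ac_Tc', h1, mul_one] at h3
  rw [hf_smul_left, hf_comm s, h1, mul_one, U.sm _ _ _ _ hs] at h2
  rw [mul_assoc, h3, ← mul_assoc, mul_left_inj, ← mul_left_inj (e (Tc (N * c) u)), mul_assoc,
    ← h2, ← mul_assoc, U.sq h, one_mul, mul_assoc, ← map_mul, Tc_sq, map_one, mul_one]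

/-- The Weyl element moves the long root subgroups. -/
theorem UF.weyl {p p' r r' : Vn n F} (h0 : hf p r = 0) (h1 : hf p' p = 1) (h2 : hf r' r = 1)
    (h3 : hf p' r = 0) (h4 : hf r' p = 0) {α β : K} (h : α * β = 1) {M N : F} (hM : φ M = nm α)
    (hN : φ N = nm β) (hφ : ∀ a, star (φ a) = φ a) (c : F) :
    Z p r' α * Z r p' β * Z p r' α * e (Tc c p) * (Z p r' α * Z r p' β * Z p r' α)⁻¹ =
      e (Tc (N * c) r) := by
  have h5 := hf_symm h0
  have e1 : Z p r' α * e (Tc c p) = e (Tc c p) * Z p r' α :=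
    (U.fix h4 α (ac_Tc_fix c (hf_self p)) (ac_Tc_fix c h4)).symm
  have e2 := U.tc h3 h0 h1 hN c
  have e3 := U.tc h4 h5 h2 hM (N * c)
  have e4 := U.cm p r' r α (star (φ c * β)) 0 h4 h5 (by
    rw [map_zero, star_star, mul_left_comm, h, mul_one, tr_eq_zero.2 (hφ c)])
  have e5 : M * (N * c) = c := φ.injective (by
    rw [map_mul, map_mul, hM, hN, ← mul_assoc, show nm α * nm β = α * β * star (α * β) by
      rw [star_mul']; ring, h]; simp)
  have e6 : φ (N * c) * α = star (φ c * β) := by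
    rw [map_mul, hN, star_mul', hφ]; linear_combination (φ c * star β) * h
  rw [e5, e6] at e3
  rw [U.sw p r _ h5] at e2
  rw [zero_mul, Tc, EE_zero, map_one, mul_one] at e4
  have e7 : Tc c p * Tc (N * c) r * Tc c p = Tc (N * c) r := by
    rw [EE_fix (hf_zero_left r) _ (ac_Tc_fix c h5) (ac_zero _), mul_assoc, Tc_sq, mul_one]
  calc _ = Z p r' α * (Z r p' β * e (Tc c p) * Z r p' β) * Z p r' α := by
        rw [_root_.mul_inv_rev, _root_.mul_inv_rev, U.inv h4, U.inv h3, mul_assoc _ (Z p r' α), e1]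
        simp only [mul_assoc]
        rw [← mul_assoc (Z p r' α) (Z p r' α), U.sq h4, one_mul]
    _ = Z p r (star (φ c * β)) * (Z p r' α * e (Tc (N * c) r) * Z p r' α) * e (Tc c p) := by
        rw [e2, ← mul_assoc, ← mul_assoc, e4]
        simp only [mul_assoc, e1]
    _ = _ := by
        rw [e3, ← mul_assoc, ← mul_assoc, U.sq h5, one_mul, ← map_mul, ← map_mul, e7]

end UF

section Idx

variable {m : ℕ} (hm : n + 1 = 2 * (m + 2))

/-- the upper basis vectors -/
abbrev uV (i : Fin (m + 2)) : Vn n F := ev (up hm i)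
/-- the lower basis vectors -/
abbrev dV (i : Fin (m + 2)) : Vn n F := ev (up hm i).rev

theorem hUU (i j : Fin (m + 2)) : hf (uV (F := F) hm i) (uV hm j) = 0 := by
  rw [hf_ev, if_neg (up_ne_rev hm j i)]
theorem hDD (i j : Fin (m + 2)) : hf (dV (F := F) hm i) (dV hm j) = 0 := by
  rw [hf_ev, Fin.rev_rev, if_neg (up_ne_rev hm i j).symm]
theorem hUD (i j : Fin (m + 2)) : hf (uV (F := F) hm i) (dV hm j) = if i = j then 1 else 0 := by
  simp [hf_ev, up_inj, eq_comm]
theorem hDU (i j : Fin (m + 2)) : hf (dV (F := F) hm i) (uV hm j) = if i = j then 1 else 0 := by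
  simp [hf_ev, up_inj, eq_comm]

variable {J : Type u} [Group J] {e : XU n F →* J} {φ : F →+* K} {Z : Vn n F → Vn n F → K → J}

theorem UF.stA (U : UF e φ Z) : StA fun i j α => Z (dV hm j) (uV hm i) α where
  add i j h s t := U.add _ _ _ _ (by simp [hUD, h])
  comm i j k l h1 h2 h3 h4 s t := U.com _ _ _ _ _ _ (by simp [hUD, h1]) (by simp [hUD, h2])
    (hDD hm _ _) (by simp [hDU, h3.symm]) (by simp [hUD, h4.symm]) (hUU hm _ _)
  tri i j k h1 h2 h3 s t := by
    have := U.tri (dV hm j) (uV hm i) (dV hm k) (uV hm j) s t ⟨by simp [hUD, h1], hDD hm _ _,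
      by simp [hDU, h3.symm], fun a b c h => ⟨by
        simpa [hf_add_left, hf_smul_left, hUU, hDU, h2.symm] using congrArg (hf · (uV hm j)) h, by
        simpa [hf_add_left, hf_smul_left, hDD, hUD] using congrArg (hf · (dV hm i)) h, by
        simpa [hf_add_left, hf_smul_left, hUU, hDU, h2] using congrArg (hf · (uV hm k)) h⟩,
      by simp [hUD, h2], hUU hm _ _, by simp [hUD]⟩
    rw [U.inv (by simp [hUD, h1]), this, mul_inv_eq_iff_eq_mul]
    exact U.com _ _ _ _ _ _ (by simp [hUD, h2]) (by simp [hUD, h3]) (hDD hm _ _)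
      (by simp [hDU, h2.symm]) (by simp [hUD, h3]) (hUU hm _ _)

/-- the transposition -/
noncomputable def nS (i j : Fin (m + 2)) : XU n F :=
  qq (uV hm i) (dV hm j) * qq (uV hm j) (dV hm i) * qq (uV hm i) (dV hm j)

/-- the long reflection -/
noncomputable def nL (i : Fin (m + 2)) (c : F) : XU n F :=
  Tc c (uV hm i) * Tc c⁻¹ (dV hm i) * Tc c (uV hm i)

theorem nS_ac {i j : Fin (m + 2)} (h : i ≠ j) : ac (nS hm i j) (uV hm i) = (uV hm j : Vn n F) ∧
    ac (nS hm i j) (uV hm j) = (uV hm i : Vn n F) ∧ ac (nS hm i j) (dV hm j) = (dV hm i : Vn n F) := by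
  have h1 : hf (uV (F := F) hm i) (dV hm j) = 0 := by simp [hUD, h]
  have h2 : hf (uV (F := F) hm j) (dV hm i) = 0 := by simp [hUD, h.symm]
  simp only [nS, ac_mul, ac_qq' h1, ac_qq' h2, hf_add_left, hUU, hDD, hUD, hDU, h,
    h.symm, if_true, if_false, zero_smul, one_smul, add_zero, zero_add]
  refine ⟨?_, ?_, ?_⟩ <;> ext k <;> simp only [Pi.add_apply] <;> simp [CharTwo.add_self_eq_zero,
    add_comm, add_left_comm, CharTwo.add_cancel_left]

theorem nL_ac (i : Fin (m + 2)) {c : F} (hc : c ≠ 0) :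
    ac (nL hm i c) (uV hm i) = c⁻¹ • (dV hm i : Vn n F) ∧
      ac (nL hm i c) (dV hm i) = c • (uV hm i : Vn n F) := by
  simp only [nL, ac_mul, ac_Tc', hf_add_left, hf_smul_left, hUU, hDD, hUD, hDU, if_true, zero_smul,
    add_zero, mul_zero, zero_add, mul_one, mul_inv_cancel₀ hc, inv_mul_cancel₀ hc, one_smul]
  refine ⟨?_, ?_⟩ <;> ext k <;> simp only [Pi.add_apply] <;> simp [CharTwo.add_self_eq_zero,
    add_comm, add_left_comm, CharTwo.add_cancel_left]

end Idx

theorem jobCT : JobCT.{u} := by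
  intro n F _ _ _ _ _ P _ _ _ fy K _ _ _ _ x h lv
  obtain ⟨m, hm, m1⟩ : ∃ m, n + 1 = 2 * (m + 2) ∧ 1 ≤ m := by
    obtain ⟨k, hk⟩ := P.odd
    have := P.five
    exact ⟨k - 1, by omega, by omega⟩
  obtain ⟨D, V, L, μ, hμ, top, hl, hU, hL⟩ := lv m hm
  have hφ : ∀ u, star (x.φ u) = x.φ u := fun u => (h _).trans ((x.fix _).2 ⟨u, rfl⟩)
  have fx : ∀ a : K, star a = a → ∃ c, x.φ c = a := fun a ha => (x.fix a).1 ((h a).symm.trans ha)
  have zm : ∀ i j α, zM x.φ (dV hm j) (uV hm i) α = ss (up hm i) (up hm j) α := fun i j α => by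
    rw [zM, ph_ev, ph_ev]
  have r1 : ∀ k, up hm k ≠ (up hm k).rev := fun k => up_ne_rev hm k k
  have r2 : ∀ k, (up hm k).rev ≠ (up hm k).rev.rev := fun k e => r1 k (Fin.rev_injective e)
  set B := bc (m := n) x.φ (x.st (Or.inr h))
  have mr : ∀ g, μ g ∈ B.range := fun g => (sl2_closure' (K := B.range.comap μ)
    (fun c => ⟨_, (bc_Tc _ _ (r1 _) c).trans (hU c).symm⟩)
    fun c => ⟨_, (bc_Tc _ _ (r2 _) c).trans (hL c).symm⟩).ge (Subgroup.mem_top g)
  refine ⟨eq_top_iff.2 (top.ge.trans (sup_le ?_ ?_)), fun J _ f e Z U he hz g hg => ?_⟩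
  · rintro _ ⟨g, rfl⟩
    exact (sl_eq_top_of_adj (H := (Gn B (zM x.φ)).comap V.lev) fun k l hkl _ c =>
      ⟨Subgroup.mem_sup_right (Subgroup.subset_closure ⟨_, _, c, by simp [hUD, hkl],
        (hl _ _ _ _).trans (zm _ _ _).symm⟩), Subgroup.mem_sup_right (Subgroup.subset_closure
        ⟨_, _, c, by simp [hUD, hkl.symm], (hl _ _ _ _).trans (zm _ _ _).symm⟩)⟩).ge
      (Subgroup.mem_top g)
  · rintro _ ⟨g, rfl⟩
    exact Subgroup.mem_sup_left (mr g)
  obtain ⟨Λ, hΛ⟩ := (U.stA hm).exists_hom (by omega)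
  have Λt : ∀ {i j} (hij : i ≠ j) α, Λ (tvn hij α) = Z (dV hm j) (uV hm i) α := fun hij α => by
    rw [← xA_eq, hΛ _ _ hij]
  have fΛ : ∀ g, f (Λ g) = V.lev g := fun g =>
    (sl_eq_top_of_adj (H := (f.comp Λ).eqLocus V.lev) fun k l hkl _ c =>
      ⟨(congrArg f (Λt _ _)).trans ((hz _ _ _ (by simp [hUD, hkl])).trans
        ((zm _ _ _).trans (hl _ _ _ _).symm)), (congrArg f (Λt _ _)).trans
        ((hz _ _ _ (by simp [hUD, hkl.symm])).trans ((zm _ _ _).trans (hl _ _ _ _).symm))⟩).ge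
      (Subgroup.mem_top g)
  have Bi : Function.Injective B := bc_inj _ _
  obtain ⟨γ, hγ⟩ : ∃ γ : SL(2, F) →* XU n F, ∀ g, B (γ g) = μ g :=
    ⟨(MonoidHom.ofInjective Bi).symm.toMonoidHom.comp (μ.codRestrict _ mr), fun g =>
      MonoidHom.apply_ofInjective_symm Bi _⟩
  set b := Fin.last (m + 1)
  set a := (Fin.last m).castSucc
  have ab : a ≠ b := pen_ne m
  have γU : ∀ c, γ (sl2U c) = Tc c (uV hm b) := fun c => Bi (by rw [hγ, hU, bc_Tc _ _ (r1 _)])
  have γL : ∀ c, γ (sl2L c) = Tc c (dV hm b) := fun c => Bi (by rw [hγ, hL, bc_Tc _ _ (r2 _)])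
  have γW : γ sl2W = nL hm b 1 := by rw [W_eq, map_mul, map_mul, γU, γL, nL, inv_one]
  have γf : ∀ v, hf v (uV hm b) = 0 → hf v (dV hm b) = 0 → ∀ g, ac (γ g) v = v := fun v h1 h2 g =>
    (sl2_closure' (K := (Stab v).comap γ) (fun c => (congrArg (ac · v) (γU c)).trans (ac_Tc_fix c h1))
      fun c => (congrArg (ac · v) (γL c)).trans (ac_Tc_fix c h2)).ge (Subgroup.mem_top g)
  have ua := γf (uV hm a) (hUU hm _ _) (by simp [hUD, ab])
  have da := γf (dV hm a) (by simp [hDU, ab]) (hDD hm _ _)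
  set β := e.comp γ
  have fβ : ∀ g, f (β g) = μ g := fun g => (he _).trans (hγ g)
  set α := Λ.comp (bkSL (pairE ab))
  have αU : ∀ v, α (sl2U v) = Z (dV hm b) (uV hm a) v := fun v => by
    rw [sl2U_eq, MonoidHom.comp_apply, bkSL_tvn, Λt]; rfl
  have αL : ∀ v, α (sl2L v) = Z (dV hm a) (uV hm b) v := fun v => by
    rw [sl2L_eq, MonoidHom.comp_apply, bkSL_tvn, Λt]; rfl
  have hab : hf (uV (F := F) hm a) (dV hm b) = 0 := by simp [hUD, ab]
  have hba : hf (uV (F := F) hm b) (dV hm a) = 0 := by simp [hUD, ab.symm]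
  have z1 : ∀ u v, hf v u = 0 → Z u v 1 = e (qq v u) := fun u v k => by
    simpa using U.rat u v 1 k
  have αW : α sl2W = e (nS hm a b) := by
    rw [W_eq, map_mul, map_mul, αU, αL, z1 _ _ hab, z1 _ _ hba, nS, map_mul, map_mul]
  have cmt : ∀ p q : XU n F, Commute (f (e p)) (f (e q)) → Commute (e p) (e q) := fun p q k =>
    Commute.map (Bi (by rw [map_mul, map_mul, ← he, ← he]; exact k.eq) : Commute p q) e
  obtain ⟨n1, n2, n3⟩ := nS_ac (F := F) hm ab
  have b1 : ∀ c, b2w α β (.inl c) = e (Tc c (uV hm a)) := fun c => by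
    change α sl2W * e (γ (sl2U c)) * (α sl2W)⁻¹ = _
    rw [αW, γU, ← map_inv, ← map_mul, ← map_mul, EE_conj' (hf_zero_left _), n2, ac_zero]
  have b2 : ∀ v, b2w α β (.inr v) = Z (uV hm b) (uV hm a) v := fun v => by
    change e (γ sl2W) * α (sl2U v) * (e (γ sl2W))⁻¹ = _
    rw [αU, U.eqv _ _ _ _ hab, ua, γW, (nL_ac hm b one_ne_zero).2, one_smul]
  have d3 : ∀ v, ⁅α (sl2U v), β (sl2U 1)⁆ ∈ Subgroup.closure (Set.range (b2w α β)) := fun v => by
    obtain ⟨N, hN⟩ := fx _ (star_nm (star v))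
    have k := U.tc (hf_symm hab) (hUU hm b a) (by simp [hDU]) hN 1
    rw [map_one, one_mul, ← U.sw _ _ _ (hf_symm hab), ← U.sw _ _ _ (hUU hm b a), ← b1, ← b2] at k
    change ⁅α (sl2U v), e (γ (sl2U 1))⁆ ∈ _
    rw [commutatorElement_def, αU, γU, U.inv hab, k, mul_inv_cancel_right]
    exact mul_mem (Subgroup.subset_closure ⟨_, rfl⟩) (Subgroup.subset_closure ⟨_, rfl⟩)
  obtain ⟨ζ, hζ⟩ := exists_prim_unit K
  obtain ⟨ξ, hξ⟩ := exists_prim_unit F
  refine full_inj hμ fΛ fβ (fun Q sa sb ha hb => pair_inj ab hμ Q ha hb (fun _ => fΛ _) fβ hζ hξ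
    ?_ ?_ (fun p q => ?_) ⟨?_, ?_, d3 _, d3 _⟩) (fun p q => ?_) g ?_
  · obtain ⟨M, hM⟩ := fx _ (star_nm (ζ : K))
    obtain ⟨N, hN⟩ := fx _ (star_nm (ζ : K)⁻¹)
    rintro _ ⟨g, rfl⟩
    refine (sl2_closure' (K := (β.range.comap (MulAut.conj (α (sl2T ζ))).toMonoidHom).comap β)
      (fun c => ⟨sl2U (N * c), ?_⟩) fun c => ⟨sl2L (M * c), ?_⟩).ge (Subgroup.mem_top g)
    · have k := U.weyl (hUU hm a b) (p' := dV hm a) (r' := dV hm b) (by simp [hDU]) (by simp [hDU])
        (hf_symm hba) (hf_symm hab) (α := star (ζ : K)) (β := star (ζ : K)⁻¹)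
        (by rw [← star_mul']; simp) (M := M) (N := N) (by rw [hM, nm, nm, star_star, mul_comm])
        (by rw [hN, nm, nm, star_star, mul_comm]) hφ c
      rw [← U.sw _ _ _ (hf_symm hab), ← U.sw _ _ _ (hf_symm hba), ← b1, ← αU, ← αL, ← γU] at k
      refine k.symm.trans ?_
      change _ = α _ * β _ * (α _)⁻¹
      simp only [T_eq, b2w, Sum.elim_inl, map_mul, _root_.mul_inv_rev, mul_assoc]
    · have k := U.weyl (hDD hm a b) (p' := uV hm a) (r' := uV hm b) (by simp [hUD]) (by simp [hUD])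
        hab hba (α := (ζ : K)⁻¹) (β := ζ) (by simp) hN hM hφ c
      have k' : e (Tc c (dV hm a)) = α sl2W * β (sl2L c) * (α sl2W)⁻¹ := by
        change _ = _ * e (γ _) * _
        rw [αW, γL, ← map_inv, ← map_mul, ← map_mul, EE_conj' (hf_zero_left _), n3, ac_zero]
      rw [k', ← αU, ← αL, ← γL] at k
      refine k.symm.trans ?_
      change _ = α _ * β _ * (α _)⁻¹
      simp only [T_eq', map_mul, _root_.mul_inv_rev, mul_assoc]
  · have t1 : γ (sl2T ξ) = nL hm b (ξ : F) * nL hm b 1 := by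
      rw [T_eq, map_mul, γW, map_mul, map_mul, γU, γL]; rfl
    obtain ⟨l1, l2⟩ := nL_ac (F := F) hm b one_ne_zero
    obtain ⟨l3, l4⟩ := nL_ac (F := F) hm b ξ.ne_zero
    rintro _ ⟨g, rfl⟩
    refine (sl2_closure' (K := (α.range.comap (MulAut.conj (β (sl2T ξ))).toMonoidHom).comap α)
      (fun c => ⟨sl2U (x.φ (ξ : F)⁻¹ * c), ?_⟩) fun c => ⟨sl2L (x.φ ξ * c), ?_⟩).ge
      (Subgroup.mem_top g)
    · change _ = e (γ _) * α _ * (e (γ _))⁻¹
      rw [αU, αU, U.eqv _ _ _ _ hab, ua, t1, ac_mul, l2, one_smul, l3,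
        U.sw (uV hm a) (_ • _) _ (by rw [hf_smul_left, hf_symm hab, mul_zero]),
        U.sm _ _ _ _ (hf_symm hab), U.sw _ _ _ (hf_symm hab), star_mul', hφ]
    · change _ = e (γ _) * α _ * (e (γ _))⁻¹
      rw [αL, αL, U.eqv _ _ _ _ hba, da, t1, ac_mul, l1, inv_one, one_smul, l4, U.sm _ _ _ _ hba]
  · have k := comm_conj ab hμ p q
    rw [← fβ, ← fβ, show V.al ab sl2W = f (α sl2W) from (fΛ _).symm, αW] at k
    have k' := cmt (γ p) (nS hm a b * γ q * (nS hm a b)⁻¹) (by simp only [map_mul, map_inv]; exact k)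
    rw [map_mul, map_mul, map_inv, ← αW] at k'
    exact k'
  · refine Subgroup.subset_closure ⟨1, ?_⟩
    change b2w α β (.inr 1) = α sl2W * b2w α β (.inr 1) * (α sl2W)⁻¹
    rw [b2, αW, U.eqv _ _ _ _ (hUU hm _ _), n1, n2, U.sw _ _ _ (hUU hm b a), star_one]
  · rw [b1, αU]
    exact (U.fix hab 1 (ac_Tc_fix 1 (hf_symm hab)) (ac_Tc_fix 1 (hUU hm _ _))).symm
  · refine (Subgroup.mem_centralizer_singleton_iff.1 ((sl_eq_top_of_transvections
      ((Subgroup.centralizer {β q}).comap (Λ.comp (bkSL Fin.castSuccEmb))) fun i j hij c => ?_).ge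
      (Subgroup.mem_top p)))
    rw [Subgroup.mem_comap, Subgroup.mem_centralizer_singleton_iff, MonoidHom.comp_apply, bkSL_tvn,
      Λt]
    have k : ∀ i : Fin (m + 1), i.castSucc ≠ b := Fin.castSucc_ne_last
    exact (U.fix (by simp [hUD, hij]) c (γf _ (by simp [hDU, k]) (hDD hm _ _) q)
      (γf _ (hUU hm _ _) (by simp [hUD, k]) q)).symm
  · have k : ∀ p, e p ∈ Λ.range ⊔ β.range := fun p =>
      (fy.genL m hm ((Λ.range ⊔ β.range).comap e) (fun i j c hij => Subgroup.mem_sup_left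
        ⟨_, (Λt hij _).trans (U.rat _ _ c (by simp [hUD, hij]))⟩)
        (fun c => Subgroup.mem_sup_right ⟨_, congrArg e (γU c)⟩)
        fun c => Subgroup.mem_sup_right ⟨_, congrArg e (γL c)⟩).ge (Subgroup.mem_top p)
    refine (sup_le (by rintro _ ⟨p, rfl⟩; exact k p) ((Subgroup.closure_le _).2 ?_)) hg
    rintro _ ⟨u, v, s, h0, rfl⟩
    have dp : ∀ (u : Vn n F) (c : F) s, Z u (c • u) s ∈ Λ.range ⊔ β.range := fun u c s => by
      obtain ⟨d, hd⟩ := fx _ (star_tr (x.φ c * s))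
      rw [U.sm _ _ _ _ (hf_self u), U.dep _ _ d hd]
      exact k _
    by_cases hu : u = 0
    · rw [U.sw v u s (hf_symm h0), hu, ← zero_smul F v]
      exact dp _ _ _
    by_cases hv : Li u v
    · obtain ⟨p, p1, p2⟩ := FW.w2 u v (hf_symm h0) hv
      obtain ⟨q, q1, q2⟩ := FW.w2 (dV (F := F) hm b) (uV hm a) (hf_symm hab) fun r s k => ⟨by
        simpa [hf_add_left, hf_smul_left, hUU, hDU] using congrArg (hf · (uV hm b)) k, by
        simpa [hf_add_left, hf_smul_left, hDD, hUD] using congrArg (hf · (dV hm a)) k⟩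
      have := U.eqv (p * q⁻¹) _ _ s hab
      rw [← q1, ← q2, ac_mul, ac_mul, ac_inv_ac, ac_inv_ac, p1, p2, q1, q2, ← Λt ab] at this
      rw [← this]
      exact mul_mem (mul_mem (k _) (Subgroup.mem_sup_left ⟨_, rfl⟩)) (inv_mem (k _))
    · obtain ⟨c, rfl⟩ := dep_of_not_li hu hv
      exact dp _ _ _

end H78.S2
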