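import Cfsg.Agent.H78.P6.H78_S2Kit

namespace H18 end H18
open H18
namespace H85.P6 end H85.P6
open H85.P6
namespace H85.P6.H18 end H85.P6.H18
open H85.P6.H18
namespace H85.P6.H18.S2C2 end H85.P6.H18.S2C2
open H85.P6.H18.S2C2
namespace H78.P6


/-! STD-SP chapter II (S3129): `JobC2`, the relation of type `A₂`. -/

set_option autoImplicit false
set_option linter.unusedSectionVars false

namespace H18.S2C2

open H67.UA hiding Par
open H67.SP H78.S2
open H86.SPI (ok pp hf_self hf_comm EE_mul' EE_comm EE_sq hf_smul_right' qq_sq qq_conj)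
open Matrix Subgroup

universe u

section Abs

variable {G : Type u} [Group G] {A A1 B C r z z1 : G}

theorem core (h1 : A1 = A * r) (h2 : A1 * A1 = 1) (h3 : A * A = 1) (h4 : r * B = B * z * r) :
    A1 * B * A1 = A * B * z * A := by
  nth_rewrite 2 [← inv_eq_of_mul_eq_one_right h2]
  rw [h1, mul_assoc A, h4, _root_.mul_inv_rev, inv_eq_of_mul_eq_one_right h3]
  group

theorem ab2 (h : A1 * B * A1 = A * B * z * A) (c1 : Commute z1 A1) (c2 : Commute z1 B)
    (s1 : z1 * z1 = 1) (c3 : Commute z A) (c4 : Commute z B) (c5 : Commute z C) (s : z * z = 1) :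
    A1 * (B * z1) * A1 * (B * z1) * (C * z) = A * B * A * B * C := by
  calc _ = A1 * B * (z1 * (A1 * B)) * z1 * (C * z) := by group
    _ = A1 * B * A1 * B * (z1 * z1) * (C * z) := by rw [(c1.mul_right c2).eq]; group
    _ = A * B * (z * (A * B * C)) * z := by rw [s1, h]; group
    _ = A * B * A * B * C * (z * z) := by rw [((c3.mul_right c4).mul_right c5).eq]; group
    _ = _ := by rw [s, mul_one]

theorem ab3 (h : A1 * B * A1 = A * B * z * A) (c1 : Commute z1 A1) (c2 : Commute z1 B)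
    (s1 : z1 * z1 = 1) (c3 : Commute z A) (c5 : Commute z C) (s : z * z = 1) :
    B * z1 * A1 * (B * z1) * A1 * (C * z) = B * A * B * A * C := by
  calc _ = B * (z1 * (A1 * B)) * z1 * A1 * (C * z) := by group
    _ = B * (A1 * B * (z1 * z1) * A1) * (C * z) := by rw [(c1.mul_right c2).eq]; group
    _ = B * A * B * (z * (A * C)) * z := by rw [s1, mul_one, h]; group
    _ = B * A * B * A * C * (z * z) := by rw [(c3.mul_right c5).eq]; group
    _ = _ := by rw [s, mul_one]

end Abs

variable {n : ℕ} {F : Type} [Field F] [StarRing F] [TrivialStar F] [CharP F 2] [Finite F] [Par n F]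
  {G : Type u} [Group G] {e : XU n F →* G} {t : G} {y : Vn n F → Vn n F → G} {δ : F}
  {u x u' f : Vn n F}

theorem ctc (φ : Fam e δ y) {w : Vn n F} (c : F) (h : hf x u = 0) (h1 : hf u w = 0)
    (h2 : hf x w = 0) : Commute (e (Tc c w)) (y u x) := φ.fix h (ac_Tc_fix c h1) (ac_Tc_fix c h2)

theorem etc (c : F) (w : Vn n F) : e (Tc c w) * e (Tc c w) = 1 := by rw [← map_mul, Tc_sq, map_one]

theorem cj5 (a A B C : G) : a * (A * B * A * B * C) * a⁻¹ =
    a * A * a⁻¹ * (a * B * a⁻¹) * (a * A * a⁻¹) * (a * B * a⁻¹) * (a * C * a⁻¹) := by group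

theorem step2 (φ : Fam e δ y) (h : Tq u x u' f) {v : Vn n F} (hv : hf v u' = 0) (c : F) :
    e (EE u' v c) * (y u x * y u' f * y u x * y u' f * y u' x) * (e (EE u' v c))⁻¹ =
      y u x * y u' f * y u x * y u' f * y u' x := by
  obtain ⟨h1, h2, h3, -, h4, h5, h6⟩ := h
  have k2 := hf_symm h2
  have k3 := hf_symm h3
  rw [cj5, φ.eqv _ _ _ h1, φ.eqv _ _ _ h4, φ.eqv _ _ _ k3, ac_EE_u hv, ac_EE' hv k2, ac_EE' hv k3,
    ac_EE' hv h4, φ.sh h4, φ.sh k3]
  generalize hf u v = α
  generalize hf x v = β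
  have p1 : hf x (u + α • u') = 0 := by simp [hf_add_right, hf_smul_right', h1, k3]
  have p2 : hf (β • u') (u + α • u') = 0 := by
    simp [hf_add_right, hf_smul_right', hf_smul_left, h2, hf_self]
  have p3 : hf (x + β • u') (u + α • u') = 0 := by rw [hf_add_left, p1, p2, add_zero]
  have p4 : hf (α • x) u' = 0 := by simp [hf_smul_left, k3]
  have p5 : hf (β • u) u' = 0 := by simp [hf_smul_left, k2]
  have p6 : hf (α • u') u = 0 := by simp [hf_smul_left, h2]
  refine ab2 (core (r := y u' (α • x) * (y u' (β • u) * e (qq (β • u) u') * e (Tc (α * β) u'))) ?_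
    (φ.sq p3) (φ.sq h1) ?_) (ctc φ _ p3 (by simp [hf_add_left, hf_smul_left, k2, hf_self])
    (by simp [hf_add_left, hf_smul_left, k3, hf_self])) (ctc φ _ h4 (hf_self _) h4) (etc _ _)
    (ctc φ _ h1 k2 k3) (ctc φ _ h4 (hf_self _) h4) (ctc φ _ k3 (hf_self _) k3) (etc _ _)
  · rw [← φ.add0 p1 p2 (by simp [hf_smul_left, h3]),
      ← φ.add1' h1 (by simp [hf_smul_right', k3]) p6,
      ← φ.add1' (by simp [hf_smul_left, h2]) (by simp [hf_smul_left, hf_smul_right', hf_self]) p6,
      φ.sm _ _ _ k3, φ.sm α u' _ (by simp [hf_smul_left, hf_self]), smul_smul, φ.dep,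
      φ.sw' (u := u) (x := β • u') (by simp [hf_smul_left, h2]), φ.sm _ _ _ k2, ← qq_smul',
      mul_assoc]
  · have q1 := φ.act h4 p5 β
    rw [hf_smul_left, hf_comm u, h6, mul_one, CharTwo.add_self_eq_zero,
      show EE u' (β • u) β = Tc β u' * qq (β • u) u' by rw [Tc_mul_EE p5, zero_add], map_mul] at q1
    calc _ = y u' (α • x) * y u' (β • u) * e (qq (β • u) u') * (e (Tc (α * β) u') * y u' f) := by
          group
      _ = y u' (α • x) * y u' (β • u) * (e (qq (β • u) u') * y u' f) * e (Tc (α * β) u') := by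
          rw [(ctc φ _ h4 (hf_self _) h4).eq]; group
      _ = y u' (α • x) * y u' (β • u) * (y u' f * e (Tc β u')) * e (qq (β • u) u') *
          e (Tc (α * β) u') := by rw [← q1]; group
      _ = _ := by
          rw [← (((show Commute (y u' f) _ from φ.comm h4 p4).mul_right (φ.comm h4 p5)).mul_left
            ((ctc φ _ p4 (hf_self _) p4).mul_right (ctc φ _ p5 (hf_self _) p5))).eq]
          group

theorem step3 (φ : Fam e δ y) (h : Tq u x u' f) {v : Vn n F} (hv : hf v x = 0) (c : F) :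
    e (EE x v c) * (y u x * y u' f * y u x * y u' f * y u' x) * (e (EE x v c))⁻¹ =
      y u x * y u' f * y u x * y u' f * y u' x := by
  obtain ⟨h1, h2, h3, -, h4, h5, h6⟩ := h
  have k1 := hf_symm h1
  have k3 := hf_symm h3
  have k5 := hf_symm h5
  rw [cj5, φ.eqv _ _ _ h1, φ.eqv _ _ _ h4, φ.eqv _ _ _ k3, ac_EE_u hv, ac_EE' hv k1, ac_EE' hv h3,
    ac_EE' hv h5, φ.sh1 h1, φ.sh1 k3]
  generalize hf u' v = β
  generalize hf f v = γ
  have p1 : hf f (u' + β • x) = 0 := by simp [hf_add_right, hf_smul_right', h4, h5]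
  have p2 : hf (γ • x) (u' + β • x) = 0 := by
    simp [hf_add_right, hf_smul_right', hf_smul_left, k3, hf_self]
  have p3 : hf (f + γ • x) (u' + β • x) = 0 := by rw [hf_add_left, p1, p2, add_zero]
  have p4 : hf (β • f) x = 0 := by simp [hf_smul_left, h5]
  have p5 : hf x (γ • u') = 0 := by simp [hf_smul_right', k3]
  have p6 : hf (β • x) u' = 0 := by simp [hf_smul_left, k3]
  have p7 : hf (γ • u') u = 0 := by simp [hf_smul_left, h2]
  refine ab3 (core (r := y x (β • f) * (y (γ • u') x * e (Tc (β * γ) x))) ?_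
    (φ.sq p3) (φ.sq h4) ?_) (ctc φ _ p3 (by simp [hf_add_left, hf_smul_left, h3, hf_self])
    (by simp [hf_add_left, hf_smul_left, h5, hf_self])) (ctc φ _ h1 k1 (hf_self _)) (etc _ _)
    (ctc φ _ h4 h3 h5) (ctc φ _ k3 h3 (hf_self _)) (etc _ _)
  · rw [← φ.add0 p1 p2 (by simp [hf_smul_left, k5]),
      ← φ.add1' h4 (by simp [hf_smul_right', h5]) p6,
      ← φ.add1' (by simp [hf_smul_left, k3]) (by simp [hf_smul_left, hf_smul_right', hf_self]) p6,
      φ.sm _ _ _ h5, φ.sm β x _ (by simp [hf_smul_left, hf_self]), smul_smul, φ.dep,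
      φ.sm _ _ _ k3, mul_assoc]
  · have q1 := φ.act p4 k1 0
    rw [hf_smul_right', hf_comm u, h6, mul_one, ← EE_mul_Tc k1, map_mul] at q1
    have q2 : Commute (y (γ • u') x) (y u x) := by
      rw [Commute, SemiconjBy, φ.add1' p5 h1 (hf_symm p7), φ.add1' h1 p5 p7, add_comm]
    rw [mul_assoc, (q2.mul_left (ctc φ _ h1 k1 (hf_self _))).eq, ← mul_assoc, ← mul_assoc _ (y x _),
      φ.sw' h1, ← mul_assoc (y x _), φ.comm p4 k1, mul_assoc (y x u), q1]
    group

theorem step1 (φ0 : Fam0 e t y) (φ : Fam e δ y) (h : Tq u x u' f) :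
    y u x * y u' f * y u x * y u' f * y u' x * t = t * (y u x * y u' f * y u x * y u' f * y u' x) := by
  obtain ⟨h1, h2, h3, -, h4, h5, h6⟩ := h
  have k1 := hf_symm h1
  have k2 := hf_symm h2
  have k3 := hf_symm h3
  have k4 := hf_symm h4
  have k5 := hf_symm h5
  have a1 := mul_inv_eq_iff_eq_mul.1 (φ0.rl u x h1).tr
  have a2 := mul_inv_eq_iff_eq_mul.1 (φ0.rl u' f h4).tr
  have a3 := mul_inv_eq_iff_eq_mul.1 (φ0.rl u' x k3).tr
  have b1 := φ.cjq h1 h2 h3 h4 h5
  rw [h6, one_smul] at b1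
  have b2 := φ.cjq k4 k5 k3 k1 k2
  rw [hf_comm u, h6, one_smul] at b2
  have b3 : qq u' f * qq u x = qq u x * qq u' x * qq u' f := by
    rw [← mul_inv_eq_iff_eq_mul, qq_conj _ k1, ac_qq_fix k4 k5 k3, ac_qq' k4, k2, hf_comm u, h6,
      EE_mul' k1 h3, h2]
    simp
  have c1 : Commute (e (qq x u')) (y u x) := φ.fix h1 (ac_qq_fix k3 k2 k1) (ac_qq_fix k3 k3 (hf_self _))
  have c2 : Commute (e (qq x u')) (y u' f) := φ.fix h4 (ac_EE_u k3 0) (ac_qq_fix k3 h4 h5)
  have c3 : Commute (e (qq x u')) (y f u') := φ.fix k4 (ac_qq_fix k3 h4 h5) (ac_EE_u k3 0)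
  have c4 : Commute (e (qq f u')) (y u' x) := φ.fix k3 (ac_EE_u h4 0) (ac_qq_fix h4 k3 k5)
  have c5 : Commute (e (qq f u')) (y u' f) := by simpa [Commute, SemiconjBy] using φ.qc h4 1
  have c6 : Commute (e (qq x u)) (y u x) := by simpa [Commute, SemiconjBy] using φ.qc h1 1
  have b4 : y u' f * e (qq x u) = e (qq x u) * y u' x * y u' f := by
    rw [φ.sw' h4, φ.sw' k3, qq_comm x u, mul_assoc, ← map_mul, b3, map_mul, map_mul,
      ← mul_assoc (e _) (y x u'), ← b2, qq_comm u' x]
    calc _ = y f u' * e (qq u x) * (y f u' * y f u') * e (qq x u') * e (qq u' f) := by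
          rw [φ.sq k4]; group
      _ = y f u' * e (qq u x) * y f u' * (y f u' * e (qq x u')) * e (qq u' f) := by group
      _ = _ := by rw [← c3.eq]; group
  have b5 : e (qq f u') * e (qq x u) * e (qq f u') = e (qq x u) * e (qq x u') := by
    rw [← map_mul, ← map_mul, ← map_mul, qq_comm f, qq_comm x, qq_comm x, b3, mul_assoc, qq_sq k4,
      mul_one]
  have s1 := φ.sq h1
  have s2 := φ.sq k3
  have s3 : e (qq x u') * e (qq x u') = 1 := by rw [← map_mul, qq_sq k3, map_one]
  have s4 : e (qq x u) * e (qq x u) = 1 := by rw [← map_mul, qq_sq h1, map_one]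
  have c7 : Commute (y u' x) (y u' f) := φ.comm k3 h4
  generalize y u x = A at *
  generalize y u' f = B at *
  generalize y u' x = C at *
  generalize e (qq x u) = p at *
  generalize e (qq f u') = q at *
  generalize e (qq x u') = r at *
  have b6 : A * q = q * C * A := by rw [← b1, mul_assoc _ A, s1, mul_one]
  calc _ = A * B * A * (B * t) * (r * C) := by rw [mul_assoc _ C, a3]; group
    _ = A * B * (A * t) * q * B * (r * C) := by rw [a2]; group
    _ = A * (B * t) * p * (A * q) * B * (r * C) := by rw [a1]; group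
    _ = A * t * q * (B * p) * (q * C) * A * B * (r * C) := by rw [a2, b6]; group
    _ = A * t * q * p * (C * B * (q * C)) * A * B * (r * C) := by rw [b4]; group
    _ = A * t * (q * p * q) * B * A * B * (r * C) := by
        rw [c7.eq, c4.eq, mul_assoc B, ← mul_assoc C, s2, one_mul, ← c5.eq]; group
    _ = t * p * (A * p) * (r * (B * A * B)) * (r * C) := by rw [b5, a1]; group
    _ = t * (p * p) * A * (B * A * B) * (r * r) * C := by
        rw [← c6.eq, ((c2.mul_right c1).mul_right c2).eq]; group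
    _ = _ := by rw [s3, s4]; group

theorem one (v : BV e t) (φ0 : Fam0 e t y) (φ : Fam e δ y) (h : Tq u x u' f) :
    ∃ ν : F, y u x * y u' f * y u x = y u' f * y u' x * e (qq (ν • x) u') := by
  have l1 : Li u' x := fun a b k => by
    obtain ⟨-, k1, k2⟩ := h.li 0 b a (by rwa [zero_smul, zero_add, add_comm])
    exact ⟨k2, k1⟩
  have k3 := hf_symm h.ux
  obtain ⟨s, c, s1, s2⟩ := v.vq _ u' (step1 φ0 φ h) (li_ne l1) fun s c hs =>
    (mul_inv_eq_iff_eq_mul.1 (step2 φ h hs c)).symm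
  obtain ⟨s', c', s3, s4⟩ := v.vq _ x (step1 φ0 φ h) (li_ne (li_symm l1)) fun s c hs =>
    (mul_inv_eq_iff_eq_mul.1 (step3 φ h hs c)).symm
  have e1 : EE u' s c = EE x s' c' := by
    rcases s2 with k | k <;> rcases s4 with k' | k' <;> rw [k] at k'
    · exact v.inj k'
    · exact absurd (by rw [map_mul, map_inv, k', mul_inv_cancel_right])
        (v.ne (EE u' s c * (EE x s' c')⁻¹))
    · exact absurd (by rw [map_mul, map_inv, ← k', mul_inv_cancel_right])
        (v.ne (EE x s' c' * (EE u' s c)⁻¹))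
    · exact v.inj (mul_left_cancel k')
  obtain ⟨g, g1, g2⟩ := exists_dual l1 1 0
  have e2 := ac_EE (ok s1 c) g
  rw [e1, ac_EE' s3 g2, g1, mul_one, one_smul] at e2
  have e3 : s = hf g s' • x + (hf g s + c) • u' := by
    ext j
    have := congrFun e2 j
    simp only [Pi.add_apply, Pi.smul_apply, smul_eq_mul] at this ⊢
    linear_combination -this - (hf g s + c) * u' j * two0 F
  have e4 : c = 0 := by
    have := congrArg (hf g) e3
    rw [hf_add_right, hf_smul_right', hf_smul_right', g1, g2] at this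
    linear_combination -this
  rw [e3, EE_shift', e4] at s2
  refine ⟨hf g s', ?_⟩
  generalize hf g s' = ν at s2
  have p : hf (ν • x) u' = 0 := by simp [hf_smul_left, k3]
  have fx : ∀ {w}, hf w u' = 0 → hf w x = 0 → ac (qq (ν • x) u') w = w := fun a b =>
    ac_qq_fix p a (by simp [hf_smul_right', b])
  have c1 : Commute (e (qq (ν • x) u')) (y u x) :=
    φ.fix h.xu (fx (hf_symm h.uu) (hf_symm h.xu)) (fx k3 (hf_self _))
  have c2 : Commute (e (qq (ν • x) u')) (y u' f) := φ.fix h.fu' (ac_EE_u p 0) (fx h.fu' h.fx)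
  have c3 : Commute (e (qq (ν • x) u')) (y u' x) := φ.qc k3 ν
  have c4 : Commute (y u' x) (y u' f) := φ.comm k3 h.fu'
  have c5 : Commute (y u x) (y u' x) := by
    rw [Commute, SemiconjBy, φ.add1' h.xu k3 h.uu, φ.add1' k3 h.xu (hf_symm h.uu), add_comm]
  have q1 := φ.sq h.xu
  have q2 := φ.sq h.fu'
  have q3 := φ.sq k3
  have q4 : e (qq (ν • x) u') * e (qq (ν • x) u') = 1 := by rw [← map_mul, qq_sq p, map_one]
  rcases s2 with k | k
  · rw [← (c2.mul_right c3).eq, ← c4.eq, ← k]
    simp only [mul_assoc, ← mul_assoc (y u' x), q3, q2, one_mul, mul_one]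
  have a1 := mul_inv_eq_iff_eq_mul.1 (φ0.rl u x h.xu).tr
  have a3 := mul_inv_eq_iff_eq_mul.1 (φ0.rl u' x k3).tr
  have c6 := v.cen (qq (ν • x) u')
  have : e (qq x u) = e (qq x u') := by
    have tt := v.tt
    generalize y u x = A at *
    generalize y u' f = B at *
    generalize y u' x = C at *
    generalize e (qq (ν • x) u') = q at *
    have d1 : A * B * A * B = t * q * C := by rw [← k, mul_assoc _ C, q3, mul_one]
    have d2 : A * (t * q * C) * A * (t * q * C) = 1 := by
      rw [← d1]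
      calc _ = A * A * B * A * B * (A * A) * B * A * B := by group
        _ = B * A * (B * B) * A * B := by rw [q1]; group
        _ = 1 := by rw [q2, mul_one, mul_assoc B, q1, mul_one, q2]
    have d3 : t * e (qq x u) * (C * t) * C = 1 := by
      rw [← d2]
      calc _ = t * e (qq x u) * (A * A) * (C * t) * (q * q) * C := by rw [q1, q4]; group
        _ = A * t * (A * C) * (t * q) * q * C := by rw [a1]; group
        _ = A * t * (C * A * q) * t * q * C := by rw [c5.eq, c6]; group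
        _ = _ := by rw [← (c3.mul_right c1).eq]; group
    rw [a3, mul_assoc _ _ C, mul_assoc _ C, q3, mul_one, ← mul_assoc, mul_assoc t, ← v.cen,
      ← mul_assoc, tt, one_mul, ← map_mul] at d3
    rw [eq_inv_of_mul_eq_one_left (v.inj (d3.trans e.map_one.symm)),
      inv_eq_of_mul_eq_one_right (qq_sq k3)]
  have := v.inj this
  rw [qq_comm x, qq_comm x] at this
  obtain ⟨⟨a, ha⟩, -⟩ := EE_inj' (li_ne (li_symm l1)) (hf_symm h.xu) h.ux this
  exact absurd (h.li 1 a 1 (by rw [one_smul, one_smul, ← ha, v_add_self])).1 one_ne_zero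

theorem li4 (h : Tq u x u' f) : LinearIndependent F ![u, x, u', f] := by
  rw [Fintype.linearIndependent_iff]
  intro g hg
  have k : g 0 • u + g 1 • x + g 2 • u' + g 3 • f = 0 := by simpa [Fin.sum_univ_four] using hg
  have k3 : g 3 = 0 := by
    simpa [hf_add_left, hf_smul_left, hf_self, h.xu, h.uu, h.fu] using congrArg (hf · u) k
  obtain ⟨k0, k1, k2⟩ := h.li (g 0) (g 1) (g 2) (by simpa [k3] using k)
  intro i; fin_cases i <;> assumption

theorem gram (h : Tq u x u' f) (i j : Fin 4) : hf (![u, x, u', f] i) (![u, x, u', f] j) =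
    if i = 0 ∧ j = 3 ∨ i = 3 ∧ j = 0 then 1 else 0 := by
  fin_cases i <;> fin_cases j <;> simp [hf_self, h.xu, h.uu, h.ux, h.fu', h.fx, h.fu, hf_symm h.xu,
    hf_symm h.uu, hf_symm h.ux, hf_symm h.fu', hf_symm h.fx, hf_comm u f]

theorem jobC2 : JobC2.{u} := by
  intro n F _ _ _ _ _ _ G _ _ e t b c x z v δ y φ0 φ
  by_cases h : ∃ u x u' f : Vn n F, Tq u x u' f
  · obtain ⟨u, x, u', f, h⟩ := h
    obtain ⟨ν, hν⟩ := one v φ0 φ h
    refine ⟨ν, fun u₁ x₁ u₁' f₁ h₁ => ?_⟩
    obtain ⟨g, hg⟩ := H54.SPF.witt _ _ (li4 h) (li4 h₁) fun i j => (gram h i j).trans (gram h₁ i j).symm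
    have k3 := hf_symm h.ux
    rw [← show ac g u = u₁ from hg 0, ← show ac g x = x₁ from hg 1, ← show ac g u' = u₁' from hg 2,
      ← show ac g f = f₁ from hg 3, ← φ.eqv _ _ _ h.xu, ← φ.eqv _ _ _ h.fu', ← φ.eqv _ _ _ k3,
      ← ac_smul, ← qq_conj g (by simp [hf_smul_left, k3]), map_mul, map_mul, map_inv, conj_mul,
      conj_mul, conj_mul, conj_mul, hν]
  · exact ⟨0, fun u x u' f k => absurd ⟨u, x, u', f, k⟩ h⟩

end H18.S2C2
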