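import Cfsg.Agent.H78.P6.H70_S2B4

namespace H70 end H70
open H70
namespace H85.P6 end H85.P6
open H85.P6
namespace H85.P6.H70 end H85.P6.H70
open H85.P6.H70
namespace H85.P6.H70.S2B5 end H85.P6.H70.S2B5
open H85.P6.H70.S2B5
namespace H78.P6


/-! STD-SP chapter II, slot `B5`: the constant `δ`. -/

set_option autoImplicit false
set_option linter.unusedSectionVars false

namespace H70.S2B5

open H64.SG (Cz Cs Ns)
open H67.UA hiding Par
open H67.SP
open H67.SA (SLn la)
open H86.SPI (ok pp hf_self hf_comm EE_mul' EE_comm EE_sq hf_smul_right' TT_conj qq_conj qq_dep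
  qq_add_smul TT_mul qq_sq)
open H78.S2 H70.S2B4
open Matrix Subgroup

universe u

variable {n : ℕ} {F : Type} [Field F] [StarRing F] [TrivialStar F] [CharP F 2] [Finite F] [Par n F]
  {G : Type u} [Group G] {e : XU n F →* G} {t : G} {y : Vn n F → Vn n F → G}
  {u x x' : Vn n F}

/-- additivity with the constant `c` -/
def Pc (e : XU n F →* G) (y : Vn n F → Vn n F → G) (u x x' : Vn n F) (c : F) : Prop :=
  y u x * y u x' = y u (x + x') * e (Tc c u)

theorem hadd (h : hf x u = 0) (h' : hf x' u = 0) : hf (x + x') u = 0 := by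
  rw [hf_add_left, h, h', add_zero]

theorem Pc.eqv (f : Fam0 e t y) (h : hf x u = 0) (h' : hf x' u = 0) {c : F} (k : Pc e y u x x' c)
    (g : XU n F) : Pc e y (ac g u) (ac g x) (ac g x') c := by
  rw [Pc, ← ac_add, ← f.eqv g _ _ h, ← f.eqv g _ _ h', ← f.eqv g _ _ (hadd h h'),
    ← Tc_conj (hf_self u) (star_trivial c), show ∀ a b c : G, a * b * a⁻¹ * (a * c * a⁻¹) =
      a * (b * c) * a⁻¹ from fun a b c => by group, k]
  simp only [map_mul, map_inv]; group

theorem tcm (f : Fam0 e t y) (d : F) {v p q : Vn n F} (h : hf q p = 0) (h1 : hf p v = 0)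
    (h2 : hf q v = 0) : e (Tc d v) * y p q = y p q * e (Tc d v) :=
  f.fix h (ac_Tc_fix d h1) (ac_Tc_fix d h2)

/-- additivity in the first variable -/
theorem first (f : Fam0 e t y) (s : Sym e y) {a b c : Vn n F} (h1 : hf a b = 0) (h2 : hf c b = 0)
    (h3 : hf c a = 0) {d : F} (k : Pc e y b a c d) : y a b * y c b = y (a + c) b * e (Tc d b) := by
  rw [s.sw b a h1, s.sw b c h2, s.sw b _ (hadd h1 h2), mul_assoc, ← mul_assoc (e _),
    f.fix h2 (ac_EE_u h1 0) (ac_qq_fix h1 h2 h3), ← mul_assoc, ← mul_assoc, k]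
  simp only [mul_assoc, ← map_mul]
  rw [EE_mul' h1 h2, Tc_mul_EE (hadd h1 h2), EE_mul_Tc (hadd h1 h2), h3]
  simp

theorem li012 : ∃ a b c : Vn n F, Li3 a b c ∧ hf a b = 0 ∧ hf a c = 0 ∧ hf b c = 0 := by
  have := (inferInstance : Par n F).five
  have h1 := H54.SPF.v1 this
  have h2 := H54.SPF.v2 this
  refine ⟨ev 0, ev 1, ev 2, H54.SPF.li3_iff.2 ?_, ?_, ?_, ?_⟩
  · convert H54.SPF.li_ev (F := F) (f := ![(0 : Fin (n + 1)), 1, 2]) (fun i j k => ?_) using 1
    · ext i; fin_cases i <;> rfl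
    · fin_cases i <;> fin_cases j <;>
        first | rfl | (have := congrArg Fin.val k; simp [H54.SPF.m1 ‹_›, H54.SPF.m2 ‹_›] at this)
  all_goals rw [H54.SPF.hf_evv, if_neg (by simp [H54.SPF.m1 this, H54.SPF.m2 this]; omega)]

theorem li3_comb {a b c : Vn n F} (h : Li3 a b c) (M : Fin 3 → Fin 3 → F)
    (hM : ∀ r s w : F, r * M 0 0 + s * M 1 0 + w * M 2 0 = 0 → r * M 0 1 + s * M 1 1 + w * M 2 1 = 0 →
      r * M 0 2 + s * M 1 2 + w * M 2 2 = 0 → r = 0 ∧ s = 0 ∧ w = 0) :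
    Li3 (M 0 0 • a + M 0 1 • b + M 0 2 • c) (M 1 0 • a + M 1 1 • b + M 1 2 • c)
      (M 2 0 • a + M 2 1 • b + M 2 2 • c) := fun r s w k => by
  obtain ⟨h1, h2, h3⟩ := h _ _ _ (show (r * M 0 0 + s * M 1 0 + w * M 2 0) • a +
    (r * M 0 1 + s * M 1 1 + w * M 2 1) • b + (r * M 0 2 + s * M 1 2 + w * M 2 2) • c = 0 by
      rw [← k]; module)
  exact hM r s w h1 h2 h3

theorem jobB5 : JobB5.{u} := by
  intro n F _ _ _ _ _ _ G _ _ e t _ _ _ _ v y f ad s
  have five := (inferInstance : Par n F).five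
  -- the value at `1`
  have h1 : hf (ev 1 : Vn n F) (ev 0) = 0 := li01.2
  have h2 : hf (ev (1 : Fin (n + 1)).rev : Vn n F) (ev 0) = 0 := by
    rw [H54.SPF.hf_evv, if_neg (by simp [Fin.val_rev, H54.SPF.m1 five]; omega)]
  obtain ⟨δ, hδ⟩ := ad _ _ _ h1 h2
  have one : ∀ u x x', u ≠ 0 → hf x u = 0 → hf x' u = 0 → hf x' x ≠ 0 →
      Pc e y u x x' (δ * hf x' x) := fun u x x' hu h h' h0 => by
    obtain ⟨l, hl⟩ : ∃ l : F, hf x' x = l ^ 2 := ⟨rt _, (rt_sq _).symm⟩
    have l0 : l ≠ 0 := fun k => h0 (by rw [hl, k]; simp)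
    obtain ⟨g, k1, k2, k3⟩ := H54.SPF.wh1 (l • u) (l⁻¹ • x) (l⁻¹ • x') (hs (hf_symm h) _ _)
      (hs (hf_symm h') _ _) (smul_ne_zero l0 hu) (by
        rw [hf_smul_left, hf_smul_right', hf_comm, hl]; field_simp)
    have := Pc.eqv f h1 h2 hδ g
    rw [k1, k2, k3, Pc, ← smul_add, s.sm _ _ _ (hs1 h _), s.sm _ _ _ (hs1 h' _),
      s.sm _ _ _ (hs1 (hadd h h') _), smul_inv_smul₀ l0, smul_inv_smul₀ l0, smul_inv_smul₀ l0,
      Tc_smul'] at this
    rwa [hl, mul_comm δ]
  -- the value at `0`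
  obtain ⟨β, hβ⟩ := ad (ev 0) (ev 1) (ev 2) h1 (by
    rw [H54.SPF.hf_evv, if_neg (by simp [H54.SPF.m2 five]; omega)])
  have zero : ∀ u x x', Li3 u x x' → hf x u = 0 → hf x' u = 0 → hf x' x = 0 → Pc e y u x x' β :=
    fun u x x' hl h h' h0 => by
      obtain ⟨g, rfl, rfl, rfl⟩ := H54.SPF.w3 u x x' (hf_symm h) (hf_symm h') (hf_symm h0) hl
      exact Pc.eqv f (by simpa using h) (by simpa using h') hβ g
  have β0 : β = 0 := by
    obtain ⟨a, b, c, hl, ab, ac', bc⟩ := li012 (n := n) (F := F)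
    have ba := hf_symm ab
    have ca := hf_symm ac'
    have cb := hf_symm bc
    have L := li3_comb hl
    have E1 := zero (a + c) b c (by
      simpa using L ![![1, 0, 1], ![0, 1, 0], ![0, 0, 1]] (by simp +contextual))
      (hf_symm (hadd ab cb)) (hf_symm (hadd ac' (hf_self c))) cb
    have E2 := first f s (hf_symm (hadd ba ca)) (hf_symm (hadd bc (hf_self c))) ca (zero (b + c) a c (by
      simpa using L ![![0, 1, 1], ![1, 0, 0], ![0, 0, 1]] (by simp +contextual))
      (hf_symm (hadd ba ca)) (hf_symm (hadd bc (hf_self c))) ca)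
    have A1 := first f s ab cb ca (zero b a c (by
      simpa using L ![![0, 1, 0], ![1, 0, 0], ![0, 0, 1]] (by simp +contextual)) ab cb ca)
    have B1 := zero a b c hl ba ca cb
    have B2 := f.sh bc 1
    have A2 : y (a + c) c = y a c * e (Tc 1 c) := by
      have := f.sh ac' 1
      rw [one_smul] at this
      rw [s.sw c _ (hadd ac' (hf_self c)), this, s.sw c a ac']
      simp only [mul_assoc, ← map_mul]
      rw [EE_comm ac' (hf_zero_left c), ← EE_shift' 1 c a, one_smul]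
    have C : y c b * y a c = y a c * y c b := by
      have k1 := zero c b a (by
        simpa using L ![![0, 0, 1], ![0, 1, 0], ![1, 0, 0]] (by simp +contextual)) bc ac' ab
      have k2 := zero c a b (by
        simpa using L ![![0, 0, 1], ![1, 0, 0], ![0, 1, 0]] (by simp +contextual)) ac' bc ba
      rw [s.sw c a ac', mul_assoc, f.fix bc (ac_EE_u ac' 0) (ac_qq_fix ac' bc ba), ← mul_assoc,
        ← mul_assoc, k1, k2, add_comm]
    rw [one_smul] at B2
    have W1 : y a b * y c b * y a c * e (Tc 1 c) =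
        y (a + c) (b + c) * e (Tc β (a + c)) * e (Tc β b) := by
      rw [mul_assoc, ← A2, A1, mul_assoc, tcm f β (hf_symm (hadd ac' (hf_self c))) (hadd ab cb) cb,
        ← mul_assoc, E1]
    have W2 : y a b * y c b * y a c * e (Tc 1 c) =
        y (a + c) (b + c) * e (Tc β (b + c)) * e (Tc β a) := by
      rw [mul_assoc (y a b), C, ← mul_assoc, mul_assoc, ← B2, B1, mul_assoc,
        tcm f β (hadd bc (hf_self c)) ca (hadd ba ca), ← mul_assoc, E2]
    rw [W1, mul_assoc, mul_assoc, mul_right_inj, ← map_mul, ← map_mul] at W2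
    obtain ⟨z, z1, z2, z3⟩ := exists_dual3 hl 1 0 0
    have := congrArg (fun g => ac g z) (v.inj W2)
    simp only [ac_mul, ac_Tc', hf_add_left, hf_add_right, hf_smul_left, z1, z2, z3, ab, ac', mul_zero,
      zero_smul, add_zero, mul_one, smul_add, add_right_inj, add_eq_left] at this
    exact (hl 0 0 β (by simpa using this)).2.2
  refine ⟨δ, fun u x x' h h' => ?_⟩
  by_cases hu : u = 0
  · simp [hu, f.zero]
  by_cases h0 : hf x' x = 0
  swap
  · exact one u x x' hu h h' h0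
  rw [h0, mul_zero, Tc, EE_zero, map_one, mul_one]
  by_cases hl : Li u x
  swap
  · obtain ⟨a, rfl⟩ := dep_of_not_li hu hl
    rw [f.dep, add_comm (a • u), f.sh h', tcm f a h' (hf_self u) h']
  by_cases h3 : Li3 u x x'
  · simpa [β0, Pc] using zero u x x' h3 h h' h0
  obtain ⟨a, c, rfl⟩ : ∃ a c : F, x' = c • x + a • u := by
    simp only [Li3, not_forall] at h3
    obtain ⟨r, s, w, k1, k2⟩ := h3
    have hw : w ≠ 0 := by
      rintro rfl
      obtain ⟨rfl, rfl⟩ := hl r s (by simpa using k1)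
      exact k2 ⟨rfl, rfl, rfl⟩
    refine ⟨w⁻¹ * r, w⁻¹ * s, ?_⟩
    have k3 : w • x' = s • x + r • u := by
      rw [← zero_add (s • x + r • u), ← k1, add_comm (s • x), add_right_comm, v_add_self, zero_add]
    rw [mul_smul, mul_smul, ← smul_add, ← k3, inv_smul_smul₀ hw]
  suffices k : y u x * y u (c • x) = y u (x + c • x) by
    rw [← add_assoc, f.sh (hs1 h c), f.sh (hadd h (hs1 h c)), ← mul_assoc, k]
  by_cases c0 : c = 0
  · simp [c0, f.y0]
  by_cases c1 : c = 1
  · simp [c1, f.y0, f.sq u x h]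
  obtain ⟨z, z1, z2⟩ := exists_dual hl 0 1
  have z3 : hf z (c • x) = c := by rw [hf_smul_right', z2, mul_one]
  have k1 := one u (c • x) z hu (hs1 h c) z1 (by rwa [z3])
  have z4 : hf (c • x + z) x = 1 := by rw [hf_add_left, hs1 (hf_self x), z2, zero_add]
  have k2 := one u x (c • x + z) hu h (hadd (hs1 h c) z1) (by rw [z4]; exact one_ne_zero)
  have z5 : hf z (x + c • x) = 1 + c := by rw [hf_add_right, z2, z3]
  have k3 := one u (x + c • x) z hu (hadd h (hs1 h c)) z1 (by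
    rw [z5]; exact fun k => c1 (CharTwo.add_eq_zero.1 k).symm)
  rw [Pc, z3] at k1
  rw [Pc, z4, ← add_assoc] at k2
  rw [Pc, z5] at k3
  rw [← mul_left_inj (y u z), k3, mul_assoc, k1, ← mul_assoc, k2, mul_assoc, ← map_mul, Tc_mul,
    mul_add]

end H70.S2B5
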