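import Cfsg.Agent.H78.P6.H78_S2Kit

namespace H76 end H76
open H76
namespace H85.P6 end H85.P6
open H85.P6
namespace H85.P6.H76 end H85.P6.H76
open H85.P6.H76
namespace H85.P6.H76.S2B1 end H85.P6.H76.S2B1
open H85.P6.H76.S2B1
namespace H78.P6


/-! STD-SP chapter II, slot B1: the normalised element `w`. -/

set_option autoImplicit false
set_option linter.unusedSectionVars false

namespace H76.S2B1

open H64.SG (Cz Cs Ns)
open H67.UA hiding Par
open H67.SP H78.S2
open H86.SPI (ok pp hf_self hf_comm EE_mul' EE_comm EE_sq hf_smul_right' TT_conj ac_TT TT_smul)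
open Matrix Subgroup

universe u

variable {n : ℕ} {F : Type} [Field F] [StarRing F] [TrivialStar F] [CharP F 2] [Finite F] [Par n F]

/-- `TT y * TT (y + m) = EE m y 1` -/
theorem TT_TT {m y : Vn n F} (h : hf y m = 0) : TT y * TT (y + m) = EE m y 1 := ac_ext fun v => by
  have two := two0 F
  rw [ac_mul, ac_TT, ac_TT, ac_EE (ok h 1)]
  simp only [hf_add_left, hf_add_right, hf_smul_left, hf_self, hf_symm h]
  ext i
  simp only [Pi.add_apply, Pi.smul_apply, smul_eq_mul]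
  grind

theorem cr_EE {u v : Vn n F} (h : hf v u = 0) (hl : Li u v) {c : F} (hc : c ≠ 0) :
    Cr (EE u v c) := by
  have hs := rt_ne hc
  have h1 : hf ((rt c)⁻¹ • v) (rt c • u) = 0 := by
    rw [hf_smul_left, hf_smul_right', h, mul_zero, mul_zero]
  refine ⟨(rt c)⁻¹ • v, (rt c)⁻¹ • v + rt c • u, by rw [hf_add_right, hf_self, h1, add_zero],
    fun a b k => ?_, ?_⟩
  · obtain ⟨h2, h3⟩ := hl (b * rt c) ((a + b) * (rt c)⁻¹) (by rw [← k]; module)
    have hb := (mul_eq_zero.1 h2).resolve_right hs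
    have := (mul_eq_zero.1 h3).resolve_right (inv_ne_zero hs)
    exact ⟨by simpa [hb] using this, hb⟩
  · rw [TT_TT h1, EE_smul, star_trivial, nm, star_trivial, ← pow_two, rt_sq, mul_one,
      smul_inv_smul₀ hs]

theorem rt_EE {u v : Vn n F} (h : hf v u = 0) (hl : Li u v) (c : F) : Rt (EE u v c) := by
  by_cases hc : c = 0
  · exact Or.inr (Or.inl ⟨u, v, hf_symm h, hl, by rw [hc]⟩)
  · exact Or.inr (Or.inr (cr_EE h hl hc))

theorem li_of {u x v : Vn n F} (hu : u ≠ 0) (h : hf x u = 0) (hd : hf v x ≠ 0) : Li u v :=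
  li_of_not_dep hu fun c k => hd (by rw [k, hf_smul_left, hf_symm h, mul_zero])

variable {G : Type u} [Group G] {e : XU n F →* G} {t w : G} {u x : Vn n F}

theorem fu_conj (v : BV e t) {g g' : XU n F} (h : IsConj g g') (k : Fu e t g) : Fu e t g' := by
  obtain ⟨a, rfl⟩ := isConj_iff.1 h
  refine k.trans (isConj_iff.2 ⟨e a, ?_⟩)
  rw [map_mul, map_mul, map_inv, ← mul_assoc t, ← mul_assoc t, v.cen a]
  group

/-- `w` commutes with the stabiliser of `u, x` and translates `t`. -/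
structure Wt (e : XU n F →* G) (t : G) (u x : Vn n F) (w : G) : Prop where
  p : hf x u = 0
  li : Li u x
  cen : ∀ p, ac p u = u → ac p x = x → w * e p = e p * w
  tr : w * t * w⁻¹ = t * e (qq x u)

theorem Wt.cj (h : Wt e t u x w) {p : XU n F} (h1 : ac p u = u) (h2 : ac p x = x) :
    w * e p * w⁻¹ = e p := by rw [h.cen p h1 h2, mul_inv_cancel_right]

theorem Wt.z (h : Wt e t u x w) : w * e (qq x u) * w⁻¹ = e (qq x u) :=
  h.cj (ac_EE_u h.p 0) (ac_qq_fix h.p h.p (hf_self x))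

theorem Wt.tcj (h : Wt e t u x w) (g : G) : w * (t * g) * w⁻¹ = t * e (qq x u) * (w * g * w⁻¹) := by
  rw [← h.tr]; group

theorem Wt.ncr [FR n F] (h : Wt e t u x w) (v : BV e t) (nb : ∀ g, Lr g → ¬ Fu e t g)
    {g : XU n F} (hg : Cr g) : ¬ Fu e t g := fun k => by
  have h0 := hf_symm h.p
  have h1 : Cr (TT (u + x) * TT x) := ⟨u + x, x, by rw [hf_add_left, h0, hf_self, add_zero],
    fun a b k => by
      obtain ⟨h2, h3⟩ := h.li a (a + b) (by rw [← k]; module)
      exact ⟨h2, by simpa [h2] using h3⟩, rfl⟩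
  have h2 := fu_conj v (((FR.cr g).1 hg).symm.trans ((FR.cr _).1 h1)) k
  refine nb (TT u) ⟨u, li_ne h.li, rfl⟩ (h2.trans (isConj_iff.2 ⟨w, ?_⟩).symm)
  have h3 : TT x * TT u = TT u * TT x :=
    EE_fix (hf_zero_left u) 1 (ac_Tc_fix 1 h0) (ac_zero _)
  rw [h.tcj, h.cj (ac_Tc_fix 1 (hf_self u)) (ac_Tc_fix 1 h.p), mul_assoc, ← map_mul,
    qq_eq_TT (pp h0), mul_assoc, mul_assoc, h3, ← mul_assoc (TT u), Tc_sq, one_mul]

/-- The image of `qq s u`, first form. -/
theorem Wt.img0 (h : Wt e t u x w) (v : BV e t) {s : Vn n F} (hs : hf s u = 0) :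
    ∃ ν c : F, Te e t (w * e (qq s u) * w⁻¹) (EE u (s + ν • x) c) := by
  have h0 := hf_symm h.p
  have hx : ∀ c : F, hf (c • x) u = 0 := fun c => by rw [hf_smul_left, h.p, mul_zero]
  have a1 := ac_EE_u hs 0
  have a2 : ac (qq s u) x = x + hf x s • u := ac_EE' hs h.p 0
  have aa := EE_sq hs 0
  have ai : (qq s u)⁻¹ = qq s u := inv_eq_of_mul_eq_one_right aa
  have zz : e (qq x u) * e (qq x u) = 1 := by rw [← map_mul, EE_sq h.p, map_one]
  have wt : w⁻¹ * t * w = t * e (qq x u) := by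
    have := h.tcj (e (qq x u))
    rw [h.z, mul_assoc t, zz, mul_one] at this
    calc _ = w⁻¹ * (w * (t * e (qq x u)) * w⁻¹) * w := by rw [this]
      _ = _ := by group
  have c0 : Commute (e (qq s u)) t := (v.cen _).symm
  have c1 : Commute (e (qq s u)) (w⁻¹ * t * w) := by
    rw [wt]
    exact c0.mul_right (Commute.map (EE_comm hs h.p 0 0) e)
  have c2 : Commute (w * e (qq s u) * w⁻¹) t := by
    have := c1.conj w
    rwa [show w * (w⁻¹ * t * w) * w⁻¹ = t by group] at this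
  obtain ⟨α, β, γ, hμ⟩ := v.v2 (w * e (qq s u) * w⁻¹ * (e (qq s u))⁻¹) u x
    (c2.mul_left c0.inv_left) h0 h.li (fun p p1 p2 => by
    have h1 := h.cen ((qq s u)⁻¹ * p * qq s u) (by rw [ai, ac_mul, ac_mul, a1, p1, a1]) (by
      rw [ac_mul, ac_mul, a2, ac_add, ac_smul, p1, p2, ← a2, ac_inv_ac])
    have h2 := h.cen p p1 p2
    simp only [map_mul, map_inv] at h1
    calc _ = w * e (qq s u) * w⁻¹ * ((e (qq s u))⁻¹ * e p * e (qq s u) * w) * w⁻¹ *
          (e (qq s u))⁻¹ := by group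
      _ = w * e p * e (qq s u) * w⁻¹ * (e (qq s u))⁻¹ := by rw [← h1]; group
      _ = _ := by rw [h2]; group)
  obtain ⟨M, hM⟩ : ∃ M, M = TT (α • u + β • x) * qq (γ • x) u := ⟨_, rfl⟩
  rw [← hM] at hμ
  have t1 : Te e t (w * e (qq s u) * w⁻¹) (M * qq s u) :=
    hμ.imp (fun k => by rw [map_mul, ← k, inv_mul_cancel_right])
      fun k => by rw [map_mul, ← mul_assoc, ← k, inv_mul_cancel_right]
  have sq : w * e (qq s u) * w⁻¹ * (w * e (qq s u) * w⁻¹) = 1 := by
    rw [conj_mul, ← map_mul, aa]; simp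
  have s2 : M * qq s u * (M * qq s u) = 1 := v.inj (by
    rw [map_mul, map_one]
    rcases t1 with k | k
    · rw [← k, sq]
    · rw [k, mul_assoc, ← mul_assoc (e _), ← v.cen, ← mul_assoc, ← mul_assoc, v.tt, one_mul] at sq
      exact sq)
  have s3 : M * M = 1 := by
    rw [hM, mul_assoc, ← mul_assoc (qq _ _), ← H86.SPI.TT_comm_qq h0, ← mul_assoc, ← mul_assoc,
      Tc_sq, one_mul, EE_sq (hx γ)]
  have s4 : qq s u * M * (qq s u)⁻¹ = M := by
    rw [ai]
    refine mul_left_cancel (a := M) ?_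
    rw [s3, ← s2]
    group
  rw [hM, ← conj_mul, TT_conj, EE_comm hs (hx γ), mul_inv_cancel_right, mul_left_inj, ac_add,
    ac_smul, ac_smul, a1, a2] at s4
  have s5 := H54.SPI.TT_inj s4
  by_cases hd : hf x s = 0
  · exact ⟨0, 0, Or.inl (by
      rw [zero_smul, add_zero, h.cj a1 (by rw [a2, hd, zero_smul, add_zero])])⟩
  have s6 : β = 0 := by
    have := (h.li (β * hf x s) 0 (by
      rw [smul_add, ← add_assoc, add_eq_left] at s5
      rw [zero_smul, add_zero, mul_smul, s5])).1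
    exact (mul_eq_zero.1 this).resolve_right hd
  rw [hM, s6, zero_smul, add_zero, TT_smul, Tc_mul_EE (hx γ), EE_mul' (hx γ) hs, add_comm (γ • x)]
    at t1
  exact ⟨_, _, t1⟩

/-- The image of `Q_u`. -/
theorem Wt.img [FR n F] (h : Wt e t u x w) (v : BV e t) (nb : ∀ g, Lr g → ¬ Fu e t g)
    {s : Vn n F} (hs : hf s u = 0) : ∃ ν : F, (hf s x = 0 → ν = 0) ∧
      ∀ c, w * e (EE u s c) * w⁻¹ = e (EE u (s + ν • x) (c + hf s x)) := by
  have h0 := hf_symm h.p
  have hx : ∀ c : F, hf (s + c • x) u = 0 := fun c => by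
    rw [hf_add_left, hf_smul_left, h.p, mul_zero, hs, add_zero]
  have hx' : ∀ c : F, hf (s + c • x) x = hf s x := fun c => by
    rw [hf_add_left, hf_smul_left, hf_self, mul_zero, add_zero]
  by_cases hd : hf s x = 0
  · refine ⟨0, fun _ => rfl, fun c => ?_⟩
    rw [zero_smul, add_zero, hd, add_zero, h.cj (ac_EE_u hs c) (by
      rw [ac_EE' hs h.p, hf_comm, hd, zero_smul, add_zero])]
  have hu := li_ne h.li
  obtain ⟨ν, c, k⟩ := h.img0 v hs
  have f1 : IsConj t (w * (t * e (qq s u)) * w⁻¹) :=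
    (v.sr _ ⟨u, s, hf_symm hs, li_of hu h.p hd, rfl⟩).trans (isConj_iff.2 ⟨w, rfl⟩)
  have e1 : qq x u * EE u (s + ν • x) c = EE u (s + (ν + 1) • x) (c + hf s x) := by
    rw [EE_mul' h.p (hx ν), hx', zero_add, add_smul, one_smul, add_comm x, add_assoc]
  have l1 : Li u (s + (ν + 1) • x) := li_of hu h.p (by rwa [hx'])
  rw [h.tcj] at f1
  rcases k with k | k
  · rw [k, mul_assoc, ← map_mul, e1] at f1
    have e2 : c + hf s x = 0 := by
      by_contra e2
      exact h.ncr v nb (cr_EE (hx _) l1 e2) f1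
    refine ⟨ν, fun k => absurd k hd, fun d => ?_⟩
    have e3 : EE u s d = qq s u * Tc d u := by rw [EE_mul_Tc hs, zero_add]
    rw [e3, map_mul, ← conj_mul, k, h.cj (ac_Tc_fix d (hf_self u)) (ac_Tc_fix d h.p), ← map_mul,
      EE_mul_Tc (hx ν), CharTwo.add_eq_zero.1 e2, add_comm d]
  · rw [k, mul_assoc, ← mul_assoc (e _), ← v.cen, ← mul_assoc, ← mul_assoc, v.tt, one_mul,
      ← map_mul, e1] at f1
    exact absurd f1 (v.nr _ (Or.inr (rt_EE (hx _) l1 _)))

theorem Wt.mulT (h : Wt e t u x w) (v : BV e t) {y : Vn n F}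
    (hy : ∀ p, ac p u = u → ac p x = x → ac p y = y) : Wt e t u x (w * e (TT y)) where
  p := h.p
  li := h.li
  cen p p1 p2 := by
    rw [mul_assoc, ← map_mul, ← EE_fix (hf_zero_left y) 1 (hy p p1 p2) (ac_zero p), map_mul,
      ← mul_assoc, h.cen p p1 p2, mul_assoc]
  tr := by
    rw [← h.tr, mul_assoc w, ← v.cen]
    group

theorem Wt.main [FR n F] (h : Wt e t u x w) (v : BV e t) (nb : ∀ g, Lr g → ¬ Fu e t g) :
    ∃ r : F, Rw e t u x (w * e (TT (r • x))) := by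
  have two := two0 F
  have h0 := hf_symm h.p
  have hx : ∀ s, hf s u = 0 → ∀ c : F, hf (s + c • x) u = 0 := fun s hs c => by
    rw [hf_add_left, hf_smul_left, h.p, mul_zero, hs, add_zero]
  obtain ⟨s₁, s1, s2⟩ := exists_dual h.li 0 1
  obtain ⟨κ, -, hκ⟩ := h.img v nb s1
  have key : ∀ s, hf s u = 0 → ∀ c,
      w * e (EE u s c) * w⁻¹ = e (EE u (s + (κ * hf s x) • x) (c + hf s x)) := fun s hs => by
    obtain ⟨ν, -, hν⟩ := h.img v nb hs
    have h1 : hf (s + s₁) u = 0 := by rw [hf_add_left, hs, s1, add_zero]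
    obtain ⟨ν', -, hν'⟩ := h.img v nb h1
    have h2 := hν' (0 + 0 + hf s₁ s)
    rw [← EE_mul' hs s1, map_mul, ← conj_mul, hν, hκ, ← map_mul, EE_mul' (hx s hs ν) (hx s₁ s1 κ)]
      at h2
    have h3 := (EE_inj' (li_ne h.li) (by rw [hf_add_left, hx s hs, hx s₁ s1, add_zero])
      (hx _ h1 _) (v.inj h2)).2
    simp only [hf_add_left, hf_add_right, hf_smul_left, hf_smul_right', hf_self, s2,
      hf_comm x s] at h3
    have h4 : ν = κ * hf s x := by grind
    rw [← h4]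
    exact hν
  refine ⟨rt κ, (h.mulT v fun p _ p2 => by rw [ac_smul, p2]).tr, fun s c hs => ?_⟩
  rw [show w * e (TT (rt κ • x)) * e (EE u s c) * (w * e (TT (rt κ • x)))⁻¹ =
      w * e (TT (rt κ • x) * EE u s c * (TT (rt κ • x))⁻¹) * w⁻¹ by
        simp only [map_mul, map_inv]; group,
    EE_conj' hs, TT_smul, rt_sq, ac_Tc_fix κ h0, ac_Tc', key _ (hx s hs _), hf_add_left,
    hf_smul_left, hf_self, mul_zero, add_zero, add_assoc, v_add_self, add_zero]

theorem jobB1 : JobB1.{u} := by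
  intro n F _ _ _ _ _ p G _ _ e t b c x z v nb ⟨w, w1, w2⟩
  have five := p.five
  have h01 : hf (ev 1 : Vn n F) (ev 0) = 0 := by
    rw [H54.SPF.hf_evv, if_neg (by rw [H54.SPF.v1 five]; simp; omega)]
  have l01 : Li (ev 0 : Vn n F) (ev 1) := H54.SPF.li_iff.2 (by
    have := H54.SPF.li_ev (F := F) (f := ![(0 : Fin (n + 1)), 1]) (by
      intro i j hij
      have h1 := H54.SPF.v1 five
      fin_cases i <;> fin_cases j <;> simp_all [Fin.ext_iff])
    convert this using 1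
    ext1 i
    fin_cases i <;> rfl)
  have a0 : Wt e t (ev 0) (ev 1) w := ⟨h01, l01, fun q q1 q2 => w1 q ⟨q1, q2⟩, w2⟩
  obtain ⟨r, hr⟩ := a0.main v nb
  have a1 := a0.mulT v (y := r • ev 1) fun p _ p2 => by rw [ac_smul, p2]
  have a2 : Wt e t (ev 1) (ev 0) (w * e (TT (r • ev 1))) :=
    ⟨hf_symm h01, li_symm l01, fun q q1 q2 => a1.cen q q2 q1, by rw [a1.tr, qq_comm]⟩
  obtain ⟨r', hr'⟩ := a2.main v nb
  have a3 := a1.mulT v (y := r' • ev 0) fun p p1 _ => by rw [ac_smul, p1]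
  refine ⟨_, fun q hq => a3.cen q hq.1 hq.2, ⟨a3.tr, fun s d hs => ?_⟩, hr'⟩
  rw [← hr.act s d hs, mul_assoc _ (e (TT _)), ← map_mul, TT_smul r',
    EE_comm (hf_zero_left _) hs, map_mul]
  group

end H76.S2B1
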