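import Cfsg.Agent.H78.P6.H78_S2Kit

namespace H96 end H96
open H96
namespace H85.P6 end H85.P6
open H85.P6
namespace H85.P6.H96 end H85.P6.H96
open H85.P6.H96
namespace H85.P6.H96.SP2 end H85.P6.H96.SP2
open H85.P6.H96.SP2
namespace H78.P6


/-! STD-SP chapter II: job B3 (additivity modulo `Z_u`). -/

set_option autoImplicit false
set_option linter.unusedSectionVars false

namespace H96.SP2

open H67.UA hiding Par
open H67.SP H78.S2
open H86.SPI (ok pp hf_self hf_comm EE_mul' EE_comm EE_sq hf_smul_right')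
open H54.SPF (li3_iff witt)

universe u

variable {n : ℕ} {F : Type} [Field F] [StarRing F] [TrivialStar F] [CharP F 2] [Finite F] [Par n F]

theorem witt3 {a b c a' b' c' : Vn n F} (h : Li3 a b c) (h' : Li3 a' b' c')
    (h1 : hf a b = hf a' b') (h2 : hf a c = hf a' c') (h3 : hf b c = hf b' c') :
    ∃ g : XU n F, ac g a = a' ∧ ac g b = b' ∧ ac g c = c' := by
  obtain ⟨g, hg⟩ := witt ![a, b, c] ![a', b', c'] (li3_iff.1 h) (li3_iff.1 h') (fun i j => by
    fin_cases i <;> fin_cases j <;>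
      simp only [Fin.zero_eta, Fin.mk_one, Fin.reduceFinMk, Matrix.cons_val_zero,
        Matrix.cons_val_one, Matrix.cons_val, hf_self, h1, h2, h3, hf_comm b a, hf_comm c a,
        hf_comm c b, hf_comm b' a', hf_comm c' a', hf_comm c' b'])
  exact ⟨g, hg 0, hg 1, hg 2⟩

theorem exists_third {u x : Vn n F} (h0 : hf x u = 0) (h : Li u x) :
    ∃ w, hf w u = 0 ∧ hf w x = 0 ∧ Li3 u x w := by
  obtain ⟨g, h1, h2⟩ := H54.SPF.w2 u x (hf_symm h0) h
  have h5 := Par.five (n := n) (F := F)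
  refine ⟨ac g (ev 2), ?_, ?_, fun a b c k => ?_⟩
  · rw [← h1, hf_ac, H54.SPF.hf_evv, H54.SPF.v2 h5, if_neg (by simp; omega)]
  · rw [← h2, hf_ac, H54.SPF.hf_evv, H54.SPF.v2 h5, H54.SPF.v1 h5, if_neg (by omega)]
  · rw [← h1, ← h2, ← ac_smul, ← ac_smul, ← ac_smul, ← ac_add, ← ac_add, ← ac_zero g] at k
    refine li3_iff.2 ?_ a b c (ac_inj g k)
    have := H54.SPF.li_ev (F := F) (f := ![(0 : Fin (n + 1)), 1, 2]) (fun i j k => by
      have k' := congrArg Fin.val k
      fin_cases i <;> fin_cases j <;>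
        simp [H54.SPF.v1 h5, H54.SPF.v2 h5, H54.SPF.m1 h5, H54.SPF.m2 h5] at k' ⊢)
    convert this using 1
    funext i
    fin_cases i <;> rfl

variable {G : Type u} [Group G] {e : XU n F →* G} {t : G} {y : Vn n F → Vn n F → G}
  {u x x' v v' : Vn n F} {g g' w : G}

/-- `g ∈ e(EE u v *)`. -/
def PE (e : XU n F →* G) (u v : Vn n F) (g : G) : Prop := hf v u = 0 ∧ ∃ c, g = e (EE u v c)

theorem PE.mul (h : PE e u v g) (h' : PE e u v' g') : PE e u (v + v') (g * g') := by
  obtain ⟨h1, c, rfl⟩ := h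
  obtain ⟨h2, d, rfl⟩ := h'
  exact ⟨by rw [hf_add_left, h1, h2, add_zero], _, by rw [← map_mul, EE_mul' h1 h2]⟩

theorem PE.sq (h : PE e u v g) : g * g = 1 := by
  obtain ⟨h1, c, rfl⟩ := h
  rw [← map_mul, EE_sq h1, map_one]

theorem PE.inv (h : PE e u v g) : g⁻¹ = g := inv_eq_of_mul_eq_one_left h.sq

theorem PE.cj (h : PE e u v g) (r : Rw e t u x w) : PE e u v (w * g * w⁻¹) := by
  obtain ⟨h1, c, rfl⟩ := h
  exact ⟨h1, _, r.act v c h1⟩

theorem PE.cen (h : PE e u v g) (b : BV e t) : t * g = g * t := by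
  obtain ⟨h1, c, rfl⟩ := h
  exact b.cen _

theorem PE.uq (b : BV e t) (hu : u ≠ 0) (h : PE e u v g) (h' : PE e u v' g) :
    ∃ a : F, v' = v + a • u := by
  obtain ⟨h1, c, rfl⟩ := h
  obtain ⟨h2, d, k⟩ := h'
  exact (EE_inj' hu h1 h2 (b.inj k)).1

theorem PE.ac (h : PE e u v g) {p : XU n F} (hp : ac p u = u) :
    PE e u (ac p v) (e p * g * (e p)⁻¹) := by
  obtain ⟨h1, c, rfl⟩ := h
  exact ⟨by rw [← h1, ← hf_ac p v u, hp], c, by
    rw [← map_inv, ← map_mul, ← map_mul, EE_conj' h1, hp]⟩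

theorem PE.of_eq (h : PE e u v g) (k : v = v') : PE e u v' g := k ▸ h

theorem pe_qq (h : hf v u = 0) : PE e u v (e (qq v u)) := ⟨h, 0, rfl⟩

theorem hf_sum (h : hf x u = 0) (h' : hf x' u = 0) : hf (x + x') u = 0 := by
  rw [hf_add_left, h, h', add_zero]

/-- The defect of additivity. -/
abbrev dd (y : Vn n F → Vn n F → G) (u x x' : Vn n F) : G := y u (x + x') * y u x * y u x'

theorem dec (b : BV e t) (f : Fam0 e t y) (hu : u ≠ 0) (h : hf x u = 0) (h' : hf x' u = 0) :
    ∃ v d, PE e u v d ∧ (dd y u x x' = d ∨ dd y u x x' = t * d) := by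
  have hs := hf_sum h h'
  obtain ⟨s, c, h1, h2⟩ := Rw.uq b hu (f.rl u _ hs) ((f.rl u x h).mul (f.rl u x' h') h' h)
  rw [f.inv hs, ← mul_assoc] at h2
  exact ⟨s, _, ⟨h1, c, rfl⟩, h2⟩

theorem sq_eq (f : Fam0 e t y) (h : hf x u = 0) (h' : hf x' u = 0) :
    y u x * y u x' * (y u x * y u x') =
      y u (x + x') * dd y u x x' * (y u (x + x'))⁻¹ * dd y u x x' := by
  rw [show y u (x + x') * dd y u x x' * (y u (x + x'))⁻¹ * dd y u x x' =
    y u (x + x') * y u (x + x') * (y u x * y u x' * (y u x * y u x')) by simp only [dd]; group,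
    f.sq u _ (hf_sum h h'), one_mul]

theorem sq0 (f : Fam0 e t y) (h : hf x u = 0) (h' : hf x' u = 0) (k : PE e u v (dd y u x x')) :
    PE e u 0 (y u x * y u x' * (y u x * y u x')) := by
  rw [sq_eq f h h']
  exact ((k.cj (f.rl u _ (hf_sum h h'))).mul k).of_eq (v_add_self v)

theorem sqT (b : BV e t) (f : Fam0 e t y) (h : hf x u = 0) (h' : hf x' u = 0) (k : PE e u v g)
    (k' : dd y u x x' = t * g) : PE e u (x + x') (y u x * y u x' * (y u x * y u x')) := by
  have hs := hf_sum h h'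
  have r := f.rl u _ hs
  have k1 := (pe_qq (e := e) hs).mul (k.cj r)
  rw [sq_eq f h h', k', show y u (x + x') * (t * g) * (y u (x + x'))⁻¹ * (t * g) =
    y u (x + x') * t * (y u (x + x'))⁻¹ * (y u (x + x') * g * (y u (x + x'))⁻¹) * t * g by group,
    r.tr, mul_assoc t, mul_assoc t, ← k1.cen b, ← mul_assoc t, b.tt, one_mul]
  exact (k1.mul k).of_eq (by rw [add_assoc, v_add_self, add_zero])

theorem nu1 (b : BV e t) (f : Fam0 e t y) (hu : u ≠ 0) (h : hf x u = 0) (h' : hf x' u = 0)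
    (h0 : hf x' x ≠ 0) : ∃ v, PE e u v (dd y u x x') := by
  obtain ⟨v, d, k, k' | k'⟩ := dec b f hu h h'
  · exact ⟨v, k' ▸ k⟩
  have k1 := sqT b f h h' k k'
  have k2 : y u x * (y u x * y u x' * (y u x * y u x')) * (y u x)⁻¹ =
      y u x * y u x' * (y u x * y u x') := by
    rw [← k1.inv]
    nth_rewrite 1 [k1.inv]
    rw [show y u x * (y u x * y u x' * (y u x * y u x')) * (y u x)⁻¹ =
      y u x * y u x * (y u x' * y u x * y u x' * (y u x)⁻¹) by group, f.sq u x h, one_mul]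
    simp only [mul_inv_rev, f.inv h, f.inv h', mul_assoc]
  obtain ⟨hs, c, k3⟩ := k1
  rw [k3, (f.rl u x h).act _ c hs] at k2
  have := (EE_inj' hu hs hs (b.inj k2)).2
  rw [add_eq_left, hf_add_left, hf_self, zero_add] at this
  exact absurd this h0

theorem nu0 (b : BV e t) (f : Fam0 e t y) (hu : u ≠ 0) (h : hf x u = 0) (h' : hf x' u = 0)
    (l1 : Li u x) (l2 : Li u x') (l3 : Li u (x + x')) : ∃ v, PE e u v (dd y u x x') := by
  obtain ⟨v, d, k, k' | k'⟩ := dec b f hu h h'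
  · exact ⟨v, k' ▸ k⟩
  exfalso
  have hs := hf_sum h h'
  obtain ⟨z, z0, z1, z2⟩ : ∃ z, hf z u = 0 ∧ hf x z ≠ 0 ∧ hf (x + x') z ≠ 0 := by
    obtain ⟨p, p0, p1⟩ := exists_dual l1 0 1
    obtain ⟨q, q0, q1⟩ := exists_dual l3 0 1
    rw [hf_comm] at p1 q1
    by_cases p2 : hf (x + x') p = 0
    · by_cases q2 : hf x q = 0
      · exact ⟨p + q, hf_sum p0 q0, by rw [hf_add_right, p1, q2, add_zero]; exact one_ne_zero,
          by rw [hf_add_right, p2, q1, zero_add]; exact one_ne_zero⟩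
      · exact ⟨q, q0, q2, q1 ▸ one_ne_zero⟩
    · exact ⟨p, p0, p1 ▸ one_ne_zero, p2⟩
  obtain ⟨_, a1⟩ := nu1 b f hu z0 h z1
  obtain ⟨_, a2⟩ := nu1 b f hu z0 hs z2
  have a3 := sq0 f z0 h a1
  have a4 := sq0 f z0 hs a2
  have r := f.rl u z z0
  have k1 : y u x' = y u x * y u (x + x') * (t * d) := by
    rw [← k', show y u x * y u (x + x') * dd y u x x' =
      y u x * (y u (x + x') * y u (x + x')) * y u x * y u x' by simp only [dd]; group, f.sq u _ hs,
      mul_one, f.sq u x h, one_mul]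
  have k2 : PE e u z (y u z * (t * d) * (y u z)⁻¹ * (t * d)⁻¹) := by
    have k3 := (pe_qq (e := e) z0).mul (k.cj r)
    rw [show y u z * (t * d) * (y u z)⁻¹ * (t * d)⁻¹ = y u z * t * (y u z)⁻¹ *
      (y u z * d * (y u z)⁻¹) * d⁻¹ * t⁻¹ by group, r.tr, k.inv, mul_assoc t, mul_assoc t,
      (k3.mul k).cen b, mul_inv_cancel_right]
    exact (k3.mul k).of_eq (by rw [add_assoc, v_add_self, add_zero])
  have k4 := a3.mul ((a4.mul (k2.cj (f.rl u _ hs))).cj (f.rl u x h))
  have k5 : PE e u z (y u z * y u x' * (y u z * y u x')) := by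
    refine Eq.subst (motive := PE e u z) ?_ (k4.of_eq (by rw [zero_add, zero_add]))
    have e1 := f.inv z0
    have e2 := f.inv h
    have e3 := f.inv hs
    have e4 := f.inv h'
    nth_rewrite 2 [← e4]
    rw [k1]
    generalize y u z = A at e1 ⊢
    generalize y u x = B at e2 ⊢
    generalize y u (x + x') = C at e3 ⊢
    generalize t * d = D
    calc _ = A * B * A⁻¹ * B⁻¹ * (B * (A⁻¹⁻¹ * C * A⁻¹ * C⁻¹ * (C * (A * D * A⁻¹ * D⁻¹) * C⁻¹)) *
          B⁻¹) := by simp only [e1, e2, e3, mul_assoc]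
      _ = A * (B * C * D) * (A⁻¹ * (B * C * D)⁻¹) := by group
      _ = _ := by rw [e1]
  obtain ⟨v1, d1, m, m' | m'⟩ := dec b f hu z0 h'
  · obtain ⟨a, ha⟩ := (sq0 f z0 h' (m' ▸ m)).uq b hu k5
    exact z1 (by rw [ha, zero_add, hf_smul_right', h, mul_zero])
  · obtain ⟨a, ha⟩ := k5.uq b hu (sqT b f z0 h' m m')
    have := (l2 a 1 (by rw [one_smul, add_left_cancel ha, v_add_self])).2
    exact one_ne_zero this

theorem add_of (f : Fam0 e t y) (h : hf x u = 0) (h' : hf x' u = 0) (k : PE e u 0 (dd y u x x')) :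
    ∃ c : F, y u x * y u x' = y u (x + x') * e (Tc c u) := by
  obtain ⟨-, c, k⟩ := k
  exact ⟨c, by rw [← k, dd, ← mul_assoc, ← mul_assoc, f.sq u _ (hf_sum h h'), one_mul]⟩

theorem add3 (b : BV e t) (hX : FX n F) (f : Fam0 e t y) (h : hf x u = 0) (h' : hf x' u = 0)
    (l : Li3 u x x') : ∃ c : F, y u x * y u x' = y u (x + x') * e (Tc c u) := by
  have l1 : Li u x := fun a c k => by
    have := l a c 0 (by rw [k, zero_smul, add_zero]); exact ⟨this.1, this.2.1⟩
  have l2 : Li u x' := fun a c k => by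
    have := l a 0 c (by rw [zero_smul, add_zero, k]); exact ⟨this.1, this.2.2⟩
  have l3 : Li u (x + x') := fun a c k => by
    have := l a c c (by rw [add_assoc, ← smul_add, k]); exact ⟨this.1, this.2.1⟩
  have hu := li_ne l1
  have hs := hf_sum h h'
  obtain ⟨v, k⟩ := nu0 b f hu h h' l1 l2 l3
  have cj : ∀ p : XU n F, ac p u = u → e p * dd y u x x' * (e p)⁻¹ =
      y u (ac p x + ac p x') * y u (ac p x) * y u (ac p x') := fun p hp => by
    have e1 := f.eqv p u x h
    have e2 := f.eqv p u x' h'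
    have e3 := f.eqv p u _ hs
    rw [hp] at e1 e2 e3
    rw [← ac_add, ← e1, ← e2, ← e3]
    simp only [dd]; group
  obtain ⟨r, a, c, rfl⟩ := hX.sp3 u x x' v l fun s s1 s2 s3 => by
    have k1 := k.ac (p := TT s) (ac_Tc_fix 1 (hf_symm s1))
    rw [cj _ (ac_Tc_fix 1 (hf_symm s1)), ac_Tc_fix 1 (hf_symm s2), ac_Tc_fix 1 (hf_symm s3)] at k1
    obtain ⟨a, ha⟩ := k.uq b hu k1
    rw [ac_Tc', one_mul, add_right_inj] at ha
    have := congrArg (hf v) ha
    rw [hf_smul_right', hf_smul_right', k.1, mul_zero, mul_self_eq_zero] at this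
    exact hf_symm this
  have di : (dd y u x x')⁻¹ = y u x' * y u x * y u (x + x') := by
    simp only [dd, mul_inv_rev, f.inv h, f.inv h', f.inv hs, mul_assoc]
  have c0 : c = 0 := by
    obtain ⟨p, p1, p2, p3⟩ := witt3 l (a' := u) (b' := x) (c' := x + x') (fun a b c k => by
      have := l a (b + c) c (by rw [← k, add_smul, smul_add]; abel)
      exact ⟨this.1, by simpa [this.2.2] using this.2.1, this.2.2⟩) rfl
      (by rw [hf_add_right, hf_symm h, zero_add]) (by rw [hf_add_right, hf_self, zero_add])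
    have k1 := k.ac p1
    rw [cj p p1, p2, p3, ← add_assoc, v_add_self, zero_add, ← di, k.inv] at k1
    obtain ⟨d, hd⟩ := k.uq b hu k1
    rw [ac_add, ac_add, ac_smul, ac_smul, ac_smul, p1, p2, p3] at hd
    refine (l1 d c ?_).2
    have : c • x = d • u := by
      rw [smul_add] at hd
      linear_combination (exp := 1) hd
    rw [this, v_add_self]
  have a0 : a = 0 := by
    obtain ⟨p, p1, p2, p3⟩ := witt3 l (a' := u) (b' := x + x') (c' := x') (fun a b c k => by
      have := l a b (b + c) (by rw [← k, add_smul, smul_add]; abel)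
      exact ⟨this.1, this.2.1, by simpa [this.2.1] using this.2.2⟩)
      (by rw [hf_add_right, hf_symm h', add_zero]) rfl (by rw [hf_add_left, hf_self, add_zero])
    have k1 := k.ac p1
    have k2 := k.cj (f.rl u x' h')
    rw [← k.inv, di, show y u x' * (y u x' * y u x * y u (x + x')) * (y u x')⁻¹ =
      y u x' * y u x' * (y u x * y u (x + x') * (y u x')⁻¹) by group, f.sq u x' h', one_mul,
      f.inv h'] at k2
    rw [cj p p1, p2, p3, add_assoc x, v_add_self, add_zero] at k1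
    obtain ⟨d, hd⟩ := k2.uq b hu k1
    rw [ac_add, ac_add, ac_smul, ac_smul, ac_smul, p1, p2, p3] at hd
    refine (l2 d a ?_).2
    have : a • x' = d • u := by
      rw [smul_add] at hd
      linear_combination (exp := 1) hd
    rw [this, v_add_self]
  refine add_of f h h' ⟨hf_zero_left u, ?_⟩
  obtain ⟨-, d, k⟩ := k
  exact ⟨d, by rw [k, a0, c0, zero_smul, zero_smul, add_zero, add_zero, ← EE_shift' r u 0, zero_add]⟩

theorem Tc0 (u : Vn n F) : Tc 0 u = 1 := EE_zero u

theorem add0 (b : BV e t) (hX : FX n F) (f : Fam0 e t y) : Add0 e y := by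
  intro u x x' h h'
  by_cases hu : u = 0
  · subst hu
    exact ⟨0, by simp only [f.zero, EE_zero_left, map_one]⟩
  have hs := hf_sum h h'
  by_cases l2 : Li u x'
  swap
  · obtain ⟨c, rfl⟩ := dep_of_not_li hu l2
    exact ⟨0, by rw [f.sh h, f.dep, Tc0, map_one, mul_one]⟩
  by_cases l1 : Li u x
  swap
  · obtain ⟨c, rfl⟩ := dep_of_not_li hu l1
    exact ⟨0, by rw [add_comm (c • u), f.sh h', f.dep, Tc0, map_one, mul_one, (f.rl u x' h').tc]⟩
  by_cases l3 : Li u (x + x')
  swap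
  · obtain ⟨c, k⟩ := dep_of_not_li hu l3
    have k' : x' = x + c • u := by rw [← k, ← add_assoc, v_add_self, zero_add]
    exact ⟨0, by rw [k, k', f.sh h, f.dep, Tc0, map_one, mul_one, ← mul_assoc, f.sq u x h,
      one_mul]⟩
  by_cases l : Li3 u x x'
  · exact add3 b hX f h h' l
  obtain ⟨c, d, rfl⟩ : ∃ c d : F, x' = c • x + d • u := by
    by_contra hn
    refine l fun p q r k => ?_
    by_cases r0 : r = 0
    · rw [r0, zero_smul, add_zero] at k
      exact ⟨(l1 p q k).1, (l1 p q k).2, r0⟩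
    · refine absurd ⟨r⁻¹ * q, r⁻¹ * p, ?_⟩ hn
      have : r • x' = q • x + p • u := by
        rw [add_comm (q • x), H54.SPI.add_eq_iff.1 k, zero_add]
      rw [mul_smul, mul_smul, ← smul_add, ← this, inv_smul_smul₀ r0]
  have c0 : c ≠ 0 := fun k => one_ne_zero (l2 d 1 (by
    rw [k, zero_smul, zero_add, one_smul, v_add_self])).2
  have c1' : 1 + c ≠ 0 := fun k => one_ne_zero (l3 d 1 (by
    rw [one_smul, ← add_assoc x, ← one_smul F x, smul_smul, ← add_smul, mul_one, k, zero_smul,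
      zero_add, v_add_self])).2
  obtain ⟨z, z0, -, m⟩ := exists_third h l1
  obtain ⟨c1, e1⟩ := add3 b hX f h z0 m
  obtain ⟨c2, e2⟩ := add3 b hX f z0 h' fun p q r k => by
    have := m (p + r * d) (r * c) q (by rw [← k]; module)
    have r0 : r = 0 := (mul_eq_zero.1 this.2.1).resolve_right c0
    exact ⟨by simpa [r0] using this.1, this.2.2, r0⟩
  obtain ⟨c3, e3⟩ := add3 b hX f (hf_sum h z0) (hf_sum z0 h') fun p q r k => by
    have := m (p + r * d) (q + r * c) (q + r) (by rw [← k]; module)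
    have h1 : q = r := CharTwo.add_eq_zero.1 this.2.2
    have r0 : r = 0 := (mul_eq_zero.1 (show r * (1 + c) = 0 by
      rw [← this.2.1, h1]; ring)).resolve_right c1'
    exact ⟨by simpa [r0] using this.1, h1.trans r0, r0⟩
  refine ⟨c3 + (c1 + c2), ?_⟩
  rw [show x + z + (z + (c • x + d • u)) = x + (c • x + d • u) by
    rw [add_assoc, ← add_assoc z, v_add_self, zero_add]] at e3
  calc _ = y u x * y u z * (y u z * y u (c • x + d • u)) := by
        rw [mul_assoc, ← mul_assoc (y u z), f.sq u z z0, one_mul]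
    _ = _ := by
      rw [e1, e2, mul_assoc, ← mul_assoc (e _), ← (f.rl u _ (hf_sum z0 h')).tc, mul_assoc,
        ← mul_assoc, e3, mul_assoc, ← map_mul, ← map_mul, Tc_mul, Tc_mul]

theorem jobB3 : JobB3.{u} := by
  intro n F _ _ _ _ _ _ G _ _ e t _ _ x _ b y f
  exact add0 b x f

end H96.SP2
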