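import Cfsg.Agent.H78.P6.H78_S2W1
import Cfsg.Agent.H78.P6.H78_S2LV
import Cfsg.Agent.H78.P6.H78_S2CT
import Cfsg.Agent.H78.P6.H76_S2B1
import Cfsg.Agent.H78.P6.H1_SP2B2
import Cfsg.Agent.H78.P6.H96_SP2B3
import Cfsg.Agent.H78.P6.H70_S2B4
import Cfsg.Agent.H78.P6.H70_S2B5
import Cfsg.Agent.H78.P6.H17_SP2C1
import Cfsg.Agent.H78.P6.H18_S2C2
import Cfsg.Agent.H78.P6.H35_S2SH
import Cfsg.Agent.H78.P6.H10_S2L1
import Cfsg.Agent.H78.P6.H69_SP2L2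
import Cfsg.Agent.H78.P6.H35_S2QX
import Cfsg.Agent.H78.P6.H30_S2UZ
import Cfsg.Agent.H78.P6.H35_S2UM
import Cfsg.Agent.H78.P6.H69_SP2RU

namespace H78 end H78
open H78
namespace H85.P6 end H85.P6
open H85.P6
namespace H85.P6.H78 end H85.P6.H78
open H85.P6.H78
namespace H85.P6.H78.S2 end H85.P6.H78.S2
open H85.P6.H78.S2
namespace H78.P6


/-! STD-SP (row S3129), chapter II: the assembly. -/

set_option autoImplicit false

namespace H78.S2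

universe u

theorem jobII0 : JobII'.{u} :=
  jobII' H59.S2FX.jobFX H62.SP2FY.jobFY H54.S2.jobA0 w1 H76.S2B1.jobB1 H1.SP2B2.jobB2 H96.SP2.jobB3
    H70.S2B4.jobB4 H70.S2B5.jobB5 H17.SP2C1.jobC1 H18.S2C2.jobC2 H35.S2SH.jobC3 H35.S2SH.jobSH
    H10.S2L.jobL1 H69.SP2.jobL2 H35.S2QX.jobQX H30.S2UZ.jobUZ H35.S2UM.jobUM jobLV jobCT
    H69.SP2.jobRU

/-- Chapter II from the slot `PC`. -/
theorem jobII_of (pc : H67.SP.JobPC) : H67.SP.JobII.{u} := fun n F _ _ _ _ _ _ G _ _ e t h =>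
  jobII0 n F G e t (base n F) (fc_of n F pc h.q2) h

end H78.S2
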