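import Cfsg.Agent.H78.P6.Z_YESpec
import Cfsg.Agent.H85.P6.H86_SPIDef

namespace H64 end H64
open H64
namespace H85.P6 end H85.P6
open H85.P6
namespace H85.P6.H64 end H85.P6.H64
open H85.P6.H64
namespace H85.P6.H64.YE end H85.P6.H64.YE
open H85.P6.H64.YE
namespace H78.P6


/-! STD-SP (row S3129), endgame, piece 2: the bundles of model facts, the final statement.
Notes: `blueprints/STDSP_E.md`. -/

set_option autoImplicit false
set_option linter.unusedSectionVars false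

namespace H64.YE

open H64.SG (O2 Syl Cz Cs Ns cjs Is2 Inv2 UF IsO2 fx Cfg)
open Subgroup H67.UA H67.SP
open H67.SA (cm Gen SLn)
open H59.SO (Ind CE Om)
open H86.SPI (QD iO tO)

universe u

section Mod

variable {n : ℕ} {F : Type} [Field F] [StarRing F] [TrivialStar F] [CharP F 2] [Finite F]
  {Y : Type} [Group Y] (ι : XU n F →* Y) (τ : MulAut Y) (Gd : XU n F → Prop) (U : Subgroup Y)

/-- The facts that every model has. -/
structure MB : Prop extends M1 ι τ U, M2 ι τ Gd where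
  qs : QS Y
  m3 : M3 ι τ Gd

variable (n F Y) in
/-- Centralisers of involutions have large `2`-subgroups. -/
def BigI : Prop := ∀ y : Y, Inv2 y → Big (bq n F) (MulAut.conj y)

variable (Y) in
/-- `Y / Z(Y)` is not alternating. -/
def NA : Prop := ∀ m, IsEmpty (Y ⧸ center Y ≃* alternatingGroup (Fin m))

/-- Every involution is conjugate into `X`. -/
def MIa : Prop := ∀ y, y * y = 1 → MI ι y

/-- `t e(u)` is conjugate to `t e(b₁)` if `u` is not alternating. -/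
def NAl : Prop := ∀ u, Inv2 u → ¬ Alt u → ∃ g, ι u = g * ι (xb n F) * (τ g)⁻¹

/-- `[C(Z), τ]` -/
def PU (Z : Subgroup Y) : Subgroup Y := closure {y | ∃ p ∈ Cs Z, y = p * (τ p)⁻¹}

/-- The group generated by the conjugates of `c` in `C(Z)`. -/
def PO (c : Y) (Z : Subgroup Y) : Subgroup Y := closure {y | y ∈ Cs Z ∧ IsConj c y}

/-- the classes `b₁`, `a₂` -/
def LS (u : XU n F) : Prop := Lr u ∨ Sr u

/-- Symplectic route. -/
def RtS : Prop := BigI n F Y ∧ NA Y ∧ MIa ι ∧ ∃ r Z Q, MC ι τ Gd U Q ∧ RD ι τ Gd U r Z Q ∧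
  RS τ U Z Q ∧ RB U Z Q ∧ RN r Z ∧ RZ τ r Z Q

/-- Unitary route. -/
def RtU : Prop := BigI n F Y ∧ NA Y ∧ MIa ι ∧ ∃ r Z Q, MC ι τ Gd U Q ∧ RD ι τ Gd U r Z Q ∧
  RS τ U Z Q ∧ RA τ Z Q (PU τ Z) ∧ RH U r Z Q ∧ RN r Z ∧ RZ τ r Z Q

/-- Linear route, `q = 2`. -/
def RtL : Prop := BigI n F Y ∧ NA Y ∧ MIa ι ∧ ∃ r Z Q A A', MC ι τ Gd U Q ∧ RD ι τ Gd U r Z Q ∧
  LD τ r Z Q A A'

variable (n F Y) in
/-- Linear route, `q ≥ 4`. -/
def RtM : Prop := BigI n F Y ∧ 4 ≤ Nat.card F ∧ ∃ m, 5 ≤ m ∧ Nonempty (Y ≃* SLn m F)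

/-- Orthogonal route. -/
def RtO : Prop := (∀ u, Gd u ↔ Lr u) ∧ ON ι ∧ NA Y ∧ ME ι τ Gd Sr ∧ ∃ r Z Q c R R₀ R₁,
  MC ι τ LS U Q ∧ MC ι τ LS U R ∧ RD ι τ LS U r Z Q ∧ RA τ Z Q (PO c Z) ∧ RZ τ r Z Q ∧
    OB ι τ r c ∧ OH τ r R ∧ OS ι τ c R ∧ OC ι τ LS c R R₀ R₁ ∧ OU ι r c R ∧ OQ U Z Q c

/-- All facts on a model. -/
def Mod : Prop := ∃ U, MB ι τ Gd U ∧
  (RtS ι τ Gd U ∨ RtU ι τ Gd U ∨ RtL ι τ Gd U ∨ RtM n F Y ∨ RtO ι τ Gd U)

/-- The result of the endgame under the side condition `S`. -/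
def Fn (S : ∀ (G : Type u) [Group G], (XU n F →* G) → G → Prop) : Prop :=
  ∀ (G : Type u) [Group G] [Finite G] (e : XU n F →* G) (t : G) (F₀ : Subgroup G) (Φ : Y →* G),
    Cfg F₀ e.range t → CE e t → Hm ι τ e t Φ → S G e t → Nonempty (F₀ ≃* Y ⧸ center Y)

end Mod

/-- A statement that may use all facts on `X`. -/
def AllM (P : ∀ (_ : ℕ) (F : Type) [Field F] [StarRing F] [TrivialStar F] [CharP F 2] [Finite F],
    Prop) : Prop :=
  AllB fun n F _ _ _ _ _ => FC n F → FO n F → P n F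

/-- The same with a quadratic extension, `star` trivial. -/
def AllS (P : ∀ (_ : ℕ) (F : Type) [Field F] [StarRing F] [TrivialStar F] [CharP F 2] [Finite F]
    (K : Type) [Field K] [StarRing K] [CharP K 2] [Finite K] (_ : Qx F K),
      (∀ a : K, star a = a) → Prop) : Prop :=
  AllM fun n F _ _ _ _ _ => ∀ (K : Type) [Field K] [StarRing K] [CharP K 2] [Finite K] (x : Qx F K)
    (h : ∀ a : K, star a = a), P n F K x h

/-- The same with a quadratic extension, `star = σ`. -/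
def AllU (P : ∀ (_ : ℕ) (F : Type) [Field F] [StarRing F] [TrivialStar F] [CharP F 2] [Finite F]
    (K : Type) [Field K] [StarRing K] [CharP K 2] [Finite K] (x : Qx F K),
      (∀ a : K, star a = x.σ a) → Prop) : Prop :=
  AllM fun n F _ _ _ _ _ => ∀ (K : Type) [Field K] [StarRing K] [CharP K 2] [Finite K] (x : Qx F K)
    (h : ∀ a : K, star a = x.σ a), P n F K x h

section Abbrev

variable (n : ℕ) {F : Type} [Field F] [StarRing F] [TrivialStar F] [CharP F 2] [Finite F]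
  {K : Type} [Field K] [StarRing K] [CharP K 2] (x : Qx F K)

/-- `Sp_(2k)(q) ≤ Sp_(2k)(q²)` -/
abbrev iS (h : ∀ a : K, star a = a) : XU n F →* XU n K := bc x.φ (x.st (Or.inl h))
abbrev tS (h : ∀ a : K, star a = a) : MulAut (XU n K) := fa x.σ (x.sf (Or.inl h))
/-- `Sp_(2k)(q) ≤ SU_(2k)(q)` -/
abbrev iU (h : ∀ a : K, star a = x.σ a) : XU n F →* XU n K := bc x.φ (x.st (Or.inr h))
abbrev tU (h : ∀ a : K, star a = x.σ a) : MulAut (XU n K) := fa x.σ (x.sf (Or.inr h))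
/-- `Sp_(2k)(q) ≤ SU_(2k+1)(q)` -/
noncomputable abbrev iV (h : ∀ a : K, star a = x.σ a) : XU n F →* XU (n + 1) K :=
  (bc x.φ (x.st (Or.inr h))).comp (ins n F)
variable (F) in
/-- `Sp_(2k)(q) ≤ SL_(2k+1)(q)` -/
noncomputable abbrev iL : XU n F →* SLn (n + 1) F := (io (n + 1) F).comp (ins n F)

end Abbrev

def JobMS : Prop := AllS fun n _ _ _ _ _ _ _ _ _ _ _ x h => Mod (iS n x h) (tS n x h) fun _ => True
def JobMU0 : Prop := AllU fun n _ _ _ _ _ _ _ _ _ _ _ x h =>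
  Mod (iU n x h) (tU n x h) Alt ∧ NAl (iU n x h) (tU n x h)
def JobMU1 : Prop := AllU fun n _ _ _ _ _ _ _ _ _ _ _ x h =>
  Mod (iV n x h) (tU (n + 1) x h) fun _ => True
def JobML0 : Prop := AllM fun n F _ _ _ _ _ => Mod (io n F) (tau n F) Alt ∧ NAl (io n F) (tau n F)
def JobML1 : Prop := AllM fun n F _ _ _ _ _ => Mod (iL n F) (tau (n + 1) F) fun _ => True
def JobMO : Prop := AllM fun n F _ _ _ _ _ => ∀ δ, Mod (iO n F δ) (tO n F δ) Lr

/-- The type-free endgame (helper64). -/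
def JobE : Prop := AllM fun n F _ _ _ _ _ => ∀ (Y : Type) [Group Y] [Finite Y] (ι : XU n F →* Y)
  (τ : MulAut Y) (Gd : XU n F → Prop), Mod ι τ Gd →
    Fn.{u} ι τ fun _ _ e t => ∀ v, Fu e t v → v = 1 ∨ Gd v

/-- The final statements. -/
structure JobFin : Prop where
  s : AllS fun n _ _ _ _ _ _ _ _ _ _ _ x h => Fn.{u} (iS n x h) (tS n x h) fun _ _ _ _ => True
  u0 : AllU fun n F _ _ _ _ _ _ _ _ _ _ x h =>
    Fn.{u} (iU n x h) (tU n x h) fun _ _ e t => ¬ Fu e t (xb n F)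
  u1 : AllU fun n _ _ _ _ _ _ _ _ _ _ _ x h => Fn.{u} (iV n x h) (tU (n + 1) x h) fun _ _ _ _ => True
  l0 : AllM fun n F _ _ _ _ _ => Fn.{u} (io n F) (tau n F) fun _ _ e t => ¬ Fu e t (xb n F)
  l1 : AllM fun n F _ _ _ _ _ => Fn.{u} (iL n F) (tau (n + 1) F) fun _ _ _ _ => True
  o : AllM fun n F _ _ _ _ _ => ∀ δ,
    Fn.{u} (iO n F δ) (tO n F δ) fun _ _ e t => ∀ v, Fu e t v → v = 1 ∨ Lr v

end H64.YE
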