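import Cfsg.Agent.H78.P6.H78_YUDef

namespace H14 end H14
open H14
namespace H67 end H67
open H67
namespace H67.P6 end H67.P6
open H67.P6
namespace H67.P6.H14 end H67.P6.H14
open H67.P6.H14
namespace H67.P6.H14.YUBI end H67.P6.H14.YUBI
open H67.P6.H14.YUBI
namespace H67.P6.H67 end H67.P6.H67
open H67.P6.H67
namespace H85.P6 end H85.P6
open H85.P6
namespace H85.P6.H14 end H85.P6.H14
open H85.P6.H14
namespace H85.P6.H14.YUBI end H85.P6.H14.YUBI
open H85.P6.H14.YUBI
namespace H85.P6.H67 end H85.P6.H67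
open H85.P6.H67
namespace H78.P6


/-! STD-SP endgame (row S3129), slot YU-BI: large `2`-subgroups in centralisers of involutions of
the unitary groups. -/

set_option autoImplicit false
set_option linter.unusedSectionVars false

namespace H14.YUBI

open H64.SG (O2 Syl Cz Cs Ns cjs Is2 Inv2 IsO2 fx)
open H67 H67.UA H64.YE Subgroup Matrix
open H67.SP (kk)
open H78.YU

theorem card_le_cm {G : Type*} [Group G] [Finite G] (U M : Subgroup G) (x : G)
    (h : ∀ u ∈ U, u * x * u⁻¹ * x⁻¹ ∈ M) :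
    Nat.card U ≤ Nat.card M * Nat.card (U ⊓ Cz x : Subgroup G) := by
  let f : U → M := fun u => ⟨u.1 * x * u.1⁻¹ * x⁻¹, h u.1 u.2⟩
  let s : M → U := Function.invFun f
  have hs : ∀ u, f (s (f u)) = f u := fun u => Function.invFun_eq ⟨u, rfl⟩
  have hm : ∀ u : U, ((s (f u)).1)⁻¹ * u.1 ∈ (U ⊓ Cz x : Subgroup G) := fun u => by
    refine mem_inf.2 ⟨U.mul_mem (U.inv_mem (s (f u)).2) u.2, H64.SG.mem_Cz.2 ?_⟩
    have e : (s (f u)).1 * x * (s (f u)).1⁻¹ * x⁻¹ = u.1 * x * u.1⁻¹ * x⁻¹ :=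
      congrArg Subtype.val (hs u)
    generalize (s (f u)).1 = t at e
    have e2 : t * x * t⁻¹ = u.1 * x * u.1⁻¹ := mul_right_cancel e
    calc x * (t⁻¹ * u.1) = t⁻¹ * (t * x * t⁻¹) * u.1 := by group
      _ = t⁻¹ * u.1 * x := by rw [e2]; group
  rw [← Nat.card_prod]
  refine Nat.card_le_card_of_injective (fun u => (f u, (⟨_, hm u⟩ : (U ⊓ Cz x : Subgroup G))))
    fun a b e => ?_
  have e1 : f a = f b := congrArg Prod.fst e
  have e2 : ((s (f a)).1)⁻¹ * a.1 = ((s (f b)).1)⁻¹ * b.1 :=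
    congrArg (fun p : M × (U ⊓ Cz x : Subgroup G) => p.2.1) e
  rw [e1] at e2
  exact Subtype.ext (mul_left_cancel e2)

variable {m : ℕ} {K : Type} [Field K] [StarRing K] [CharP K 2] [Finite K]

theorem wk_mono {a b : ℕ} (h : a ≤ b) {v : Vn m K} (hv : Wk a v) : Wk b v :=
  fun i hi => hv i (h.trans hi)

theorem wk_add {a : ℕ} {v w : Vn m K} (hv : Wk a v) (hw : Wk a w) : Wk a (v + w) :=
  fun i hi => by rw [Pi.add_apply, hv i hi, hw i hi, add_zero]

theorem wk_top (v : Vn m K) : Wk (m + 1) v := fun i hi => absurd i.2 (by omega)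

variable [Par m K]

theorem xk_ac {j : ℕ} (hj : 2 * j ≤ m + 1) (v : Vn m K) (i : Fin (m + 1)) :
    (ac (GA.xk (XU m K) j) v + v) i =
      ∑ b : Fin (m + 1), if i < b ∧ i.val < j ∧ b.val + j = m + 1 + i.val then v b else 0 := by
  have h := (base m K).xk_val j hj
  have h2 : mt (GA.xk (XU m K) j) = 1 + of fun a b : Fin (m + 1) =>
      if a < b ∧ a.val < j ∧ b.val + j = m + 1 + a.val then (1 : K) else 0 := by
    rw [UA.mt, h]; rfl
  rw [ac, h2, add_mulVec, one_mulVec, add_right_comm, v_add_self, zero_add]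
  simp only [mulVec, dotProduct, of_apply, ite_mul, one_mul, zero_mul]

theorem cm_mem {j k : ℕ} (hj : j ≤ k + 1) (hk : 2 * (k + 1) ≤ m + 1) {u : XU m K}
    (hu : u ∈ GA.UU (XU m K)) :
    u * GA.xk (XU m K) j * u⁻¹ * (GA.xk (XU m K) j)⁻¹ ∈ GA.Mk (XU m K) k := by
  have B := base m K
  set x := GA.xk (XU m K) j with hx
  have ha : ∀ v, Wk (k + 1) (ac x v + v) := fun v i hi => by
    rw [hx, xk_ac (by omega)]
    exact Finset.sum_eq_zero fun b _ => if_neg (by omega)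
  have hb : ∀ v, Wk m v → Wk k (ac x v + v) := fun v hv i hi => by
    rw [hx, xk_ac (by omega)]
    refine Finset.sum_eq_zero fun b _ => ?_
    split_ifs with h
    · exact hv b (by omega)
    · rfl
  have h1 := (B.mem_U u).1 hu
  have h2 := (B.mem_U u⁻¹).1 (inv_mem hu)
  refine (B.mem_M k (by omega) _).2 fun v => ?_
  obtain ⟨w, rfl⟩ : ∃ w, v = ac x w := ⟨ac x⁻¹ v, (ac_ac_inv x v).symm⟩
  rw [ac_mul, ac_mul, ac_mul, ac_inv_ac]
  have hp := h2 m w (wk_top w)
  obtain ⟨p, e⟩ : ∃ p, p = ac u⁻¹ w + w := ⟨_, rfl⟩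
  rw [← e] at hp
  have e1 : ac u⁻¹ w = w + p := by rw [e, add_left_comm, ← add_assoc, add_assoc, v_add_self, add_zero]
  have e2 : ac u w + ac u p = w := by rw [← ac_add, ← e1, ac_ac_inv]
  have e3 : ac u (ac x (ac u⁻¹ w)) + ac x w =
      (ac u (ac x w + w) + (ac x w + w)) + ((ac u (ac x p + p) + (ac x p + p)) + (ac x p + p)) := by
    rw [e1]
    simp only [ac_add]
    ext i
    have := congrFun e2 i
    simp only [Pi.add_apply] at this ⊢
    linear_combination -this - (w i + ac x p i + p i) * two0 K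
  rw [e3]
  exact wk_add (h1 k _ (ha w)) (wk_add (h1 k _ (wk_mono k.le_succ (hb p hp))) (hb p hp))

theorem card_Mk {j : ℕ} (hj : GA.Rg (XU m K) j) :
    Nat.card (GA.Mk (XU m K) j) ≤ qK K ^ (j ^ 2) := by
  have B := base m K
  have hj' := rg_iff.1 hj
  have hle : j ≤ m + 1 := by omega
  obtain ⟨θ, hθ⟩ := Hf.ne (K := K)
  have herm : ∀ g ∈ GA.Mk (XU m K) j, ∀ a b, mt g a b = star (mt g b.rev a.rev) := fun g hg a b => by
    rw [← inv_apply, inv_eq_of_mul_eq_one_right (B.sqM j hj g hg)]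
  have row : ∀ g ∈ GA.Mk (XU m K) j, ∀ a b : Fin (m + 1), j ≤ a.val →
      mt g a b = (ev b : Vn m K) a := fun g hg a b ha => by
    have := (B.mem_M j hj'.2 g).1 hg (ev b) a ha
    rw [Pi.add_apply, ac_ev] at this
    linear_combination this - (ev b : Vn m K) a * two0 K
  have ext : ∀ g ∈ GA.Mk (XU m K) j, ∀ h ∈ GA.Mk (XU m K) j,
      (∀ a b : Fin j, mt g (Fin.castLE hle a) (Fin.castLE hle b).rev =
        mt h (Fin.castLE hle a) (Fin.castLE hle b).rev) → g = h := fun g hg h hh e => by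
    refine X_ext (Matrix.ext fun a b => ?_)
    by_cases ha : j ≤ a.val
    · rw [row g hg a b ha, row h hh a b ha]
    by_cases hb : j ≤ b.rev.val
    · rw [herm g hg, herm h hh, row g hg _ _ hb, row h hh _ _ hb]
    have := e ⟨a.val, by omega⟩ ⟨b.rev.val, by omega⟩
    rwa [show Fin.castLE hle ⟨a.val, by omega⟩ = a from rfl,
      show Fin.castLE hle ⟨b.rev.val, by omega⟩ = b.rev from rfl, Fin.rev_rev] at this
  let F : GA.Mk (XU m K) j × GA.Mk (XU m K) j → Fin j → Fin j → K := fun p a b =>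
    mt p.1.1 (Fin.castLE hle a) (Fin.castLE hle b).rev +
      θ * mt p.2.1 (Fin.castLE hle a) (Fin.castLE hle b).rev
  have hF : Function.Injective F := fun p r e => by
    have e2 : ∀ a b : Fin j, mt p.2.1 (Fin.castLE hle a) (Fin.castLE hle b).rev =
        mt r.2.1 (Fin.castLE hle a) (Fin.castLE hle b).rev := fun a b => by
      have h1 := congrFun (congrFun e a) b
      have h2 := congrArg star (congrFun (congrFun e b) a)
      simp only [F, star_add, star_mul'] at h1 h2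
      have t : ∀ g : GA.Mk (XU m K) j, star (mt g.1 (Fin.castLE hle b) (Fin.castLE hle a).rev) =
          mt g.1 (Fin.castLE hle a) (Fin.castLE hle b).rev := fun g => by
        rw [herm g.1 g.2 (Fin.castLE hle a), Fin.rev_rev]
      rw [t, t, t, t] at h2
      refine mul_left_cancel₀ (sub_ne_zero.2 hθ) ?_
      linear_combination h2 - h1
    have e1 : ∀ a b : Fin j, mt p.1.1 (Fin.castLE hle a) (Fin.castLE hle b).rev =
        mt r.1.1 (Fin.castLE hle a) (Fin.castLE hle b).rev := fun a b => by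
      have h1 := congrFun (congrFun e a) b
      simp only [F] at h1
      rw [e2] at h1
      exact add_right_cancel h1
    exact Prod.ext (Subtype.ext (ext _ p.1.2 _ r.1.2 e1)) (Subtype.ext (ext _ p.2.2 _ r.2.2 e2))
  have h := Nat.card_le_card_of_injective F hF
  rw [Nat.card_prod, Nat.card_fun, Nat.card_fun, Nat.card_eq_fintype_card (α := Fin j),
    Fintype.card_fin, B.card, ← pow_mul, ← pow_mul, ← sq] at h
  refine (Nat.pow_le_pow_iff_left two_ne_zero).1 (h.trans_eq ?_)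
  rw [← pow_mul]; congr 1; ring

theorem arith {k : ℕ} (h5 : 5 ≤ m) (hk : kk m = k + 1) :
    k ^ 2 + ((k + 1) ^ 2 + 1) < SA.NN m := by
  rw [kk] at hk
  rw [SA.NN, Nat.lt_iff_add_one_le, Nat.le_div_iff_mul_le two_pos]
  have h1 : 2 * k + 1 ≤ m := by omega
  have h2 : 2 ≤ k := by omega
  nlinarith [Nat.mul_le_mul (Nat.succ_le_succ h1) h1]

theorem big_xk {j : ℕ} (hj : GA.Rg (XU m K) j) :
    qK K ^ (kk m ^ 2 + 1) < Nat.card (GA.UU (XU m K) ⊓ Cz (GA.xk (XU m K) j) : Subgroup _) := by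
  have B := base m K
  have h5 := Par.five (n := m) (K := K)
  have hj' := rg_iff.1 hj
  obtain ⟨k, hk⟩ : ∃ k, kk m = k + 1 := ⟨kk m - 1, by rw [kk]; omega⟩
  have hk' := hk
  rw [kk] at hk'
  have h1 := card_le_cm (GA.UU (XU m K)) (GA.Mk (XU m K) k) (GA.xk (XU m K) j)
    fun u hu => cm_mem (by omega) (by omega) hu
  have h2 := card_Mk (m := m) (K := K) (j := k) (rg_iff.2 (by omega))
  have h3 := arith h5 hk
  have hq : 2 ≤ qK K := B.q2
  rw [B.cardU, qq_eq, NN_eq] at h1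
  by_contra hc
  have h4 := h1.trans (Nat.mul_le_mul h2 (not_lt.1 hc))
  rw [← pow_add, hk] at h4
  exact absurd ((Nat.pow_le_pow_iff_right (by omega)).1 h4) (by omega)

theorem jobBI : JobBI := by
  intro m K _ _ _ _ _ y hy
  have B := base m K
  obtain ⟨h, j, hj, e⟩ := (iC m K).ic y hy
  refine ⟨(GA.UU (XU m K) ⊓ Cz (GA.xk (XU m K) j)).map (MulAut.conj h⁻¹).toMonoidHom, ?_,
    (B.syl.2.1.to_le inf_le_left).map _, ?_⟩
  · rintro _ ⟨g, hg, rfl⟩
    have h1 := H64.SG.mem_Cz.1 hg.2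
    rw [H64.SG.fx_conj, H64.SG.mem_Cz]
    change y * (h⁻¹ * g * h⁻¹⁻¹) = h⁻¹ * g * h⁻¹⁻¹ * y
    rw [← e] at h1
    calc y * (h⁻¹ * g * h⁻¹⁻¹) = h⁻¹ * (h * y * h⁻¹ * g) * h := by group
      _ = h⁻¹ * g * h⁻¹⁻¹ * y := by rw [h1]; group
  · rw [Subgroup.card_map_of_injective (MulAut.conj h⁻¹).injective]
    exact big_xk hj

end H14.YUBI
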