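import Cfsg.Agent.H78.P6.H79_UMJ
import Cfsg.Agent.H85.P6.H59_UMFW
import Cfsg.Agent.H59.UniP

namespace H67 end H67
open H67
namespace H81 end H81
open H81
namespace H85.P6 end H85.P6
open H85.P6
namespace H85.P6.H67 end H85.P6.H67
open H85.P6.H67
namespace H85.P6.H81 end H85.P6.H81
open H85.P6.H81
namespace H85.P6.H81.UAQ end H85.P6.H81.UAQ
open H85.P6.H81.UAQ
namespace H78.P6


/-! STD-UM, slot QK: `O₂(C(x_k)) = Q_k`. -/

set_option autoImplicit false
set_option linter.unusedSectionVars false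

namespace H81.UAQ

open H64.SG (Cz Ns mem_Cz)
open Matrix Subgroup H67 H67.UA H79.UMJ

variable {n : ℕ} {K : Type} [Field K] [StarRing K] [CharP K 2] [Finite K]

/-- Irreducibility under the transvections of an antidiagonal form on the indices `I`. -/
theorem irr {I : Fin (n + 1) → Prop} {ρ : Fin (n + 1) → Fin (n + 1)} {β : Vn n K → Vn n K → K}
    {U : Submodule K (Vn n K)} (hρ : ∀ j, I j → I (ρ j) ∧ ρ (ρ j) = j)
    (h1 : ∀ a b, I a → I b → ρ a = a → ρ b = b → a = b)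
    (βa : ∀ x y z, β x (y + z) = β x y + β x z) (βs : ∀ x (a : K) y, β x (a • y) = star a * β x y)
    (βe : ∀ x j, I j → β x (ev j) = x (ρ j))
    (H : ∀ x ∈ U, ∀ v, (∀ i, ¬ I i → v i = 0) → β v v = 0 → β x v ≠ 0 → v ∈ U)
    (hO : ∀ x ∈ U, ∀ j, I j → (∀ i, I i → i ≠ j → x i = 0) → x j ≠ 0 → ev j ∈ U) {η : K}
    (hη : tr η = 1) {x : Vn n K} (hx : x ∈ U) {j : Fin (n + 1)} (hj : I j) (h0 : x j ≠ 0)
    (i : Fin (n + 1)) (hi : I i) : ev i ∈ U := by
  have sp : ∀ {a i}, I a → ¬ I i → (ev a : Vn n K) i = 0 := fun ha hi => by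
    rw [ev_apply, if_neg (by rintro rfl; exact hi ha)]
  have A : ∀ j, I j → ρ j ≠ j → ∀ x ∈ U, x j ≠ 0 → ev (ρ j) ∈ U := fun j hj h x hx h0 =>
    H x hx _ (fun _ => sp (hρ j hj).1) (by rw [βe _ _ (hρ j hj).1, (hρ j hj).2, ev_apply, if_neg h.symm])
      (by rwa [βe _ _ (hρ j hj).1, (hρ j hj).2])
  have D : ∀ a μ, I a → I μ → ρ a ≠ a → ρ μ = μ → ∀ y ∈ U, y (ρ a) + y μ + star η * y a ≠ 0 →
      ev a + ev μ + η • ev (ρ a) ∈ U := fun a μ ha hμ h2 h3 y hy h4 => by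
    have e : ∀ z, β z (ev a + ev μ + η • ev (ρ a)) = z (ρ a) + z μ + star η * z a := fun z => by
      rw [βa, βa, βs, βe _ _ ha, βe _ _ hμ, βe _ _ (hρ a ha).1, (hρ a ha).2, h3]
    have h5 : a ≠ μ := by rintro rfl; exact h2 h3
    have h6 : ρ a ≠ μ := fun k => h5 (by rw [← (hρ a ha).2, k, h3])
    refine H y hy _ (fun i hi => by simp [sp ha hi, sp hμ hi, sp (hρ a ha).1 hi]) ?_ (by rwa [e])
    simp only [e, Pi.add_apply, Pi.smul_apply, ev_apply, h2, h2.symm, h5, h5.symm, h6, h6.symm, if_true,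
      if_false, smul_eq_mul]
    linear_combination hη + two0 K
  have B : ∀ j, I j → ρ j ≠ j → ev j ∈ U → ∀ i, I i → ev i ∈ U := fun j hj h hU i hi => by
    have h2 := A j hj h _ hU (by simp [ev_apply])
    by_cases e1 : i = j
    · rwa [e1]
    by_cases e2 : i = ρ j
    · rwa [e2]
    by_cases e3 : ρ i = i
    · have := D j i hj hi h e3 _ h2 (by simp [ev_apply, e2, h.symm])
      rwa [U.add_mem_iff_left (U.smul_mem η h2), U.add_mem_iff_right hU] at this
    have e4 : ρ i ≠ j := fun k => e2 (by rw [← k, (hρ i hi).2])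
    have e5 : ρ i ≠ ρ j := fun k => e1 (by rw [← (hρ i hi).2, k, (hρ j hj).2])
    refine (U.add_mem_iff_right hU).1 (H _ h2 _ (fun a ha => by simp [sp hj ha, sp hi ha]) ?_ ?_) <;>
      simp [βa, βe _ _ hi, βe _ _ hj, ev_apply, h, e3, e4, e5, Ne.symm e2]
  have C : ∀ x ∈ U, ∀ a, I a → ρ a ≠ a → x a ≠ 0 → ev i ∈ U := fun x hx a ha h h0 =>
    B _ (hρ a ha).1 (by rw [(hρ a ha).2]; exact h.symm) (A a ha h x hx h0) i hi
  by_cases c : ∃ a, I a ∧ ρ a ≠ a ∧ x a ≠ 0
  · obtain ⟨a, ha, h, h2⟩ := c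
    exact C x hx a ha h h2
  push Not at c
  have e1 : ρ j = j := by_contra fun k => h0 (c j hj k)
  have h2 := hO x hx j hj (fun a ha k => c a ha fun k' => k (h1 a j ha hj k' e1)) h0
  by_cases e2 : ρ i = i
  · rwa [h1 i j hi hj e2 e1]
  have e3 : i ≠ j := by rintro rfl; exact e2 e1
  have e4 : ρ i ≠ j := fun k => e3 (by rw [← (hρ i hi).2, k, e1])
  exact C _ (D i j hi hj e2 e1 _ h2 (by simp [ev_apply, e3, e4])) i hi e2
    (by simp [ev_apply, e3, Ne.symm e2])

variable (n K) in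
/-- `W_k` -/
def WK (k : ℕ) : Submodule K (Vn n K) where
  carrier := {v | Wk k v}
  add_mem' := Wk.add
  zero_mem' _ _ := rfl
  smul_mem' a _ h := h.smul a

/-- A normal `2`-subgroup of `C` is trivial on `W_b / W_a`. -/
theorem layer {C R : Subgroup (XU n K)} (h1 : R ≤ C) (h2 : C ≤ Ns R) (h3 : IsPGroup 2 R) {a b : ℕ}
    (hab : a ≤ b) (ia : ∀ c ∈ C, ∀ v, Wk a v → Wk a (ac c v)) (ib : ∀ c ∈ C, ∀ v, Wk b v → Wk b (ac c v))
    {ρ : Fin (n + 1) → Fin (n + 1)} (hρ : ∀ j : Fin (n + 1), a ≤ j → j < b → (ρ j).val + j + 1 = a + b)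
    {β : Vn n K → Vn n K → K} (βa : ∀ x y z, β x (y + z) = β x y + β x z)
    (βs : ∀ x (a : K) y, β x (a • y) = star a * β x y)
    (βe : ∀ x (j : Fin (n + 1)), a ≤ j.val ∧ j.val < b → β x (ev j) = x (ρ j))
    (T : ∀ v, Wk b v → β v v = 0 → ∃ s ∈ C, ∀ y, Wk b y → ac s y = y + β y v • v) {η : K}
    (hη : tr η = 1) {r : XU n K} (hr : r ∈ R) {v : Vn n K} (hv : Wk b v) : Wk a (ac r v + v) := by
  let U : Submodule K (Vn n K) :=
    { carrier := {v | Wk b v ∧ ∀ r ∈ R, Wk a (ac r v + v)}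
      add_mem' := fun {x y} hx hy => ⟨hx.1.add hy.1, fun r hr => by
        rw [ac_add, add_add_add_comm]; exact (hx.2 r hr).add (hy.2 r hr)⟩
      zero_mem' := ⟨fun _ _ => rfl, fun _ _ _ _ => by simp⟩
      smul_mem' := fun c x hx => ⟨hx.1.smul c, fun r hr => by
        rw [ac_smul, ← smul_add]; exact (hx.2 r hr).smul c⟩ }
  have Ua : ∀ v, Wk a v → v ∈ U := fun v h => ⟨h.mono hab, fun r hr => (ia r (h1 hr) v h).add h⟩
  have key : ∀ i : Fin (n + 1), a ≤ i.val ∧ i.val < b → ev i ∈ U := fun i hi => by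
    have : Finite (R.map (H59.UM.lin n K)) := Finite.of_surjective _ ((H59.UM.lin n K).subgroupMap_surjective R)
    obtain ⟨x, x1, x2, x3⟩ := H59.exists_fixed_mod (h3.map (H59.UM.lin n K)) (U₁ := WK n K a)
      (U₂ := WK n K b) (by rintro _ ⟨r, hr, rfl⟩; exact ia r (h1 hr))
      (by rintro _ ⟨r, hr, rfl⟩; exact ib r (h1 hr))
      fun k => by simpa [ev_apply] using k (wk_ev hi.2) i hi.1
    obtain ⟨j, hj⟩ := not_forall.1 x2
    obtain ⟨j1, j2⟩ := Classical.not_imp.1 hj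
    refine irr (I := fun i => a ≤ i.val ∧ i.val < b) (ρ := ρ) (U := U) (fun j hj => ?_)
      (fun i j hi hj e1 e2 => ?_)
      βa βs βe (fun x hx v v1 v2 v3 => ?_) (fun x hx j hj k1 k2 => ?_) hη (x := x)
      ⟨x1, fun r hr => ?_⟩ ⟨j1, not_le.1 fun k => j2 (x1 j k)⟩ j2 i hi
    · have e1 := hρ j hj.1 hj.2
      have e2 := hρ (ρ j) (by omega) (by omega)
      exact ⟨by omega, Fin.ext (by omega)⟩
    · have := hρ i hi.1 hi.2
      have := hρ j hj.1 hj.2
      rw [e1, e2] at *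
      exact Fin.ext (by omega)
    · obtain ⟨s, hs, e⟩ := T v (fun i hi => v1 i (by omega)) v2
      have : ac s x ∈ U := ⟨ib s hs x hx.1, fun r hr => by
        have := ia s hs _ (hx.2 _ (H98.conj_mem_of_mem_normalizer (h2 (inv_mem hs)) hr))
        rwa [ac_add, inv_inv, ac_mul, ac_mul, ac_ac_inv] at this⟩
      rwa [e x hx.1, U.add_mem_iff_right hx, U.smul_mem_iff v3] at this
    · refine (U.smul_mem_iff k2).1 ((U.add_mem_iff_right hx).1 (Ua _ fun i hi => ?_))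
      by_cases e : i = j
      · simp [e, ev_apply, CharTwo.add_self_eq_zero]
      · by_cases e' : i.val < b
        · simp [e, ev_apply, k1 i ⟨hi, e'⟩ e]
        · simp [e, ev_apply, hx.1 i (not_lt.1 e')]
    · have := x3 _ ⟨r, hr, rfl⟩
      rwa [sub_eq_add_neg, neg_eq_iff_add_eq_zero.2 (v_add_self x)] at this
  have : ∑ i, v i • (ev i : Vn n K) ∈ U := U.sum_mem fun i _ => by
    by_cases e : b ≤ i.val
    · rw [hv i e, zero_smul]; exact U.zero_mem
    by_cases e' : a ≤ i.val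
    exacts [U.smul_mem _ (key i ⟨e', not_le.1 e⟩), U.smul_mem _ (Ua _ (wk_ev (not_le.1 e')))]
  rw [show ∑ i, v i • (ev i : Vn n K) = v from funext fun j => by simp [ev_apply]] at this
  exact this.2 r hr

/-- the shift of `W_k` to the last `k` coordinates -/
def up (k : ℕ) (w : Vn n K) : Vn n K := fun i =>
  if n + 1 ≤ i.val + k then w ⟨min (i.val + k - (n + 1)) n, by omega⟩ else 0

theorem up_add (k : ℕ) (v w : Vn n K) : up k (v + w) = up k v + up k w := funext fun i => by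
  simp only [up, Pi.add_apply]; split_ifs <;> simp
theorem up_smul (k : ℕ) (a : K) (v : Vn n K) : up k (a • v) = a • up k v := funext fun i => by
  simp only [up, Pi.smul_apply]; split_ifs <;> simp
theorem up_wd (k : ℕ) (v : Vn n K) : Wd k (up k v) := fun i hi => if_neg (by omega)
theorem up_ev {k : ℕ} (hk : 2 * k ≤ n + 1) {a : Fin (n + 1)} (h : a.val < k) :
    up k (ev a : Vn n K) = ev ⟨a.val + (n + 1) - k, by omega⟩ := funext fun i => by
  simp only [up, ev_apply, Fin.ext_iff]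
  split_ifs <;> first | rfl | omega

variable [hp : Par n K] [Base n K] {k : ℕ}

theorem nl_up (hk : 2 * k ≤ n + 1) {w : Vn n K} (h : Wk k w) : nl (GA.xk (XU n K) k) (up k w) = w := by
  have e : w = ∑ i, w i • ev i := funext fun j => by simp [ev_apply]
  rw [e]
  refine Finset.sum_induction _ (fun v => nl (GA.xk (XU n K) k) (up k v) = v)
    (fun a b h1 h2 => by rw [up_add, nl_add, h1, h2])
    (by simpa [nl_zero] using congrArg (nl (GA.xk (XU n K) k)) (up_smul k 0 0)) fun i _ => ?_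
  rw [up_smul, nl_smul]
  by_cases c : i.val < k
  · rw [up_ev hk c, xk_ev hk (a := i) (by simp only; omega)]
  · simp [h i (not_lt.1 c)]

theorem jobQK : JobQK := by
  intro n K _ _ _ _ hp B k hr
  have hk := (rg_iff.1 hr).2
  have m := mk_of hr (GA.FB.xM k hr)
  obtain ⟨η, hη⟩ := FQ.eta (K := K)
  have i1 : ∀ c ∈ Cz (GA.xk (XU n K) k), ∀ v, Wk k v → Wk k (ac c v) := fun c hc v hv => by
    rw [← nl_up hk hv, ← nl_comm (mem_Cz.1 hc)]; exact m.w _
  have i2 : ∀ c ∈ Cz (GA.xk (XU n K) k), ∀ v, Wk (n + 1 - k) v → Wk (n + 1 - k) (ac c v) :=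
    fun c hc v hv => (FV.wk_perp k (by omega) _).2 fun w hw => by
      rw [hf_ac_left, hv.perp (i1 _ (inv_mem hc) w hw) (by omega)]
  refine ⟨fun g hg => mem_Cz.2 (GA.FB.QM k hr hg _ (GA.FB.xM k hr)),
    fun c hc => H98.mem_normalizer_of_cj_le ?_, GA.FB.syl.2.1.to_le (GA.FB.QU k hr),
    fun R h1 h2 h3 r hR => (FV.mem_Qk k hk r).2 ⟨fun v hv => ?_, fun v hv => ?_⟩⟩
  · rintro _ ⟨g, hg, rfl⟩
    obtain ⟨g1, g2⟩ := (FV.mem_Qk k hk g).1 hg
    change c * g * c⁻¹ ∈ _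
    refine (FV.mem_Qk k hk _).2 ⟨fun v hv => ?_, fun v hv => ?_⟩ <;> rw [ac_mul, ac_mul]
    · rw [g1 _ (i1 _ (inv_mem hc) v hv), ac_ac_inv]
    · simpa [ac_add] using i1 c hc _ (g2 _ (i2 _ (inv_mem hc) v hv))
  · have := layer h1 h2 h3 (Nat.zero_le k) (fun c _ v h => by
        rw [show v = 0 from funext fun i => h i (Nat.zero_le _), ac_zero]; exact fun _ _ => rfl) i1
      (ρ := fun j => ⟨k - 1 - j.val, by omega⟩) (fun j _ _ => by simp only; omega)
      (β := fun x v => hf x (up k v)) (fun x y z => by rw [up_add, hf_add_right])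
      (fun x a y => by rw [up_smul, hf_smul_right]) (fun x j hj => by
        rw [up_ev hk hj.2, hf_ev_right]
        exact congrArg x (Fin.ext (by simp only [Fin.val_rev]; omega))) (fun v v1 v2 => ?_) hη hR hv
    · exact add_right_cancel (b := v) (by
        rw [v_add_self]; exact funext fun i => this i (Nat.zero_le _))
    have p : Pp (up k v) v := ⟨(up_wd k v).perp (up_wd k v) hk, (v1.pp v1 hk).l, hf_symm v2⟩
    have e : ∀ y, Wk k y → ac (qq v (up k v)) y = y + hf y (up k v) • v := fun y hy => by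
      rw [ac_qq p, (hy.pp v1 hk).p, zero_smul, add_zero]
    refine ⟨_, cz_of fun j => ?_, e⟩
    rw [e _ (m.w _), m.sa, nl_up hk v1, ac_qq p, nl_add, nl_add, nl_smul, nl_smul, nl_up hk v1,
      m.z v (v1.mono (by omega)), smul_zero, add_zero]
  · refine layer h1 h2 h3 (by omega) i1 i2 (ρ := Fin.rev) (fun j _ _ => by rw [Fin.val_rev]; omega)
      hf_add_right (fun x a y => hf_smul_right a x y) (fun x j _ => hf_ev_right x j)
      (fun v v1 v2 => ⟨TT v, cz_of fun j => ?_, fun y _ => by rw [ac_Tc v2 (star_one K), one_mul]⟩)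
      hη hR hv
    rw [ac_Tc v2 (star_one K), ac_Tc v2 (star_one K), nl_add, nl_smul, m.z v v1, m.sa, m.z v v1]
    simp

end H81.UAQ
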