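import Cfsg.Agent.H78.P6.Z_YEMod
import Cfsg.Agent.H67.P6.H67_SPIII
import Cfsg.Agent.H85.P6.H67_UAFQ
import Cfsg.Agent.H85.P6.H67_UAFP
import Cfsg.Agent.H85.P6.H72_UMFV
import Cfsg.Agent.H85.P6.H59_UMFW
import Cfsg.Agent.H85.P6.H59_UMIC
import Cfsg.Agent.H85.P6.H81_UAFX
import Cfsg.Agent.H78.P6.H81_UAQK
import Cfsg.Agent.H85.P6.H55_UMFB
import Cfsg.Agent.H85.P6.H66_UAFY
import Cfsg.Agent.H85.P6.H66_UAFA

namespace H67 end H67
open H67
namespace H78 end H78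
open H78
namespace H67.P6 end H67.P6
open H67.P6
namespace H67.P6.H67 end H67.P6.H67
open H67.P6.H67
namespace H67.P6.H78 end H67.P6.H78
open H67.P6.H78
namespace H67.P6.H78.YU end H67.P6.H78.YU
open H67.P6.H78.YU
namespace H85.P6 end H85.P6
open H85.P6
namespace H85.P6.H67 end H85.P6.H67
open H85.P6.H67
namespace H85.P6.H78 end H85.P6.H78
open H85.P6.H78
namespace H85.P6.H78.YU end H85.P6.H78.YU
open H85.P6.H78.YU
namespace H78.P6


/-! STD-SP (row S3129), endgame: the unitary models.  `Y = XU m K`, `τ = ta m K`.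
Notes: `blueprints/STDSP_YU.md`. -/

set_option autoImplicit false
set_option linter.unusedSectionVars false

namespace H78.YU

open H64.SG (O2 Syl Cz Cs Ns cjs Is2 Inv2 IsO2 fx)
open H67 H67.UA H64.YE Subgroup Matrix
open H67.SP (Qx bc fa mt_bc mt_fa mid iv IsIns ins Alt kk vx)
open H67.SA (cm St la)
open H59.SO (AutOn)
open H64.SF (Outer)

section Y

variable (m : ℕ) (K : Type) [Field K] [StarRing K] [CharP K 2] [Finite K]

/-- the field involution -/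
def ta : MulAut (XU m K) := fa (sg K) fun _ => rfl
noncomputable abbrev U0 : Subgroup (XU m K) := GA.UU (XU m K)
noncomputable abbrev P0 : Subgroup (XU m K) := GA.PP (XU m K)
noncomputable abbrev Z0 : Subgroup (XU m K) := GA.ZZ (XU m K)
noncomputable abbrev Q0 : Subgroup (XU m K) := GA.QQ (XU m K)
noncomputable abbrev r0 : XU m K := TT (ev 0)

section Inst

variable [Par m K]

instance base : Base m K :=
  have q := jobFQ m K
  have v := H72.FV.jobFV m K q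
  have w := H59.UM.jobFW m K q v
  have x := H81.UAX.jobFX m K q v w
  { q, v, w, x, H81.UAX.jobFO m K q v w x, H55.UMFB.jobFB m K q v with }
instance fA : GA.FA (XU m K) := H66.UAK.jobFA m K (base m K) (H66.UAK.jobFY m K (base m K))
instance fP : GA.FP (XU m K) := jobFP m K (base m K)
theorem iC : IC m K := H59.UM.jobIC m K (base m K)
instance fI : GA.FI (XU m K) := ⟨(iC m K).ic, H81.UAQ.jobQK m K (base m K)⟩

end Inst

variable {m K}

/-- the conjugate vector -/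
def br (v : Vn m K) : Vn m K := fun i => star (v i)

theorem ta_apply (g : XU m K) (i j : Fin (m + 1)) : mt (ta m K g) i j = star (mt g i j) := rfl
@[simp] theorem br_br (v : Vn m K) : br (br v) = v := funext fun _ => star_star _
theorem br_add (v w : Vn m K) : br (v + w) = br v + br w := funext fun _ => star_add _ _
theorem br_smul (a : K) (v : Vn m K) : br (a • v) = star a • br v := funext fun _ => star_mul' _ _
@[simp] theorem br_zero : br (0 : Vn m K) = 0 := funext fun _ => star_zero _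
@[simp] theorem br_ev (i : Fin (m + 1)) : br (ev i : Vn m K) = ev i := funext fun j => by
  rw [br, ev_apply]; split_ifs <;> simp
theorem hf_br (x y : Vn m K) : hf (br x) (br y) = hf y x := by
  rw [← star_hf x y]; simp [hf, br, star_sum]
theorem ac_ta (g : XU m K) (v : Vn m K) : ac (ta m K g) (br v) = br (ac g v) := funext fun i => by
  simp [ac, br, mulVec, dotProduct, ta_apply, star_sum]
theorem ta_ta (g : XU m K) : ta m K (ta m K g) = g :=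
  X_ext (Matrix.ext fun _ _ => star_star _)
theorem ok_br {u x : Vn m K} {c : K} (h : Ok u x c) : Ok (br u) (br x) (star c) :=
  ⟨by rw [Iso, hf_br, h.iso], by rw [hf_br, hf_symm h.perp], by rw [hf_br, h.star.tr]⟩
theorem ta_EE {u x : Vn m K} {c : K} (h : Ok u x c) :
    ta m K (EE u x c) = EE (br u) (br x) (star c) := ac_ext fun v => by
  rw [← br_br v, ac_ta, ac_EE h, ac_EE (ok_br h)]
  simp only [br_add, br_smul, star_mul', hf_br, star_hf]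

variable (m K)

/-- Automorphisms. -/
structure QM : Prop where
  qs : QS (XU m K)
  stU : ta m K ∈ St (U0 m K)
  tne : ta m K ∉ commutator (MulAut (XU m K))
  m3 : ∀ β : MulAut (XU m K), β * β = 1 → Is2 (β * ta m K) → Outer β → ¬ Outer (β * ta m K)
  good : ∀ j, GA.Rg (XU m K) j → Good (ta m K) (U0 m K) (GA.Qk (XU m K) j)
  xk : ∀ j, GA.Rg (XU m K) j → ta m K (GA.xk (XU m K) j) = GA.xk (XU m K) j

/-- The part of `RD` with content. -/
structure R0 : Prop where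
  rt : ∀ y, IsConj (r0 m K) y ↔ ∃ v, v ≠ 0 ∧ Iso v ∧ y = TT v
  rz : ∀ z ∈ Z0 m K, z ≠ 1 → IsConj (r0 m K) z
  ra : ∀ (α : MulAut (XU m K)) y, IsConj (r0 m K) y → IsConj (r0 m K) (α y)
  cz : ∀ g, g ∈ Cs (Z0 m K) ↔ ∃ a : K, nm a = 1 ∧ ac g (ev 0) = a • ev 0
  str : ∀ α : MulAut (XU m K), α (r0 m K) = r0 m K → α ∈ St (Z0 m K)
  stq : ∀ α ∈ St (Z0 m K), α ∈ St (Q0 m K)
  ce : ∀ u ∈ U0 m K, (∀ x ∈ Q0 m K, cm u x ∈ Z0 m K) → u ∈ Q0 m K
  zq : ∀ α ∈ St (Q0 m K), (∀ x ∈ Q0 m K, α x * x⁻¹ ∈ Z0 m K) → ∀ z ∈ Z0 m K, α z = z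

/-- Generation by the conjugates of short elements. -/
structure NP : Prop where
  np : ∀ E : Subgroup (XU m K), P0 m K ≤ Ns E → qq (ev 1) (ev 0) ∈ E → qq (ev 2) (ev 1) ∈ E →
    P0 m K ≤ E
  top : ∀ H : Subgroup (XU m K), P0 m K ≤ H → qq (ev 1) (ev (la m)) ∈ H → H = ⊤
  n2 : qq (ev 1) (ev (la m)) ∈ Ns (GA.Qk (XU m K) 2)

/-- `RZ.qn` -/
def QN : Prop := ∀ x ∈ Q0 m K, x ∉ Z0 m K → ∃ z a, Pp (ev 0) z ∧ Li (ev 0) z ∧ a ≠ 0 ∧
  cm (TT z) x = EE (ev 0) (a • z) (nm a)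

/-- `RH.pd`, `RH.hb` -/
structure HB : Prop where
  pd : U0 m K ≤ closure {d | d ∈ Cs (Z0 m K) ∧ IsConj (r0 m K) d}
  hb : ∀ d₁ ∈ U0 m K, ∀ d₂ ∈ U0 m K, IsConj (r0 m K) d₁ → IsConj (r0 m K) d₂ →
    (∃ x ∈ Q0 m K, ∃ x' ∈ Q0 m K, cm d₁ x ∉ Z0 m K ∧ cm d₁ x * (cm d₂ x')⁻¹ ∈ Z0 m K) →
      ∀ x ∈ Q0 m K, ∃ x' ∈ Q0 m K, cm d₁ x * (cm d₂ x')⁻¹ ∈ Z0 m K

/-- An automorphism of `Q` that fixes `Z` pointwise, on `H = ⟨e₀, e_m⟩^⊥`. -/
def H1 : Prop := ∀ θ : XU m K → XU m K, AutOn (Q0 m K) θ → (∀ z ∈ Z0 m K, θ z = z) →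
  ∃ f : Vn m K → Vn m K, (∀ y, hf (f y) (ev 0) = 0) ∧
    (∀ y c, Ok (ev 0) y c → hf (f y) (f y) = hf y y ∧
      ∃ d, Ok (ev 0) (f y) d ∧ θ (EE (ev 0) y c) = EE (ev 0) (f y) d) ∧
    (∀ y y', hf y (ev 0) = 0 → hf y' (ev 0) = 0 → f (y + y') = f y + f y' ∧
      tr (hf (f y) (f y')) = tr (hf y y')) ∧
    ∀ (a : K) y, star a = a → hf y (ev 0) = 0 → f (a • y) = a • f y

/-- `RH.ha` -/
def HA : Prop := ∀ θ δ : XU m K → XU m K, AutOn (Q0 m K) θ → (∀ z ∈ Z0 m K, θ z = z) →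
  ∀ d ∈ Cs (Z0 m K), IsConj (r0 m K) d → d ∉ Z0 m K →
    (∀ x ∈ Q0 m K, δ (θ x) = θ (d * x * d⁻¹)) → ∃ d₂ ∈ Cs (Z0 m K), IsConj (r0 m K) d₂ ∧
      d₂ ∉ Z0 m K ∧ (∀ x ∈ Q0 m K, δ (d₂ * x * d₂⁻¹) * (d₂ * δ x * d₂⁻¹)⁻¹ ∈ Z0 m K) ∧
      (∃ x ∈ Q0 m K, ∃ x' ∈ Q0 m K, δ x * x⁻¹ ∉ Z0 m K ∧ δ x * x⁻¹ * (cm d₂ x')⁻¹ ∈ Z0 m K) ∧
      ((∀ x ∈ Q0 m K, ∃ x' ∈ Q0 m K, δ x * x⁻¹ * (cm d₂ x')⁻¹ ∈ Z0 m K) →
        ∃ d₃ ∈ Cs (Z0 m K), ∀ x ∈ Q0 m K, δ x * (d₃ * x * d₃⁻¹)⁻¹ ∈ Z0 m K)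

/-- `RS.pat` -/
def PT : Prop := ∀ v ∈ Cs (Z0 m K), v * v = 1 → ∀ x ∈ Q0 m K, x * x = 1 →
  (∀ z ∈ Z0 m K, Ac (x * z) (v * z)) → v ∈ Q0 m K

/-- Square roots of the elements of `Z`. -/
def SD : Prop := ∀ u ∈ U0 m K, u * u ∈ Z0 m K → u * u ≠ 1 → ∃ y d l, Ok (ev 0) y d ∧
  hf y (ev (la m)) = 0 ∧ hf y y ≠ 0 ∧ u = EE (ev 0) y d * l ∧ l * l = 1 ∧ ac l (ev 0) = ev 0 ∧
    ac l (ev (la m)) = ev (la m) ∧ ac l y = y
def S0 : Prop := Odd m → ∀ u ∈ U0 m K, u * u ∈ Z0 m K → u * u ≠ 1 →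
  ∃ y ∈ closure {y | y ∈ Q0 m K ∧ y * y = 1 ∧ cm u y ∈ Z0 m K}, u * y * (u * y) = 1
def S1 : Prop := Even m → ∀ u ∈ U0 m K, u * u ∈ Z0 m K → u * u ≠ 1 →
  ∃ w ∈ Cs (Z0 m K), tw (ta m K) w u * u⁻¹ ∈ Z0 m K

/-- Large `2`-subgroups. -/
def BI : Prop := ∀ y : XU m K, Inv2 y → Big (qK K ^ (kk m ^ 2 + 1)) (MulAut.conj y)

/-- The classes of involutions in `Y τ`. -/
def CL : Prop := ∀ v : XU m K, v * ta m K v = 1 →
  ∃ g, v = g * (ta m K g)⁻¹ ∨ v = g * r0 m K * (ta m K g)⁻¹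

/-- The embedding of `SU(W)` in `SU(W ⊥ ⟨ev mid⟩)`. -/
structure I1 : Prop where
  isIns : IsIns m K (ins m K)
  inj : Function.Injective (ins m K)
  rng : ∀ g : XU (m + 1) K, ac g (ev (mid m)) = ev (mid m) → ∃ y, ins m K y = g
  ee : ∀ u y c, Ok u y c → ins m K (EE u y c) = EE (iv u) (iv y) c
  tc : ∀ y, ta (m + 1) K (ins m K y) = ins m K (ta m K y)
  add : ∀ v w : Vn m K, iv (v + w) = iv v + iv w
  smul : ∀ (a : K) (v : Vn m K), iv (a • v) = a • iv v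
  hh : ∀ v w : Vn m K, hf (iv v) (iv w) = hf v w
  hm : ∀ v : Vn m K, hf (iv v) (ev (mid m)) = 0
  mm : hf (ev (mid m) : Vn (m + 1) K) (ev (mid m)) = 1
  dec : ∀ z : Vn (m + 1) K, ∃ (v : Vn m K) (a : K), z = iv v + a • ev (mid m)
  e0 : iv (ev 0 : Vn m K) = ev 0
  bi : ∀ v : Vn m K, br (iv v) = iv (br v)

end Y

/-- A statement on all unitary groups. -/
def AllY (P : ∀ (_ : ℕ) (K : Type) [Field K] [StarRing K] [CharP K 2] [Finite K], Prop) : Prop :=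
  ∀ (m : ℕ) (K : Type) [Field K] [StarRing K] [CharP K 2] [Finite K] [Par m K], P m K

def JobQM : Prop := AllY fun m K _ _ _ _ => QM m K
def JobR0 : Prop := AllY fun m K _ _ _ _ => R0 m K
def JobNP : Prop := AllY fun m K _ _ _ _ => NP m K
def JobRN : Prop := AllY fun m K _ _ _ _ => R0 m K → RN (r0 m K) (Z0 m K)
def JobQN : Prop := AllY fun m K _ _ _ _ => QN m K
def JobRA : Prop := AllY fun m K _ _ _ _ => R0 m K → NP m K → QN m K →
  RA (ta m K) (Z0 m K) (Q0 m K) (PU (ta m K) (Z0 m K))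
def JobHB : Prop := AllY fun m K _ _ _ _ => R0 m K → HB m K
def JobH1 : Prop := AllY fun m K _ _ _ _ => H1 m K
def JobHA : Prop := AllY fun m K _ _ _ _ => R0 m K → H1 m K → HA m K
def JobPT : Prop := AllY fun m K _ _ _ _ => R0 m K → PT m K
def JobSD : Prop := AllY fun m K _ _ _ _ => SD m K
def JobS0 : Prop := AllY fun m K _ _ _ _ => SD m K → S0 m K
def JobS1 : Prop := AllY fun m K _ _ _ _ => R0 m K → SD m K → S1 m K
def JobBI : Prop := AllY fun m K _ _ _ _ => BI m K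
def JobNU : Prop := AllY fun m K _ _ _ _ => NA (XU m K)
def JobCL : Prop := AllY fun m K _ _ _ _ => CL m K
def JobI1 : Prop := AllY fun m K _ _ _ _ => Odd m → I1 m K

section X

variable (n : ℕ) {F : Type} [Field F] [StarRing F] [TrivialStar F] [CharP F 2] [Finite F]
  {K : Type} [Field K] [StarRing K] [CharP K 2] [Finite K] (x : Qx F K) (h : ∀ a : K, star a = x.σ a)

theorem tU_eq : tU n x h = ta n K :=
  MulEquiv.ext fun _ => X_ext (Matrix.ext fun _ _ => (h _).symm)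

include h in
theorem hfK : Hf K := ⟨by
  by_contra hn
  push Not at hn
  have hs : Function.Surjective x.φ := fun a => (x.fix a).1 ((h a).symm.trans (hn a))
  have := Nat.card_le_card_of_surjective _ hs
  have h2 : 1 < Nat.card F := Finite.one_lt_card
  rw [x.card] at this
  nlinarith⟩

include h in
theorem qK_eq : qK K = Nat.card F :=
  have := hfK x h
  Nat.pow_left_injective two_ne_zero (Q.card.symm.trans x.card)

include h in
theorem par0 [p : SP.Par n F] : Par n K :=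
  { hfK x h with five := p.five }

include h in
theorem par1 [p : SP.Par n F] : Par (n + 1) K :=
  { hfK x h with five := p.five.trans n.le_succ }

/-- `X ≤ SU_(2k)(q)` -/
structure F0 : Prop where
  inj : ∀ m, Function.Injective (iU m x h)
  fix : ∀ m y, ta m K y = y ↔ y ∈ (iU m x h).range
  ac : ∀ m g v, ac (iU m x h g) (vx x.φ v) = vx x.φ (ac g v)
  hv : ∀ m (u v : Vn m F), hf (vx x.φ u) (vx x.φ v) = x.φ (hf u v)
  ee : ∀ m (u y : Vn m F) c, Ok u y c → iU m x h (EE u y c) = EE (vx x.φ u) (vx x.φ y) (x.φ c)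
  ve : ∀ m i, vx x.φ (ev i : Vn m F) = ev i
  bv : ∀ m (v : Vn m F), br (vx x.φ v) = vx x.φ v

/-- `X ≤ SU_(2k+1)(q)` -/
structure F1 : Prop where
  sq : ∀ g, iV n x h g = ins n K (iU n x h g)
  fix : ∀ y, ta (n + 1) K y = y ↔ y ∈ (iV n x h).range

def G0 : Prop := ∀ η : K, tr η = 1 → ∀ H, (iU n x h).range ≤ H → qq (η • ev 1) (ev 0) ∈ H → H = ⊤
def G1 : Prop := ∀ η : K, tr η = 1 → ∀ H, (iV n x h).range ≤ H → EE (ev 0) (ev (mid n)) η ∈ H →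
  H = ⊤

variable (F) in
/-- Normal form of the involutions of `X`. -/
def DC : Prop := ∀ u : XU n F, u * u = 1 → ∃ g u' v, u = g * (u' * TT v) * g⁻¹ ∧
  (∀ w, Wk (kk n) (ac u' w + w)) ∧ Alt u' ∧ Wk (kk n) v ∧ (Alt u ↔ v = 0)

def AL : Prop := ∀ u : XU n F, (∀ w, Wk (kk n) (ac u w + w)) → Alt u →
  ∃ g : XU n K, (∀ w, Wk (kk n) (ac g w + w)) ∧ iU n x h u = g * (ta n K g)⁻¹

structure GC : Prop where
  g0 : ∀ u, u * u = 1 → Alt u → ∃ g, iU n x h u = g * (ta n K g)⁻¹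
  na : NAl (iU n x h) (ta n K)
  g1 : ∀ u, u * u = 1 → ∃ g, iV n x h u = g * (ta (n + 1) K g)⁻¹

end X

def JobF0 : Prop := AllU fun _ _ _ _ _ _ _ _ _ _ _ _ x h => F0 x h
def JobF1 : Prop := AllU fun n _ _ _ _ _ _ K _ _ _ _ x h => F0 x h → I1 n K → F1 n x h
def JobG0 : Prop := AllU fun n _ _ _ _ _ _ _ _ _ _ _ x h => F0 x h → G0 n x h
def JobG1 : Prop := AllU fun n _ _ _ _ _ _ K _ _ _ _ x h => F0 x h → I1 n K → F1 n x h →
  G0 n x h → G1 n x h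
def JobDC : Prop := AllM fun n F _ _ _ _ _ => DC n F
def JobAL : Prop := AllU fun n _ _ _ _ _ _ _ _ _ _ _ x h => F0 x h → AL n x h
def JobGC : Prop := AllU fun n F _ _ _ _ _ K _ _ _ _ x h => F0 x h → I1 n K → F1 n x h → DC n F →
  AL n x h → GC n x h

end H78.YU
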