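/- STD-SP endgame, unitary models: square roots of the elements of `Z`. -/
import Cfsg.Agent.H78.P6.H78_YUDef

namespace H17 end H17
open H17
namespace H67 end H67
open H67
namespace H67.P6 end H67.P6
open H67.P6
namespace H67.P6.H17 end H67.P6.H17
open H67.P6.H17
namespace H67.P6.H17.YUSD end H67.P6.H17.YUSD
open H67.P6.H17.YUSD
namespace H67.P6.H67 end H67.P6.H67
open H67.P6.H67
namespace H85.P6 end H85.P6
open H85.P6
namespace H85.P6.H17 end H85.P6.H17
open H85.P6.H17
namespace H85.P6.H17.YUSD end H85.P6.H17.YUSD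
open H85.P6.H17.YUSD
namespace H85.P6.H67 end H85.P6.H67
open H85.P6.H67
namespace H78.P6


set_option autoImplicit false
set_option linter.all false

namespace H17.YUSD

open H67 H67.UA H78.YU Subgroup Matrix
open H67.SA (la)

theorem jobSD : JobSD := by
  intro m K _ _ _ _ _ u hu hz h1
  have i0 : hf (ev 0 : Vn m K) (ev 0) = 0 := H59.UM.iso0
  have iL : hf (ev (la m) : Vn m K) (ev (la m)) = 0 := H59.UM.isoL
  have a1 : hf (ev 0 : Vn m K) (ev (la m)) = 1 := H59.UM.hf0L
  have a2 : hf (ev (la m) : Vn m K) (ev 0) = 1 := H59.UM.hfL0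
  have u0 : ac u (ev 0) = ev 0 := by
    have := (FV.mem_U u).1 hu 0 (ev 0) fun i hi => by
      rw [ev_apply, if_neg]; rintro rfl; simp at hi
    ext i
    have := this i (Nat.zero_le _)
    rw [Pi.add_apply] at this
    linear_combination this - ev 0 i * two0 K
  set w := ac u (ev (la m)) with hw
  have w0 : hf w (ev 0) = 1 := by rw [hw, ← u0, hf_ac, a2]
  have ww : hf w w = 0 := by rw [hw, hf_ac, iL]
  set d := hf w (ev (la m)) with hd
  set y := w + ev (la m) + d • ev 0 with hy
  have y0 : hf y (ev 0) = 0 := by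
    rw [hy, hf_add_left, hf_add_left, hf_smul_left, w0, a2, i0]; linear_combination two0 K
  have yL : hf y (ev (la m)) = 0 := by
    rw [hy, hf_add_left, hf_add_left, hf_smul_left, iL, a1]; linear_combination d * two0 K
  have e1 : w = ev (la m) + y + d • ev 0 := by
    ext i
    simp only [hy, Pi.add_apply, Pi.smul_apply, smul_eq_mul]
    linear_combination -(ev (la m) i + d * ev 0 i) * two0 K
  have ok : Ok (ev 0) y d := ⟨i0, y0, by
    rw [e1] at ww
    simp only [hf_add_left, hf_add_right, hf_smul_left, hf_smul_right, i0, iL, a1, a2, y0, yL,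
      hf_symm y0, hf_symm yL] at ww
    linear_combination ww - hf y y * two0 K⟩
  have eL : ∀ (x : Vn m K) (c : K), Ok (ev 0) x c → hf x (ev (la m)) = 0 →
      ac (EE (ev 0) x c) (ev (la m)) = ev (la m) + x + c • ev 0 := fun x c h hx => by
    rw [ac_EE h, hf_symm hx, a2]; simp
  clear hy hd
  clear_value y d
  obtain ⟨l, rfl⟩ : ∃ l, u = EE (ev 0) y d * l := ⟨(EE (ev 0) y d)⁻¹ * u, by group⟩
  have l0 : ac l (ev 0) = ev 0 := ac_inj (EE (ev 0) y d) (by rw [← ac_mul, u0, ac_EE_self ok])
  have lL : ac l (ev (la m)) = ev (la m) :=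
    ac_inj (EE (ev 0) y d) (by rw [← ac_mul, ← hw, e1, eL y d ok yL])
  have ok' : Ok (ev 0) (ac l y) d := by have := ok.ac l; rwa [l0] at this
  have lyL : hf (ac l y) (ev (la m)) = 0 := by rw [← lL, hf_ac, yL]
  have e2 : EE (ev 0) y d * l * (EE (ev 0) y d * l) =
      EE (ev 0) (y + ac l y) (d + d + hf (ac l y) y) * (l * l) := by
    have := EE_conj ok l
    rw [l0] at this
    rw [← EE_mul ok ok', ← this]; group
  obtain ⟨c, hc, e3⟩ := (FV.mem_Z _).1 hz
  have e4 := congrArg (fun g => ac g (ev (la m))) (e2.symm.trans e3)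
  simp only [ac_mul, lL] at e4
  rw [eL _ _ (ok.add ok') (by rw [hf_add_left, yL, lyL, add_zero]), eL _ _ (ok_zero i0 hc) (by simp),
    add_zero, add_assoc, add_right_inj] at e4
  have e5 := congrArg (fun v => hf v (ev (la m))) e4
  simp only [hf_add_left, hf_smul_left, yL, lyL, a1, zero_add, mul_one] at e5
  rw [e5, add_eq_right] at e4
  have ly : ac l y = y := by
    rw [← zero_add (ac l y), ← v_add_self y, add_assoc, e4, add_zero]
  rw [e4, e5, e3] at e2
  have ll : l * l = 1 := by simpa using e2.symm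
  refine ⟨y, d, l, ok, yL, fun h => h1 ?_, rfl, ll, l0, lL, ly⟩
  rw [ly, h, CharTwo.add_self_eq_zero, add_zero] at e5
  rw [e3, ← e5, Tc, EE_zero]

end H17.YUSD
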