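import Cfsg.Agent.H78.P6.H78_YUDef

namespace H18 end H18
open H18
namespace H67 end H67
open H67
namespace H67.P6 end H67.P6
open H67.P6
namespace H67.P6.H18 end H67.P6.H18
open H67.P6.H18
namespace H67.P6.H18.YUGC end H67.P6.H18.YUGC
open H67.P6.H18.YUGC
namespace H67.P6.H67 end H67.P6.H67
open H67.P6.H67
namespace H85.P6 end H85.P6
open H85.P6
namespace H85.P6.H18 end H85.P6.H18
open H85.P6.H18
namespace H85.P6.H18.YUGC end H85.P6.H18.YUGC
open H85.P6.H18.YUGC
namespace H85.P6.H67 end H85.P6.H67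
open H85.P6.H67
namespace H78.P6


/-! STD-SP (row S3129), endgame, unitary models: job GC of `blueprints/STDSP_YU.md`. -/

set_option autoImplicit false
set_option linter.unusedSectionVars false

namespace H18.YUGC

open H67 H67.UA H64.YE H78.YU Subgroup Matrix
open H67.SP (Qx bc fa mid iv IsIns ins Alt kk vx xb)

section W

variable {n : ℕ} {K : Type} [Field K] [StarRing K] [CharP K 2]

theorem hf_W {v w : Vn n K} (hv : Wk (kk n) v) (hw : Wk (kk n) w) : hf v w = 0 :=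
  Finset.sum_eq_zero fun i _ => by
    by_cases hi : kk n ≤ i.val
    · rw [hv i hi, zero_mul]
    · rw [hw i.rev (by have := i.2; rw [Fin.val_rev]; unfold kk at *; omega), star_zero, mul_zero]

theorem fix_W {g : XU n K} (hg : ∀ w, Wk (kk n) (ac g w + w)) {z : Vn n K} (hz : Wk (kk n) z) :
    ac g z = z := by
  have e : ac g⁻¹ z = z := eq_of_hf fun y => by
    have h1 := hf_W (hg y) hz
    rw [hf_add_left, hf_ac_left] at h1
    rw [← star_hf, ← star_hf y z]
    congr 1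
    linear_combination h1 - hf y z * two0 K
  conv_lhs => rw [← e, ac_ac_inv]

end W

variable {n : ℕ} {F : Type} [Field F] [StarRing F] [TrivialStar F] [CharP F 2] [Finite F]
  {K : Type} [Field K] [StarRing K] [CharP K 2] [Finite K] {x : Qx F K} {h : ∀ a : K, star a = x.σ a}

theorem vx_zero (m : ℕ) : vx x.φ (0 : Vn m F) = 0 := funext fun _ => map_zero x.φ

theorem nf (f0 : F0 x h) (dc : DC n F) (al : AL n x h) {u : XU n F} (hu : u * u = 1) :
    ∃ (g : XU n F) (g' : XU n K) (v : Vn n F), Wk (kk n) v ∧ (Alt u ↔ v = 0) ∧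
      iU n x h (TT v) = TT (vx x.φ v) ∧
      iU n x h u = iU n x h g * g' * iU n x h (TT v) * (ta n K (iU n x h g * g'))⁻¹ := by
  obtain ⟨g, u', v, e, h1, h2, h3, h4⟩ := dc u hu
  obtain ⟨g', k1, k2⟩ := al u' h1 h2
  have fx : ∀ p, ta n K (iU n x h p) = iU n x h p := fun p => (f0.fix n _).2 ⟨p, rfl⟩
  have e1 : iU n x h (TT v) = TT (vx x.φ v) := by
    rw [f0.ee n _ _ _ (ok_zero (hf_W h3 h3) (star_one F)), vx_zero, map_one]
  have hz : Wk (kk n) (vx x.φ v) := fun i hi => by rw [vx, h3 i hi, map_zero]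
  have c1 : g' * iU n x h (TT v) * g'⁻¹ = iU n x h (TT v) := by
    rw [e1, Tc_conj (hf_W hz hz) (star_one K), fix_W k1 hz]
  have c2 := congrArg (ta n K) c1
  rw [map_mul, map_mul, map_inv, fx, mul_inv_eq_iff_eq_mul] at c2
  refine ⟨g, g', v, h3, h4, e1, ?_⟩
  have c3 : (ta n K g')⁻¹ * iU n x h (TT v) = iU n x h (TT v) * (ta n K g')⁻¹ := by
    rw [inv_mul_eq_iff_eq_mul, ← mul_assoc, c2, mul_inv_cancel_right]
  rw [e, map_mul, map_mul, map_mul, map_mul, map_inv, fx, k2, mul_assoc g', c3]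
  group

theorem jobGC : H78.YU.JobGC := by
  intro n F _ _ _ _ _ _ b _ _ K _ _ _ _ x h f0 i1 f1 dc al
  have fx : ∀ p, ta n K (iU n x h p) = iU n x h p := fun p => (f0.fix n _).2 ⟨p, rfl⟩
  refine ⟨fun u hu ha => ?_, fun u hu ha => ?_, fun u hu => ?_⟩
  · obtain ⟨g, g', v, -, h1, -, e⟩ := nf f0 dc al hu
    rw [h1.1 ha, TT, Tc, EE_zero_left, map_one, mul_one] at e
    exact ⟨_, e⟩
  · obtain ⟨g, g', v, hv, h1, -, e⟩ := nf f0 dc al hu.1
    obtain ⟨p, hp⟩ := b.w1 v fun e => ha (h1.2 e)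
    have i0 : Iso (ev 0 : Vn n F) := by
      have := (show Iso v from hf_W hv hv).ac p⁻¹
      rwa [← hp, ac_inv_ac] at this
    rw [← hp, TT, ← Tc_conj i0 (star_one F)] at e
    refine ⟨iU n x h g * g' * iU n x h p, e.trans ?_⟩
    simp only [map_mul, map_inv, fx]
    group
  · obtain ⟨g, g', v, hv, -, e1, e⟩ := nf f0 dc al hu
    have := hfK x h
    obtain ⟨η, hη⟩ := H59.UM.exists_tr (star_one K)
    have iz : Iso (vx x.φ v) := by rw [Iso, f0.hv, hf_W hv hv, map_zero]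
    have ok : Ok (iv (vx x.φ v)) (ev (mid n)) η :=
      ⟨(i1.hh _ _).trans iz, hf_symm (i1.hm _), hη.trans i1.mm.symm⟩
    have i0 : iv (0 : Vn n K) = 0 := by simpa using i1.smul 0 0
    have t : EE (iv (vx x.φ v)) (ev (mid n)) η * (ta (n + 1) K (EE (iv (vx x.φ v)) (ev (mid n)) η))⁻¹ =
        ins n K (iU n x h (TT v)) := by
      rw [ta_EE ok, i1.bi, f0.bv, br_ev, EE_inv ok.star, star_star, EE_mul ok ok, v_add_self,
        CharTwo.add_self_eq_zero, zero_add, i1.mm, e1, i1.ee _ _ _ (ok_zero iz (star_one K)), i0]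
    refine ⟨ins n K (iU n x h g * g') * EE (iv (vx x.φ v)) (ev (mid n)) η, ?_⟩
    rw [f1.sq, e, map_mul (ta (n + 1) K), i1.tc, map_mul (ins n K), map_mul (ins n K), map_inv, ← t]
    group

end H18.YUGC
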