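import Cfsg.Agent.H78.P6.H78_S2Kit

namespace H23 end H23
open H23
namespace H85.P6 end H85.P6
open H85.P6
namespace H85.P6.H23 end H85.P6.H23
open H85.P6.H23
namespace H85.P6.H23.S2P3b end H85.P6.H23.S2P3b
open H85.P6.H23.S2P3b
namespace H78.P6


/-! STD-SP chapter II, slot P3b: normalising the element that moves `t`. -/

set_option autoImplicit false
set_option linter.unusedSectionVars false

namespace H23.S2P3b

open H78.S2
open H64.SG (Cz Cs Ns mem_Cs)
open H67.UA hiding Par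
open H67.SP
open H86.SPI (hf_self hf_comm hf_smul_right' ac_TT TT_conj TT_zero)
open H54.SPF (v1 v2)
open Matrix Subgroup

universe u

variable {n : ℕ} {F : Type} [Field F] [StarRing F] [TrivialStar F] [CharP F 2] [Finite F]
  [hp : Par n F]

section Vec

variable {y y' m m' : Vn n F} {p : XU n F}

theorem wk_add (h : Wk 2 m) (h' : Wk 2 m') : Wk 2 (m + m') := fun i hi => by
  simp [h i hi, h' i hi]

theorem wk_smul (c : F) (h : Wk 2 m) : Wk 2 (c • m) := fun i hi => by simp [h i hi]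

theorem wk_zero : Wk 2 (0 : Vn n F) := fun _ _ => rfl

theorem wk_ev {i : Fin (n + 1)} (h : i.val < 2) : Wk 2 (ev i : Vn n F) := fun j hj => by
  rw [ev_apply, if_neg]
  rintro rfl
  omega

theorem wk_e0 : Wk 2 (ev 0 : Vn n F) := wk_ev (by simp)

theorem wk_e1 : Wk 2 (ev 1 : Vn n F) := wk_ev (by rw [v1 hp.five]; omega)

theorem wk_comb (a b : F) : Wk 2 (a • ev 0 + b • ev 1 : Vn n F) :=
  wk_add (wk_smul a wk_e0) (wk_smul b wk_e1)

theorem pl_wk (h : Wk 2 m) : Pl m := by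
  have := hp.five
  constructor
  · rw [hf_ev_right]; exact h _ (by simp; omega)
  · rw [hf_ev_right]; exact h _ (by rw [Fin.val_rev, v1 hp.five]; omega)

theorem pl_add (h : Pl y) (h' : Pl y') : Pl (y + y') :=
  ⟨by rw [hf_add_left, h.1, h'.1, add_zero], by rw [hf_add_left, h.2, h'.2, add_zero]⟩

theorem pl_smul (c : F) (h : Pl y) : Pl (c • y) :=
  ⟨by rw [hf_smul_left, h.1, mul_zero], by rw [hf_smul_left, h.2, mul_zero]⟩

theorem hf_pw (x : FX n F) (h : Pl y) (h' : Wk 2 m) : hf y m = 0 := by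
  obtain ⟨a, b, rfl⟩ := (x.wk m).1 h'
  rw [hf_add_right, hf_smul_right', hf_smul_right', h.1, h.2]; simp

theorem og_add (h : Og y) (h' : Wk 2 m) : Og (y + m) := ⟨pl_add h.1 (pl_wk h'), fun k => h.2 (by
  have := wk_add k h'
  rwa [add_assoc, v_add_self, add_zero] at this)⟩

theorem og_of (h : Og y) (h' : Wk 2 (y' + y)) : Og y' := by
  have := og_add h h'
  rwa [add_comm y', ← add_assoc, v_add_self, zero_add] at this

theorem n01 (h5 : 5 ≤ n) : (0 : Fin (n + 1)) ≠ 1 := fun h => by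
  have := congrArg Fin.val h
  rw [v1 h5] at this
  simp at this

theorem lt2 (h5 : 5 ≤ n) {i : Fin (n + 1)} (h : i.val < 2) : i = 0 ∨ i = 1 := by
  by_cases h0 : i.val = 0
  · exact Or.inl (Fin.ext h0)
  · exact Or.inr (Fin.ext (by rw [v1 h5]; omega))

theorem og_w0 (h : W0 y) (h0 : y ≠ 0) : Og y := ⟨h.1, fun k => h0 (funext fun i => by
  by_cases hi : i.val < 2
  · rcases lt2 hp.five hi with rfl | rfl
    · exact h.2.1
    · exact h.2.2
  · exact k i (by omega))⟩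

theorem w0_add (h : W0 y) (h' : W0 y') : W0 (y + y') :=
  ⟨pl_add h.1 h'.1, by simp [h.2.1, h'.2.1], by simp [h.2.2, h'.2.2]⟩

theorem w0_smul (c : F) (h : W0 y) : W0 (c • y) :=
  ⟨pl_smul c h.1, by simp [h.2.1], by simp [h.2.2]⟩

theorem w0_ev {i : Fin (n + 1)} (h : 2 ≤ i.val) (h' : i.val + 2 ≤ n) : W0 (ev i : Vn n F) := by
  have h1 := v1 hp.five
  refine ⟨⟨?_, ?_⟩, ?_, ?_⟩
  · rw [H54.SPF.hf_evv, if_neg (by simp; omega)]
  · rw [H54.SPF.hf_evv, if_neg (by omega)]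
  · rw [ev_apply, if_neg]; rintro rfl; simp at h
  · rw [ev_apply, if_neg]; rintro rfl; omega

theorem exists_w0 (h : W0 y) (h0 : y ≠ 0) : ∃ a, W0 a ∧ hf y a ≠ 0 := by
  obtain ⟨i, hi⟩ := Function.ne_iff.1 h0
  have h1 := v1 hp.five
  have k0 : i ≠ 0 := by rintro rfl; exact hi h.2.1
  have k1 : i ≠ 1 := by rintro rfl; exact hi h.2.2
  have k2 : i ≠ Fin.rev 0 := by rintro rfl; exact hi ((hf_ev_right _ _).symm.trans h.1.1)
  have k3 : i ≠ Fin.rev 1 := by rintro rfl; exact hi ((hf_ev_right _ _).symm.trans h.1.2)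
  rw [Ne, Fin.ext_iff] at k0 k1 k2 k3
  rw [Fin.val_rev] at k2 k3
  have := i.2
  simp only [Fin.val_zero] at k0 k2
  refine ⟨ev i.rev, w0_ev (by rw [Fin.val_rev]; omega) (by rw [Fin.val_rev]; omega), ?_⟩
  rwa [hf_ev_right, Fin.rev_rev]

theorem exists_w2 (h : W0 y) (h0 : y ≠ 0) (h' : W0 y') (h0' : y' ≠ 0) :
    ∃ a, W0 a ∧ hf y a ≠ 0 ∧ hf y' a ≠ 0 := by
  obtain ⟨a, ha, ha'⟩ := exists_w0 h h0
  obtain ⟨b, hb, hb'⟩ := exists_w0 h' h0'
  by_cases k : hf y' a = 0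
  · by_cases k' : hf y b = 0
    · exact ⟨a + b, w0_add ha hb, by rwa [hf_add_right, k', add_zero],
        by rwa [hf_add_right, k, zero_add]⟩
    · exact ⟨b, hb, k', hb'⟩
  · exact ⟨a, ha, ha', k⟩

variable (n F) in
theorem exists_ab : ∃ a b : Vn n F, W0 a ∧ W0 b ∧ hf a b = 1 := by
  have h1 := v2 hp.five
  have := hp.five
  refine ⟨ev 2, ev (Fin.rev 2), w0_ev (by omega) (by omega),
    w0_ev (by rw [Fin.val_rev]; omega) (by rw [Fin.val_rev]; omega), ?_⟩
  rw [hf_ev, if_pos rfl]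

theorem co0 (a b : F) : (a • ev 0 + b • ev 1 : Vn n F) 0 = a := by
  simp only [Pi.add_apply, Pi.smul_apply, ev_apply, if_pos, if_neg (n01 hp.five)]; simp

theorem co1 (a b : F) : (a • ev 0 + b • ev 1 : Vn n F) 1 = b := by
  simp only [Pi.add_apply, Pi.smul_apply, ev_apply, if_pos, if_neg (n01 hp.five).symm]; simp

theorem comb_inj {a b c d : F} (h : (a • ev 0 + b • ev 1 : Vn n F) = c • ev 0 + d • ev 1) :
    a = c ∧ b = d :=
  ⟨by rw [← co0 (n := n) a b, h, co0], by rw [← co1 (n := n) a b, h, co1]⟩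

/-- `p` stabilises `ℓ` -/
def St (p : XU n F) : Prop := Wk 2 (ac p (ev 0)) ∧ Wk 2 (ac p (ev 1))

theorem St.wk (x : FX n F) (h : St p) (hm : Wk 2 m) : Wk 2 (ac p m) := by
  obtain ⟨a, b, rfl⟩ := (x.wk m).1 hm
  rw [ac_add, ac_smul, ac_smul]
  exact wk_add (wk_smul a h.1) (wk_smul b h.2)

theorem St.og (x : FX n F) (h : St p) (hy : Og y) : Og (ac p y) := (x.nrm p h.1 h.2).2.2.2.1 y hy

theorem St.M (x : FX n F) (h : St p) {a : XU n F} (ha : a ∈ Mk n F 2) : p * a * p⁻¹ ∈ Mk n F 2 :=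
  (mem_normalizer_iff.1 (x.nrm p h.1 h.2).2.1 a).1 ha

theorem St.inv (x : FX n F) (h : St p) : St p⁻¹ := by
  have k : ∀ m : Vn n F, Wk 2 m → Wk 2 (ac p⁻¹ m) := fun m hm => by
    by_contra k
    refine (h.og x (y := ac p⁻¹ m) ⟨⟨?_, ?_⟩, k⟩).2 (by rwa [ac_ac_inv])
    · rw [← hf_ac p, ac_ac_inv, hf_pw x (pl_wk hm) h.1]
    · rw [← hf_ac p, ac_ac_inv, hf_pw x (pl_wk hm) h.2]
  exact ⟨k _ wk_e0, k _ wk_e1⟩

theorem p2_fix (x : FX n F) (h : p ∈ P2 n F) (hm : Wk 2 m) : ac p m = m := by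
  obtain ⟨a, b, rfl⟩ := (x.wk m).1 hm
  rw [ac_add, ac_smul, ac_smul, mem_Stab.1 h.1, mem_Stab.1 h.2]

theorem st_p2 (h : p ∈ P2 n F) : St p :=
  ⟨by rw [mem_Stab.1 h.1]; exact wk_e0, by rw [mem_Stab.1 h.2]; exact wk_e1⟩

theorem st_cc (x : FX n F) (h : p ∈ CC n F) : St p := by
  obtain ⟨a, b, c, d, h1, h2, -⟩ := (x.memC p).1 h
  exact ⟨h1 ▸ wk_comb a b, h2 ▸ wk_comb c d⟩

theorem hz (c : F) : hf (c • ev 1 : Vn n F) (ev 0) = 0 := (pl_smul c (pl_wk wk_e1)).1

theorem zs_fix (c : F) (h : Pl y) : ac (zs c) y = y :=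
  ac_qq_fix (hz c) h.1 (by rw [hf_smul_right', h.2, mul_zero])

theorem M_fix (x : FX n F) (h : p ∈ Mk n F 2) (hy : Pl y) : ac p y = y := by
  obtain ⟨m, c, hm, rfl⟩ := (x.memM p).1 h
  rw [ac_mul, zs_fix c hy, ac_TT, hf_pw x hy hm, zero_smul, add_zero]

theorem zs_mem (x : FX n F) (c : F) : (zs c : XU n F) ∈ Mk n F 2 :=
  (x.memM _).2 ⟨0, c, wk_zero, by rw [TT_zero, one_mul]⟩

theorem M_p2 (x : FX n F) (h : p ∈ Mk n F 2) : p ∈ P2 n F :=
  ⟨M_fix x h (pl_wk wk_e0), M_fix x h (pl_wk wk_e1)⟩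

theorem TT_p2 (h : Pl y) : TT y ∈ P2 n F :=
  ⟨mem_Stab.2 (by rw [ac_TT, hf_symm h.1, zero_smul, add_zero]),
    mem_Stab.2 (by rw [ac_TT, hf_symm h.2, zero_smul, add_zero])⟩

theorem hf_M (x : FX n F) (hm : Wk 2 m) (c : F) (v : Vn n F) :
    hf (ac (TT m * zs c) v) v = hf v m ^ 2 := by
  have h0 := hf_pw x (pl_wk wk_e0) hm
  have h1 := hf_pw x (pl_wk wk_e1) hm
  simp only [ac_mul, ac_qq' (hz c), ac_TT, hf_add_left, hf_smul_left, hf_smul_right', h0, h1,
    hf_self, hf_comm (ev 0) v, hf_comm (ev 1) v, hf_comm m v]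
  linear_combination (c * hf v (ev 0) * hf v (ev 1)) * two0 F

theorem M_uq (x : FX n F) (hm : Wk 2 m) (hm' : Wk 2 m') {c c' : F}
    (h : TT m * zs c = TT m' * zs c') : m = m' := eq_of_hf fun v => by
  rw [hf_comm m, hf_comm m']
  exact sq_inj (by rw [← hf_M x hm c, h, hf_M x hm'])

end Vec

variable {G : Type u} [Group G] {e : XU n F →* G} {t : G}

section Te

variable {a b : G} {p q : XU n F}

theorem te_uq (v : BV e t) (h : Te e t a p) (h' : Te e t a q) : p = q := by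
  have k : ∀ {p q : XU n F}, e p ≠ t * e q := fun {p q} k => v.ne (p * q⁻¹) (by
    rw [map_mul, map_inv, k, mul_inv_cancel_right])
  rcases h with h | h <;> rcases h' with h' | h'
  · exact v.inj (h.symm.trans h')
  · exact (k (h.symm.trans h')).elim
  · exact (k (h'.symm.trans h)).elim
  · exact v.inj (mul_left_cancel (h.symm.trans h'))

theorem te_mul (v : BV e t) (h : Te e t a p) (h' : Te e t b q) : Te e t (a * b) (p * q) := by
  rcases h with rfl | rfl <;> rcases h' with rfl | rfl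
  · exact Or.inl (map_mul e p q).symm
  · exact Or.inr (by rw [map_mul, ← mul_assoc, ← v.cen, mul_assoc])
  · exact Or.inr (by rw [map_mul, mul_assoc])
  · exact Or.inl (by rw [map_mul, mul_assoc, ← mul_assoc (e p), ← v.cen, ← mul_assoc, ← mul_assoc,
      v.tt, one_mul])

theorem te_inv (v : BV e t) (h : Te e t a p) : Te e t a⁻¹ p⁻¹ := by
  rcases h with rfl | rfl
  · exact Or.inl (map_inv e p).symm
  · exact Or.inr (by rw [_root_.mul_inv_rev, inv_eq_of_mul_eq_one_right v.tt, ← map_inv, v.cen])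

theorem te_comm (v : BV e t) (h : Te e t a p) (h' : Te e t b q) (k : p * q = q * p) :
    a * b = b * a := by
  have k1 : Commute (e p) (e q) := by rw [commute_iff_eq, ← map_mul, k, map_mul]
  have k2 : ∀ g, Commute t (e g) := v.cen
  rcases h with rfl | rfl <;> rcases h' with rfl | rfl
  · exact k1
  · exact (k2 p).symm.mul_right k1
  · exact (k2 q).mul_left k1
  · exact ((Commute.refl t).mul_right (k2 q)).mul_left ((k2 p).symm.mul_right k1)

end Te

variable (e t) in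
/-- `g` conjugates `e p` into `⟨t⟩ e p'` -/
def R (g : G) (p p' : XU n F) : Prop := Te e t (g * e p * g⁻¹) p'

section R

variable {g : G} {p p' q q' : XU n F}

theorem R.mul (v : BV e t) (h : R e t g p p') (h' : R e t g q q') : R e t g (p * q) (p' * q') := by
  have := te_mul v h h'
  rwa [show g * e p * g⁻¹ * (g * e q * g⁻¹) = g * (e p * e q) * g⁻¹ by group, ← map_mul] at this

theorem R.inv (v : BV e t) (h : R e t g p p') : R e t g p⁻¹ p'⁻¹ := by
  have := te_inv v h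
  rwa [show (g * e p * g⁻¹)⁻¹ = g * (e p)⁻¹ * g⁻¹ by group, ← map_inv] at this

theorem R.back (v : BV e t) (k : NK e t) (hg : Nz e t g) (h : R e t g p p') :
    ∃ c, R e t g⁻¹ p' (zs c * p) := by
  obtain ⟨c, hc⟩ := (k.inv g hg).tz
  rcases h with h | h
  · refine ⟨0, Or.inl ?_⟩
    rw [← h, zs, zero_smul, H86.SPI.qq_zero_left, one_mul]; group
  · refine ⟨c, Or.inr ?_⟩
    have h1 : e p' = t * (g * e p * g⁻¹) := by rw [h, ← mul_assoc, v.tt, one_mul]
    rw [map_mul, ← mul_assoc, ← hc, h1]; group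

end R

section Main

variable {g : G} {f : Vn n F → Vn n F} {p p' : XU n F} {y y' : Vn n F}

theorem og_f (h : Kf e t g f) (hy : Og y) : Og (f y) := og_of hy (h.tt y hy).1

/-- Equivariance. -/
theorem eqv (x : FX n F) (v : BV e t) (h : Kf e t g f) (s : St p) (s' : St p') (r : R e t g p p')
    (hy : Og y) {m m' : XU n F} (hm : m ∈ Mk n F 2) (hm' : m' ∈ Mk n F 2)
    (k : R e t g (TT y) (TT (f y) * m)) (k' : R e t g (TT (ac p y)) (TT (f (ac p y)) * m')) :
    f (ac p y) = ac p' (f y) ∧ m' = p' * m * p'⁻¹ := by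
  have h1 := (r.mul v k).mul v (r.inv v)
  rw [TT_conj, show p' * (TT (f y) * m) * p'⁻¹ = p' * TT (f y) * p'⁻¹ * (p' * m * p'⁻¹) by group,
    TT_conj] at h1
  have h2 := te_uq v k' h1
  have h3 := x.uq _ _ (og_f h (s.og x hy)) (s'.og x (og_f h hy)) _ (mul_mem (s'.M x hm) (inv_mem hm'))
    (by rw [← mul_assoc, ← h2, mul_inv_cancel_right])
  exact ⟨h3, mul_left_cancel (h2.trans (by rw [h3]))⟩

theorem eqv' (x : FX n F) (v : BV e t) (h : Kf e t g f) (s : St p) (s' : St p') (r : R e t g p p')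
    (hy : Og y) : f (ac p y) = ac p' (f y) := by
  obtain ⟨-, m, hm, k⟩ := h.tt y hy
  obtain ⟨-, m', hm', k'⟩ := h.tt _ (s.og x hy)
  exact (eqv x v h s s' r hy hm hm' k k').1

theorem f_TT (x : FX n F) (v : BV e t) (h : Kf e t g f) (hy : Og y) (hy' : Og y') :
    f (y + hf y y' • y') = f y + hf y y' • f y' := by
  obtain ⟨w', m, hm, k⟩ := h.tt y' hy'
  have w := (h.tt y hy).1
  have h1 := eqv' x v h (st_p2 (TT_p2 hy'.1))
    (st_p2 (mul_mem (TT_p2 (og_f h hy').1) (M_p2 x hm))) k hy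
  have h2 : hf (f y) (f y') = hf y y' := by
    have a1 := hf_pw x (og_f h hy).1 w'
    have a2 := hf_symm (hf_pw x hy'.1 w)
    rw [hf_add_right] at a1
    rw [hf_add_left] at a2
    linear_combination a1 + a2 - (hf (f y) y' + hf y y') * two0 F
  rwa [ac_mul, M_fix x hm (og_f h hy).1, ac_TT, ac_TT, h2] at h1

theorem f_inj (x : FX n F) (v : BV e t) (k : NK e t) (h : Kf e t g f) (hy : Og y) (hy' : Og y')
    (e0 : f y = f y') : y = y' := by
  obtain ⟨-, m, hm, r⟩ := h.tt y hy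
  obtain ⟨-, m', hm', r'⟩ := h.tt y' hy'
  have h1 := R.mul v (R.inv v r') r
  rw [e0, show (TT (f y') * m')⁻¹ * (TT (f y') * m) = m'⁻¹ * m by group] at h1
  obtain ⟨c, hc⟩ := h1.back v k h.nz
  obtain ⟨a, ha, h2⟩ := k.mm _ (k.inv g h.nz) _ (mul_mem (inv_mem hm') hm)
  have h3 := te_uq v hc (Or.inl h2)
  exact x.uq y y' hy hy' _ (mul_mem (inv_mem (zs_mem x c)) ha) (by rw [← h3]; group)

/-- The element of order `3` of the Levi factor. -/
theorem w0 (x : FX n F) (v : BV e t) (k : NK e t) (h : Kf e t g f) :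
    ∃ r : XU n F, (∀ m, Wk 2 m → ac r m = m → m = 0) ∧ ∀ y, W0 y → y ≠ 0 →
      ac r (f y) = f y ∧ ∃ c, R e t g (TT y) (TT (f y) * zs c) := by
  obtain ⟨r, r0, r1, r2⟩ := x.lev 0 1 1 1 (by simp)
  have hr : r ∈ CC n F := (x.memC r).2 ⟨0, 1, 1, 1, r0, r1, by simp⟩
  obtain ⟨r', hr', rr⟩ := k.cc g h.nz r hr
  have rr : R e t g r r' := rr
  have nf : ∀ m, Wk 2 m → ac r' m = m → m = 0 := fun m hm fm => by
    by_contra m0
    obtain ⟨a, b, c, d, h0, h1, hd⟩ := (x.memC r').1 hr'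
    obtain ⟨s, w, rfl⟩ := (x.wk m).1 hm
    rw [ac_add, ac_smul, ac_smul, h0, h1, show s • (a • ev 0 + b • ev 1) + w • (c • ev 0 + d • ev 1)
      = (s * a + w * c) • (ev 0 : Vn n F) + (s * b + w * d) • ev 1 by module] at fm
    obtain ⟨e1, e2⟩ := comb_inj fm
    have had : d = a := by
      by_contra had
      have had : a + d ≠ 0 := fun z => had (by linear_combination z - a * two0 F)
      refine m0 ?_
      have hs : s = 0 := (mul_eq_zero.1 (show s * (a + d) = 0 by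
        linear_combination (d + 1) * e1 + c * e2 - s * hd +
          (s * d - c * d * w) * two0 F)).resolve_right had
      have hw : w = 0 := (mul_eq_zero.1 (show w * (a + d) = 0 by
        linear_combination b * e1 + (a + 1) * e2 - w * hd +
          (w * a - a * b * s) * two0 F)).resolve_right had
      simp [hs, hw]
    subst had
    have h2 : r' * r' ∈ P2 n F := by
      refine ⟨mem_Stab.2 ?_, mem_Stab.2 ?_⟩
      · rw [ac_mul, h0, ac_add, ac_smul, ac_smul, h0, h1]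
        trans (d * d + b * c) • ev 0 + (d * b + d * b) • ev 1
        · module
        · rw [hd, CharTwo.add_self_eq_zero]; simp
      · rw [ac_mul, h1, ac_add, ac_smul, ac_smul, h0, h1]
        trans (d * c + d * c) • ev 0 + (d * d + b * c) • ev 1
        · module
        · rw [hd, CharTwo.add_self_eq_zero]; simp
    obtain ⟨c', hc⟩ := (rr.mul v rr).back v k h.nz
    obtain ⟨a', ha, h3⟩ := k.pp _ (k.inv g h.nz) _ h2
    rw [← te_uq v hc h3] at ha
    have h4 := mem_Stab.1 ((mul_mem_cancel_left (M_p2 x (zs_mem x c'))).1 ha).1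
    rw [ac_mul, r0, zero_smul, one_smul, zero_add, r1] at h4
    exact one_ne_zero (comb_inj (c := 1) (d := 0) (h4.trans (by simp))).2
  refine ⟨r', nf, fun y hy y0 => ?_⟩
  have o := og_w0 hy y0
  obtain ⟨-, m, hm, r3⟩ := h.tt y o
  have s' := st_cc x hr'
  obtain ⟨h1, h2⟩ := eqv x v h (st_cc x hr) s' rr o hm hm r3 (by rw [r2 y hy]; exact r3)
  rw [r2 y hy] at h1
  obtain ⟨m0, c, hm0, rfl⟩ := (x.memM m).1 hm
  obtain ⟨l, -, hl⟩ := (x.nrm r' s'.1 s'.2).2.2.2.2
  rw [show r' * (TT m0 * zs c) * r'⁻¹ = r' * TT m0 * r'⁻¹ * (r' * zs c * r'⁻¹) by group, TT_conj,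
    hl] at h2
  obtain rfl := nf m0 hm0 (M_uq x hm0 (s'.wk x hm0) h2).symm
  rw [TT_zero, one_mul] at r3
  exact ⟨h1.symm, c, r3⟩

theorem adj (x : FX n F) (v : BV e t) (k : NK e t) (h : Kf e t g f) (s : St p)
    (w : ∀ y, Og y → Wk 2 (ac p⁻¹ (f y) + y)) : Kf e t (e p⁻¹ * g) fun y => ac p⁻¹ (f y) := by
  have s' := s.inv x
  refine ⟨k.mul _ _ (k.ofX _ s'.1 s'.2) h.nz, fun c => h.mv ?_, fun y hy => ⟨w y hy, ?_⟩⟩
  · rw [show g * t * g⁻¹ = (e p⁻¹)⁻¹ * (e p⁻¹ * g * t * (e p⁻¹ * g)⁻¹) * e p⁻¹ by group, c,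
      mul_assoc, v.cen, inv_mul_cancel_left]
  · obtain ⟨-, m, hm, r⟩ := h.tt y hy
    refine ⟨_, s'.M x hm, ?_⟩
    have := te_mul v (te_mul v (Or.inl rfl : Te e t (e p⁻¹) p⁻¹) r)
      (te_inv v (Or.inl rfl : Te e t (e p⁻¹) p⁻¹))
    rw [← TT_conj]
    convert this using 1 <;> group

theorem stepA (x : FX n F) (v : BV e t) (k : NK e t) (h : Kf e t g f) :
    ∃ g f, Kf e t g f ∧ ∀ y, W0 y → y ≠ 0 → f y = y := by
  obtain ⟨r, nf, hr⟩ := w0 x v k h
  have o : ∀ i, W0 (ev i : Vn n F) → Og (ev i : Vn n F) := fun i hi => og_w0 hi (ev_ne i)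
  obtain ⟨p, pp, hb⟩ := x.bas (fun i => f (ev i)) (fun i hi => (og_f h (o i hi)).1) fun i j hi hj => by
    have a1 := hf_pw x (og_f h (o i hi)).1 (h.tt _ (o j hj)).1
    have a2 := hf_symm (hf_pw x hj.1 (h.tt _ (o i hi)).1)
    rw [hf_add_right] at a1
    rw [hf_add_left] at a2
    linear_combination a1 + a2 - (hf (f (ev i)) (ev j) + hf (ev i : Vn n F) (ev j)) * two0 F
  have h1 : ∀ y, W0 y → ac r (ac p y) = ac p y := x.ind _ (by simp)
    (fun y y' a b => by rw [ac_add, ac_add, a, b]) fun c i hi => by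
      rw [ac_smul, ac_smul, hb i hi, (hr _ hi (ev_ne i)).1]
  have h2 : ∀ y, W0 y → Wk 2 (ac p y + y) := x.ind _ (by simpa using wk_zero)
    (fun y y' a b => by rw [ac_add, add_add_add_comm]; exact wk_add a b) fun c i hi => by
      rw [ac_smul, ← smul_add, hb i hi]; exact wk_smul c (h.tt _ (o i hi)).1
  have h3 : ∀ y, Og y → Wk 2 (f y + ac p y) := fun y hy => by
    obtain ⟨y0, m, w, -, hm, rfl⟩ := x.dec y hy
    have := wk_add (h.tt _ hy).1 (h2 y0 w)
    rw [ac_add, p2_fix x pp hm]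
    convert this using 1
    rw [show f (y0 + m) + (y0 + m) + (ac p y0 + y0) = f (y0 + m) + (ac p y0 + m) + (y0 + y0) by abel,
      v_add_self, add_zero]
  refine ⟨_, _, adj x v k h (st_p2 pp) fun y hy => ?_, fun y hy y0 => ?_⟩
  · have := ((st_p2 pp).inv x).wk x (h3 y hy)
    rwa [ac_add, ac_inv_ac] at this
  · have := nf _ (h3 y (og_w0 hy y0)) (by rw [ac_add, (hr y hy y0).1, h1 y hy])
    rw [H54.SPI.add_eq_iff, zero_add] at this
    rw [this, ac_inv_ac]

theorem stepB (x : FX n F) (v : BV e t) (k : NK e t) (h : Kf e t g f)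
    (h0 : ∀ y, W0 y → y ≠ 0 → f y = y) : ∃ g f, Kf e t g f ∧ ∀ y, Og y → f y = y := by
  have o : ∀ {y m : Vn n F}, W0 y → y ≠ 0 → Wk 2 m → Og (y + m) := fun a b c => og_add (og_w0 a b) c
  have hh : ∀ {y y' m m' : Vn n F}, W0 y → W0 y' → Wk 2 m → Wk 2 m' →
      hf (y + m) (y' + m') = hf y y' := fun a b c d => by
    rw [hf_add_right, hf_pw x (pl_add a.1 (pl_wk c)) d, add_zero, hf_add_left,
      hf_symm (hf_pw x b.1 c), add_zero]
  have i1 : ∀ {y y' m : Vn n F}, W0 y → W0 y' → hf y y' ≠ 0 → Wk 2 m →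
      f (y' + m) + y' = f (y + m) + y := fun {y y' m} a b c d => by
    have y0 : y ≠ 0 := by rintro rfl; simp at c
    have c1 : hf y (y + y') = hf y y' := by rw [hf_add_right, hf_self, zero_add]
    have u0 : rt (hf y y')⁻¹ • (y + y') ≠ 0 := smul_ne_zero (rt_ne (inv_ne_zero c)) fun z => by
      rw [z, hf_zero_right] at c1; exact c c1.symm
    have uw := w0_smul (rt (hf y y')⁻¹) (w0_add a b)
    have h1 := f_TT x v h (o a y0 d) (og_w0 uw u0)
    have h2 := hh a uw d wk_zero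
    rw [add_zero] at h2
    rw [h0 _ uw u0, h2, hf_smul_right', c1, smul_smul, mul_right_comm, ← pow_two, rt_sq,
      inv_mul_cancel₀ c, one_smul, show y + m + (y + y') = y' + m + (y + y) by abel, v_add_self,
      add_zero] at h1
    rw [h1, add_assoc, add_assoc, v_add_self, add_zero]
  obtain ⟨a, b, wa, wb, hab⟩ := exists_ab n F
  have a0 : a ≠ 0 := by rintro rfl; simp at hab
  have b0 : b ≠ 0 := by rintro rfl; simp at hab
  have i2 : ∀ {y m : Vn n F}, W0 y → y ≠ 0 → Wk 2 m → f (y + m) = y + (f (a + m) + a) :=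
    fun {y m} w y0 d => by
      obtain ⟨u, wu, u1, u2⟩ := exists_w2 w y0 wa a0
      rw [← i1 wa wu u2 d, i1 w wu u1 d, add_comm (f _), ← add_assoc, v_add_self, zero_add]
  have i3 : ∀ (c : F) {m m' : Vn n F}, Wk 2 m → Wk 2 m' →
      f (a + (m + c • m')) + a = f (a + m) + a + c • (f (a + m') + a) := fun c m m' d d' => by
    by_cases c0 : c = 0
    · simp [c0]
    have ca := smul_ne_zero c0 a0
    have ab : c • a + c • b ≠ 0 := fun z => by
      have := congrArg (fun s => hf s b) z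
      simp [hf_add_left, hf_smul_left, hf_self, hab, c0] at this
    have h1 := f_TT x v h (o (w0_smul c wa) ca d) (o wb b0 d')
    rw [hh (w0_smul c wa) wb d d', hf_smul_left, hab, mul_one,
      show c • a + m + c • (b + m') = c • a + c • b + (m + c • m') by module,
      i2 (w0_add (w0_smul c wa) (w0_smul c wb)) ab (wk_add d (wk_smul c d')),
      i2 (w0_smul c wa) ca d, i2 wb b0 d'] at h1
    refine add_left_cancel (a := c • a + c • b) (h1.trans ?_)
    module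
  have wA : ∀ {m : Vn n F}, Wk 2 m → Wk 2 (f (a + m) + a) := fun {m} d => by
    have := wk_add (h.tt _ (o wa a0 d)).1 d
    rwa [add_assoc, add_assoc, v_add_self, add_zero] at this
  obtain ⟨α, β, e0⟩ := (x.wk _).1 (wA wk_e0)
  obtain ⟨γ, δ, e1⟩ := (x.wk _).1 (wA wk_e1)
  have i4 : ∀ s w : F, f (a + (s • ev 0 + w • ev 1)) + a =
      s • (α • ev 0 + β • ev 1) + w • (γ • ev 0 + δ • ev 1) := fun s w => by
    have := i3 s wk_zero (wk_e0 (n := n) (F := F))
    rw [zero_add, add_zero, h0 a wa a0, v_add_self, zero_add] at this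
    rw [i3 w (wk_smul s wk_e0) wk_e1, this, e0, e1]
  have i5 : ∀ s w : F, s * α + w * γ = 0 → s * β + w * δ = 0 → s = 0 ∧ w = 0 := fun s w z1 z2 => by
    have h1 := i4 s w
    rw [show s • (α • ev 0 + β • ev 1) + w • (γ • ev 0 + δ • ev 1) =
      (s * α + w * γ) • (ev 0 : Vn n F) + (s * β + w * δ) • ev 1 by module, z1, z2, zero_smul,
      zero_smul, add_zero, H54.SPI.add_eq_iff, zero_add] at h1
    have h2 := f_inj x v k h (o wa a0 (wk_comb s w)) (og_w0 wa a0) (h1.trans (h0 a wa a0).symm)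
    exact comb_inj (c := 0) (d := 0) ((add_eq_left.1 h2).trans (by simp))
  have det : α * δ + β * γ ≠ 0 := fun z => by
    obtain ⟨z1, z2⟩ := i5 δ β (by linear_combination z) (by linear_combination δ * β * two0 F)
    obtain ⟨z3, z4⟩ := i5 γ α (by linear_combination γ * α * two0 F) (by linear_combination z)
    exact one_ne_zero (i5 1 0 (by simp [z4]) (by simp [z2])).1
  obtain ⟨r, r0, r1, r2⟩ := x.lev α β γ δ det
  have i6 : ∀ y, Og y → ac r⁻¹ (f y) = y := fun y hy => by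
    obtain ⟨y0, m, w, z, hm, rfl⟩ := x.dec y hy
    obtain ⟨s, s', rfl⟩ := (x.wk m).1 hm
    refine ac_inj r ?_
    rw [ac_ac_inv, i2 w z hm, i4, ac_add, ac_add, ac_smul, ac_smul, r0, r1, r2 y0 w]
  exact ⟨_, _, adj x v k h (p := r) ⟨r0 ▸ wk_comb α β, r1 ▸ wk_comb γ δ⟩ fun y hy => by
    rw [i6 y hy, v_add_self]; exact wk_zero, i6⟩

theorem cM (hF : ∀ c : F, c = 0 ∨ c = 1) (x : FX n F) (v : BV e t) (k : NK e t) (h : Kf e t g f)
    (h0 : ∀ y, Og y → f y = y) (m : Vn n F) (hm : Wk 2 m) : g * e (TT m) * g⁻¹ = e (TT m) := by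
  obtain ⟨a, b, wa, -, hab⟩ := exists_ab n F
  have a0 : a ≠ 0 := by rintro rfl; simp at hab
  have oa := og_w0 wa a0
  have tM : ∀ {m : Vn n F}, Wk 2 m → TT m ∈ Mk n F 2 := fun {m} hm =>
    (x.memM _).2 ⟨m, 0, hm, by rw [zs, zero_smul, H86.SPI.qq_zero_left, mul_one]⟩
  have z1 : (zs 1 : XU n F) = xa n F := by rw [zs, one_smul]
  have z0 : (zs 0 : XU n F) = 1 := by rw [zs, zero_smul, H86.SPI.qq_zero_left]
  obtain ⟨q, hq, e0⟩ := k.mm g h.nz _ (tM wk_e0)
  obtain ⟨m0, c, hm0, rfl⟩ := (x.memM q).1 hq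
  have key : ∀ p ∈ CC n F, g * e (TT (ac p (ev 0))) * g⁻¹ = e (TT (ac p m0) * zs c) := fun p hp => by
    obtain ⟨p', hp', r⟩ := k.cc g h.nz p hp
    have r : R e t g p p' := r
    have s := st_cc x hp
    have s' := st_cc x hp'
    have i1 : ∀ y, Og y → ac p' y = ac p y := fun y hy => by
      have := eqv' x v h s s' r hy
      rwa [h0 _ (s.og x hy), h0 _ hy, eq_comm] at this
    have i2 : ac p' m0 = ac p m0 := by
      have := i1 _ (og_add oa hm0)
      rwa [ac_add, ac_add, i1 _ oa, add_right_inj] at this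
    have i3 : p' * zs c * p'⁻¹ = zs c := by
      rcases hF c with rfl | rfl
      · rw [z0, mul_one, mul_inv_cancel]
      · rw [z1, ← H64.SG.mem_Cz.1 hp', mul_inv_cancel_right]
    have i4 := (r.mul v (Or.inl e0 : R e t g _ _)).mul v (r.inv v)
    rw [TT_conj, show p' * (TT m0 * zs c) * p'⁻¹ = p' * TT m0 * p'⁻¹ * (p' * zs c * p'⁻¹) by group,
      TT_conj, i2, i3] at i4
    obtain ⟨q, -, e1⟩ := k.mm g h.nz _ (tM (s.wk x wk_e0))
    rw [e1, te_uq v (Or.inl e1) i4]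
  have lv : ∀ a b c d : F, a * d + b * c = 1 → ∃ p ∈ CC n F, ac p (ev 0) = a • ev 0 + b • ev 1 ∧
      ac p (ev 1) = c • ev 0 + d • ev 1 := fun a b c d hd => by
    obtain ⟨r, r0, r1, -⟩ := x.lev a b c d (by rw [hd]; exact one_ne_zero)
    exact ⟨r, (x.memC r).2 ⟨a, b, c, d, r0, r1, hd⟩, r0, r1⟩
  obtain ⟨s, w, rfl⟩ := (x.wk m0).1 hm0
  obtain rfl : w = 0 := by
    obtain ⟨p, hp, p0, p1⟩ := lv 1 0 1 1 (by simp)
    have i := key p hp
    rw [p0, one_smul, zero_smul, add_zero, e0, ac_add, ac_smul, ac_smul, p0, p1,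
      show s • ((1 : F) • ev 0 + (0 : F) • ev 1) + w • ((1 : F) • ev 0 + (1 : F) • ev 1)
        = (s + w) • (ev 0 : Vn n F) + w • ev 1 by module] at i
    have := (comb_inj (M_uq x hm0 (wk_comb _ _) (v.inj i))).1
    linear_combination -this
  rw [zero_smul, add_zero] at key e0
  have all : ∀ a b : F, a • ev 0 + b • ev 1 ≠ (0 : Vn n F) →
      g * e (TT (a • ev 0 + b • ev 1)) * g⁻¹ = e (TT (s • (a • ev 0 + b • ev 1)) * zs c) :=
    fun a b hab => by
      obtain ⟨p, hp, p0, -⟩ : ∃ p ∈ CC n F, ac p (ev 0) = a • ev 0 + b • ev 1 ∧ True := by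
        rcases hF a with rfl | rfl
        · rcases hF b with rfl | rfl
          · simp at hab
          · obtain ⟨p, hp, p0, -⟩ := lv 0 1 1 0 (by simp)
            exact ⟨p, hp, p0, trivial⟩
        · obtain ⟨p, hp, p0, -⟩ := lv 1 b 0 1 (by simp)
          exact ⟨p, hp, p0, trivial⟩
      have := key p hp
      rwa [ac_smul, p0] at this
  have n0 : ∀ a b : F, a = 1 ∨ b = 1 → a • ev 0 + b • ev 1 ≠ (0 : Vn n F) := fun a b hab z => by
    obtain ⟨z1, z2⟩ := comb_inj (c := 0) (d := 0) (z.trans (by simp))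
    rcases hab with rfl | rfl
    exacts [one_ne_zero z1, one_ne_zero z2]
  have a1 := all 1 1 (n0 _ _ (Or.inl rfl))
  have a2 := all 1 0 (n0 _ _ (Or.inl rfl))
  have a3 := all 0 1 (n0 _ _ (Or.inr rfl))
  simp only [one_smul, zero_smul, add_zero, zero_add] at a1 a2 a3
  have hx : xa n F = TT (ev 0 + ev 1) * TT (ev 0) * TT (ev 1) :=
    qq_eq_TT (H86.SPI.pp (pl_wk wk_e0).2)
  have x1 : xa n F ≠ 1 := fun z => by
    have := congrArg (fun g => ac g (ev (Fin.rev 0))) z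
    have five := hp.five
    have k1 : hf (ev (Fin.rev 0) : Vn n F) (ev 1) = 0 := by
      rw [H54.SPF.hf_evv, if_neg (by rw [v1 five, Fin.val_rev]; simp only [Fin.val_zero]; omega)]
    have k0 : hf (ev (Fin.rev 0) : Vn n F) (ev 0) = 1 := by
      rw [H54.SPF.hf_evv, if_pos (by rw [Fin.val_rev]; simp)]
    simp only [xa, ac_qq' (pl_wk wk_e1).1, k0, k1, ac_one, zero_smul, add_zero, one_smul,
      add_eq_left] at this
    exact ev_ne _ this
  have gz : g * e (xa n F) * g⁻¹ = e (xa n F) := by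
    obtain ⟨d, hd⟩ := k.zz g h.nz 1
    rcases hF d with rfl | rfl
    · rw [z1, z0, map_one, conj_eq_one_iff, ← map_one e] at hd
      exact (x1 (v.inj hd)).elim
    · rwa [z1] at hd
  have g3 := gz
  conv_lhs at g3 => rw [hx, map_mul, map_mul, ← conj_mul, ← conj_mul, a1, a2, a3, ← map_mul, ← map_mul]
  have g4 := v.inj g3
  have xx : xa n F * xa n F = 1 := H86.SPI.qq_sq (pl_wk wk_e1).1
  obtain ⟨rfl, rfl⟩ : s = 1 ∧ c = 0 := by
    rcases hF s with rfl | rfl <;> rcases hF c with rfl | rfl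
    · simp only [zero_smul, TT_zero, z0, mul_one] at g4
      exact (x1 g4.symm).elim
    · exfalso
      rw [zero_smul, TT_zero, one_mul, z1, ← gz] at a2
      have := v.inj (mul_left_cancel (mul_right_cancel a2))
      have i := M_uq x (wk_e0 (n := n) (F := F)) wk_zero (c := 0) (c' := 1)
        (by rw [z0, z1, TT_zero, mul_one, one_mul, this])
      exact ev_ne _ i
    · exact ⟨rfl, rfl⟩
    · exfalso
      have cz : ∀ {m : Vn n F}, Wk 2 m → xa n F * TT m = TT m * xa n F := fun {m} hm =>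
        mem_Cs.1 (x.cM ▸ TT_p2 (pl_wk hm) : TT m ∈ Cs (Mk n F 2)) _ (z1 ▸ zs_mem x 1)
      simp only [one_smul, z1] at g4
      have ab : ∀ A B C z : XU n F, z * B = B * z → z * z = 1 → z = A * B * C →
          A * z * (B * z) * (C * z) = 1 := fun A B C z r1 r2 r3 => by
        calc _ = A * (z * B) * z * C * z := by group
          _ = A * B * (z * z) * C * z := by rw [r1]; group
          _ = 1 := by rw [r2, mul_one, ← r3, r2]
      exact x1 (g4.symm.trans (ab _ _ _ _ (cz wk_e0) xx hx))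
  obtain ⟨a, b, rfl⟩ := (x.wk m).1 hm
  by_cases z : a • ev 0 + b • ev 1 = (0 : Vn n F)
  · rw [z, TT_zero, map_one, mul_one, mul_inv_cancel]
  · rw [all a b z, one_smul, z0, mul_one]

theorem stepC (hF : ∀ c : F, c = 0 ∨ c = 1) (x : FX n F) (v : BV e t) (k : NK e t) (h : Kf e t g f) (h0 : ∀ y, Og y → f y = y) :
    ∃ μ, Km e t g μ := by
  obtain ⟨a, b, wa, -, hab⟩ := exists_ab n F
  have a0 : a ≠ 0 := by rintro rfl; simp at hab
  have oa := og_w0 wa a0
  obtain ⟨_, -, hr⟩ := w0 x v k h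
  obtain ⟨-, c, hc⟩ := hr a wa a0
  rw [h0 a oa] at hc
  have hμ := te_mul v (te_inv v (Or.inl rfl : Te e t (e (TT a)) (TT a))) hc
  rw [inv_mul_cancel_left] at hμ
  refine ⟨_, ?_, ⟨c, hμ⟩, fun y hy => ?_, cM hF x v k h h0⟩
  · obtain ⟨d, hd⟩ := h.nz.tz
    refine ⟨d, ?_, hd⟩
    rintro rfl
    exact h.mv (by rw [hd, zs, zero_smul, H86.SPI.qq_zero_left, map_one, mul_one])
  · obtain ⟨p, pp, rfl⟩ := x.tr a y oa hy
    obtain ⟨p', pp', r⟩ := k.pp g h.nz p pp
    have h1 := eqv' x v h (st_p2 pp) (st_p2 pp') r oa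
    rw [h0 _ hy, h0 _ oa] at h1
    have h2 := te_comm v r hμ (mem_Cs.1 (x.cM ▸ pp' : p' ∈ Cs (Mk n F 2)) _ (zs_mem x c)).symm
    have h3 : g * e p * g⁻¹ * e (TT a) * (g * e p * g⁻¹)⁻¹ = e (TT (ac p a)) := by
      rw [h1, ← TT_conj, map_mul, map_mul, map_inv]
      rcases r with r | r
      · rw [r]
      · rw [r, _root_.mul_inv_rev, inv_eq_of_mul_eq_one_right v.tt, ← map_inv, ← mul_assoc,
          mul_assoc t, mul_assoc t, ← map_mul, ← map_mul, v.cen, mul_assoc, v.tt, mul_one]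
    have h4 : ∀ s a μ : G, s * μ = μ * s → s * (a * μ) * s⁻¹ = s * a * s⁻¹ * μ := fun s a μ z => by
      rw [mul_assoc (s * a), inv_mul_eq_iff_eq_mul.2
        (show μ = s * (μ * s⁻¹) by rw [← mul_assoc, z, mul_inv_cancel_right])]
      group
    conv_rhs => rw [← h3, ← h4 _ _ _ h2]
    rw [← TT_conj, map_mul, map_mul, map_inv]
    group

end Main

theorem jobP3b : JobP3b.{u} := by
  intro n F _ _ _ _ _ _ G _ _ e t _ c x _ v k g f h
  obtain ⟨g, f, h, h0⟩ := stepA x v k h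
  obtain ⟨g, f, h, h0⟩ := stepB x v k h h0
  exact ⟨g, stepC (two_cases c.two) x v k h h0⟩

end H23.S2P3b
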