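import Cfsg.Agent.H78.P6.H78_YUDef

namespace H34 end H34
open H34
namespace H67 end H67
open H67
namespace H67.P6 end H67.P6
open H67.P6
namespace H67.P6.H34 end H67.P6.H34
open H67.P6.H34
namespace H67.P6.H34.YuNP end H67.P6.H34.YuNP
open H67.P6.H34.YuNP
namespace H67.P6.H67 end H67.P6.H67
open H67.P6.H67
namespace H85.P6 end H85.P6
open H85.P6
namespace H85.P6.H34 end H85.P6.H34
open H85.P6.H34
namespace H85.P6.H34.YuNP end H85.P6.H34.YuNP
open H85.P6.H34.YuNP
namespace H85.P6.H67 end H85.P6.H67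
open H85.P6.H67
namespace H78.P6


/-! STD-SP endgame, unitary models: `JobNP`. -/

set_option autoImplicit false
set_option linter.unusedSectionVars false

namespace H34.YuNP

open H64.SG (Ns)
open H67 H67.UA H78.YU Subgroup
open H67.SA (cm la)

variable {m : ℕ} {K : Type} [Field K] [StarRing K] [CharP K 2] [Finite K] [hp : Par m K]

theorem cj_mem {G : Type*} [Group G] {E : Subgroup G} {p e : G} (hp : p ∈ Ns E) (he : e ∈ E) :
    p * e * p⁻¹ ∈ E := (mem_normalizer_iff.1 hp e).1 he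

theorem cm_mem {G : Type*} [Group G] {E : Subgroup G} {p e : G} (hp : p ∈ Ns E) (he : e ∈ E) :
    cm e p ∈ E := by
  have := mul_mem he (cj_mem hp (inv_mem he))
  simpa only [cm, mul_assoc] using this

theorem ppr {i j : Fin (m + 1)} (hi : i.val < 3) (hj : j.val < 3) (h : i ≠ j) (a : K) :
    Pp (UA.ev i : Vn m K) (a • UA.ev j.rev) :=
  (pp_ev (ir (K := K) hi hi) (by rw [Fin.rev_rev]; exact (ir (K := K) hj hj).symm)
    (fun e => h (Fin.rev_inj.1 e).symm)).smul_right a

theorem np (E : Subgroup (XU m K)) (hP : P0 m K ≤ Ns E) (h1 : qq (UA.ev 1) (UA.ev 0) ∈ E)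
    (h2 : qq (UA.ev 2) (UA.ev 1) ∈ E) : P0 m K ≤ E := by
  have i0 := l0 (n := m)
  have i1 := l1 (n := m) K
  have i2 := l2 (n := m) K
  have n1 := ne01 (n := m) (K := K)
  have n2 := ne02 (n := m) (K := K)
  have n3 := ne12 (n := m) (K := K)
  refine (base m K).toFW.genP _ fun v hv => ?_
  by_cases h : Li (UA.ev 0) v
  · obtain ⟨g, g1, g2⟩ := (base m K).toFW.w2 _ _ hv h
    obtain ⟨η, hη⟩ := (jobFQ m K).eta
    have p := ppr (K := K) i1 i2 n3 (star η)
    have e : TT (UA.ev 1 : Vn m K) = cm (qq (UA.ev 2) (UA.ev 1)) (EE (UA.ev 1) (star η • UA.ev (Fin.rev 2)) 0) := by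
      rw [EE_cm pp12.ok p.ok, hf_smul_right, hf_ev, if_pos rfl, star_star, mul_one, hη]
    rw [← g2, TT, ← Tc_conj pp01.r (star_one K), ← TT, e]
    exact cj_mem (hP (mem_PP.2 g1)) (cm_mem (hP (mem_PP.2
      (ac_EE_fix p.ok pp01.p (ppr i0 i2 n2 _).p))) h2)
  · obtain ⟨c, rfl⟩ := exists_smul_of_not_li (ev_ne 0) h
    obtain ⟨a, ha⟩ := (jobFQ m K).trs (nm c) (star_nm c)
    have p := ppr (K := K) i0 i1 n1 (star a)
    have e : TT (c • UA.ev 0 : Vn m K) =
        cm (qq (UA.ev 1) (UA.ev 0)) (EE (UA.ev 0) (star a • UA.ev (Fin.rev 1)) 0) := by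
      rw [EE_cm pp01.ok p.ok, hf_smul_right, hf_ev, if_pos rfl, star_star, mul_one, ha, TT, Tc_smul,
        mul_one]
    rw [e]
    exact cm_mem (hP (mem_PP.2 (ac_EE_self p.ok))) h1

theorem exists_d {a : K} (ha : a ≠ 0) : ∃ g : XU m K, ac g (UA.ev 0) = UA.ev 0 ∧
    ac g (UA.ev 1) = a • UA.ev 1 ∧ ac g (UA.ev (Fin.rev 0)) = UA.ev (Fin.rev 0) := by
  have i0 := l0 (n := m)
  have i1 := l1 (n := m) K
  have i2 := l2 (n := m) K
  have I := @ir m K _ _ _
  have n1 := ne01 (n := m) (K := K)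
  have n2 := ne02 (n := m) (K := K)
  have n3 := ne12 (n := m) (K := K)
  have hs : star a ≠ 0 := by simpa using ha
  obtain ⟨g, -, -, hg⟩ := (base m K).toFV.diag (fun i => (if i = 1 then a else 1) *
      (if i = Fin.rev 1 then (star a)⁻¹ else 1) * (if i = 2 then star a else 1) *
      (if i = Fin.rev 2 then a⁻¹ else 1)) (fun i => by
    simp only [Fin.rev_eq_iff, Fin.rev_rev, star_mul', apply_ite star, star_one, star_inv₀,
      star_star]
    split_ifs <;> field_simp) (by
    simp only [Finset.prod_mul_distrib, Finset.prod_ite_eq', Finset.mem_univ, if_true]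
    field_simp)
  refine ⟨g, funext fun i => ?_, funext fun i => ?_, funext fun i => ?_⟩
  · rw [hg, ev_apply]
    by_cases h : i = 0
    · subst h
      simp only [I i0 i1, I i0 i2, n1, n2, if_false, if_true, mul_one]
    · simp only [h, if_false, mul_zero]
  · rw [hg, Pi.smul_apply, ev_apply]
    by_cases h : i = 1
    · subst h; simp [I i1 i1, I i1 i2, n3]
    · simp [h]
  · rw [hg, ev_apply]
    by_cases h : i = Fin.rev 0
    · subst h
      simp only [(I i1 i0).symm, (I i2 i0).symm, Fin.rev_inj, n1, n2, if_false, if_true, mul_one]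
    · simp only [h, if_false, mul_zero]

theorem top (H : Subgroup (XU m K)) (hP : P0 m K ≤ H) (h1 : qq (UA.ev 1) (UA.ev (la m)) ∈ H) : H = ⊤ := by
  have i0 := l0 (n := m)
  have i1 := l1 (n := m) K
  have n1 := ne01 (n := m) (K := K)
  rw [eq_top_iff, ← (fP m K).top, sup_le_iff, SS_eq, closure_le]
  refine ⟨hP, ?_⟩
  rintro _ ⟨a, rfl | rfl⟩
  · have p : Pp (UA.ev (Fin.rev 1) : Vn m K) (a • UA.ev 0) := by
      simpa using ((ppr (K := K) i0 i1 n1 1).symm.smul_right a)
    exact hP (mem_PP.2 (ac_EE_fix p.ok (by simpa only [one_smul] using (ppr (K := K) i0 i1 n1 1).p)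
      (by rw [hf_smul_right, iso0, mul_zero])))
  · by_cases ha : a = 0
    · subst ha
      simp only [ss, qq, zero_smul, EE_zero]
      exact one_mem _
    obtain ⟨g, g0, g1, g2⟩ := exists_d (m := m) ha
    have p : Pp (UA.ev (Fin.rev 0) : Vn m K) (UA.ev 1) := by
      simpa using (ppr (K := K) i1 i0 n1.symm 1).symm
    have hg := hP (mem_PP.2 g0)
    have := mul_mem (mul_mem hg h1) (inv_mem hg)
    rwa [show la m = Fin.rev 0 from (Fin.rev_zero m).symm, qq, EE_conj p.ok, g1, g2] at this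

theorem jobNP : JobNP := fun m K _ _ _ _ _ =>
  ⟨np, top, (fP m K).SN (subset_closure ⟨1, Or.inr (by
    rw [ss, one_smul, show la m = Fin.rev 0 from (Fin.rev_zero m).symm])⟩)⟩

end H34.YuNP
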