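import Cfsg.Agent.H78.P6.H78_YUDef
import Cfsg.Agent.H54.SymTwo
import Cfsg.Agent.H57.Descent

namespace H35 end H35
open H35
namespace H67 end H67
open H67
namespace H67.P6 end H67.P6
open H67.P6
namespace H67.P6.H35 end H67.P6.H35
open H67.P6.H35
namespace H67.P6.H35.YUCL end H67.P6.H35.YUCL
open H67.P6.H35.YUCL
namespace H67.P6.H67 end H67.P6.H67
open H67.P6.H67
namespace H85.P6 end H85.P6
open H85.P6
namespace H85.P6.H35 end H85.P6.H35
open H85.P6.H35
namespace H85.P6.H35.YUCL end H85.P6.H35.YUCL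
open H85.P6.H35.YUCL
namespace H85.P6.H67 end H85.P6.H67
open H85.P6.H67
namespace H78.P6


/-! STD-SP (row S3129), endgame, unitary models: slot `CL`. -/

set_option autoImplicit false
set_option linter.unusedSectionVars false

namespace H35.YUCL

open H67 H67.UA H78.YU Matrix Module
open H67.SA (la)
open H59.UM (BB herm exists_ac isoL hf0L hfL0)

variable {m : ℕ} {K : Type} [Field K] [StarRing K] [CharP K 2] [Finite K] [Par m K]

instance charP_sa : CharP (selfAdjoint K) 2 :=
  RingHom.charP (R := selfAdjoint K) (A := K)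
    ⟨⟨⟨Subtype.val, rfl⟩, fun _ _ => rfl⟩, rfl, fun _ _ => rfl⟩ Subtype.val_injective 2

/-- `a` carries the conjugation to `y ↦ v ȳ`. -/
def Fr (v : XU m K) (a : Vn m K ≃ₗ[K] Vn m K) : Prop := ∀ y, ac v (br (a y)) = a (br y)
/-- All fixed vectors of `y ↦ v ȳ` are isotropic. -/
def Al (v : XU m K) : Prop := ∀ y, ac v (br y) = y → Iso y
/-- `F^(m+1) ≤ V` -/
def up (x : Fin (m + 1) → selfAdjoint K) : Vn m K := fun i => (x i).1

theorem br_up (x : Fin (m + 1) → selfAdjoint K) : br (up x) = up x := funext fun i => (x i).2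
theorem up_ev (j : Fin (m + 1)) : (up (Pi.single j 1) : Vn m K) = ev j := funext fun i => by
  rw [up, ev_apply, Pi.single_apply]; split_ifs <;> rfl

theorem lin_sum (f : Vn m K ≃ₗ[K] Vn m K) (y : Vn m K) : f y = ∑ j, y j • f (ev j) := by
  conv_lhs => rw [pi_eq_sum_univ' y]
  simp [map_sum, ev]

theorem frame {v : XU m K} (hv : v * ta m K v = 1) : ∃ a, Fr v a := by
  let T : Vn m K →+ Vn m K :=
    { toFun := fun y => ac v (br y)
      map_zero' := by simp
      map_add' := fun x y => by rw [br_add, ac_add] }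
  have hT : ∀ y, T y = ac v (br y) := fun _ => rfl
  have hs : ∀ (c : K) y, T (c • y) = sg K c • T y := fun c y => by
    rw [hT, hT, br_smul, ac_smul]; rfl
  obtain ⟨h, hh⟩ := H57.exists_gl_cols_mem (H57.span_fixed_eq_top (sg K)
    (orderOf_eq_prime (by rw [sq]; exact RingEquiv.ext fun a => star_star a) Q.sg_ne) two_pos T hs
    fun y => by
      change ac v (br (ac v (br y))) = y
      rw [← ac_ta, ← ac_mul, hv, ac_one, br_br])
  refine ⟨toLin'OfInv h.inv_mul h.mul_inv, fun y => ?_⟩
  rw [← hT, lin_sum _ y, lin_sum _ (br y), map_sum]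
  exact Finset.sum_congr rfl fun j _ => (hs _ _).trans (congrArg _ (hh j))

section Form

variable {v : XU m K} {a : Vn m K ≃ₗ[K] Vn m K} (h : Fr v a)
include h

theorem Fr.sym (x y : Fin (m + 1) → selfAdjoint K) :
    hf (a (up y)) (a (up x)) = hf (a (up x)) (a (up y)) := by
  rw [← hf_br, ← hf_ac v, h, h, br_up, br_up]

/-- the symmetric form on the fixed vectors -/
def Fr.fm : LinearMap.BilinForm (selfAdjoint K) (Fin (m + 1) → selfAdjoint K) :=
  LinearMap.mk₂ _ (fun x y => ⟨hf (a (up x)) (a (up y)), (star_hf _ _).trans (h.sym x y)⟩)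
    (fun x x' y => Subtype.ext (by
      change hf (a (up x + up x')) _ = _ + _
      rw [map_add, hf_add_left]))
    (fun c x y => Subtype.ext (by
      change hf (a (c.1 • up x)) _ = _ * _
      rw [map_smul, hf_smul_left]))
    (fun x y y' => Subtype.ext (by
      change hf _ (a (up y + up y')) = _ + _
      rw [map_add, hf_add_right]))
    (fun c x y => Subtype.ext (by
      change hf _ (a (c.1 • up y)) = _ * _
      rw [map_smul, hf_smul_right, c.2]))

theorem Fr.val (x y : Fin (m + 1) → selfAdjoint K) : (h.fm x y).1 = hf (a (up x)) (a (up y)) := rfl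

theorem Fr.symm (x y : Fin (m + 1) → selfAdjoint K) : h.fm x y = h.fm y x :=
  Subtype.ext (h.sym y x)

theorem Fr.nd : h.fm.Nondegenerate := by
  have k : ∀ x, (∀ y, h.fm y x = 0) → x = 0 := fun x hx => by
    have h1 : a (up x) = 0 := eq_of_hf fun z => by
      obtain ⟨z, rfl⟩ := a.surjective z
      rw [hf_zero_left]
      refine hf_symm ?_
      rw [← H59.UM.BB_apply, lin_sum a z, map_sum]
      refine Finset.sum_eq_zero fun j _ => ?_
      rw [map_smul, H59.UM.BB_apply, ← up_ev, ← h.val, hx]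
      simp
    exact funext fun i => Subtype.ext (congrFun (a.map_eq_zero_iff.1 h1) i)
  exact ⟨fun x hx => k x fun y => h.symm x y ▸ hx y, k⟩

theorem Fr.alt : h.fm.IsAlt ↔ Al v := by
  refine ⟨fun q y hy => ?_, fun q x => Subtype.ext (q _ (by rw [h, br_up]))⟩
  obtain ⟨z, rfl⟩ := a.surjective y
  rw [h] at hy
  exact congrArg Subtype.val (q fun i => ⟨z i, congrFun (a.injective hy) i⟩)

end Form

theorem cj {v w : XU m K} (hv : v * ta m K v = 1) (hw : w * ta m K w = 1) (hA : Al w ↔ Al v) :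
    ∃ g, v = g * w * (ta m K g)⁻¹ := by
  obtain ⟨a, ha⟩ := frame hv
  obtain ⟨b, hb⟩ := frame hw
  obtain ⟨φ, hφ⟩ := H54.exists_isometry_symm hb.nd hb.symm ha.nd ha.symm rfl
    (by rw [hb.alt, ha.alt, hA])
  let P : Matrix (Fin (m + 1)) (Fin (m + 1)) K := of fun i j => (φ (Pi.single j 1) i).1
  have hP : ∀ y, br (P *ᵥ y) = P *ᵥ br y := fun y => funext fun i => by
    simp only [br, mulVec, dotProduct, star_sum, star_mul', P, of_apply]
    exact Finset.sum_congr rfl fun j _ => by rw [(φ _ i).2]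
  let L : Vn m K →ₗ[K] Vn m K := a ∘ₗ toLin' P
  have hL : ∀ y, L y = a (P *ᵥ y) := fun _ => rfl
  have h1 : ∀ x y, hf (L x) (L y) = hf (b x) (b y) := fun x y => by
    have e : ((BB m K).comp L).compl₂ L = ((BB m K).comp (b : Vn m K →ₗ[K] Vn m K)).compl₂ b :=
      LinearMap.ext_basis (Pi.basisFun K _) (Pi.basisFun K _) fun i j => by
        have k : ∀ i, L (Pi.basisFun K _ i) = a (up (φ (Pi.single i 1))) := fun i => by
          rw [hL, Pi.basisFun_apply, mulVec_single_one]; rfl
        change hf (L _) (L _) = hf (b _) (b _)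
        rw [k, k, ← ha.val, hφ, hb.val, up_ev, up_ev, Pi.basisFun_apply, Pi.basisFun_apply]; rfl
    exact LinearMap.congr_fun₂ e y x
  have h2 : ∀ x y, hf ((L ∘ₗ b.symm.toLinearMap) x) ((L ∘ₗ b.symm.toLinearMap) y) = hf x y := fun x y => by simp [h1]
  let G := LinearEquiv.ofInjectiveEndo (L ∘ₗ b.symm.toLinearMap) fun x y e =>
    eq_of_hf fun z => by rw [← h2 x, e, h2]
  have hG : ∀ z, G (b z) = a (P *ᵥ z) := fun z =>
    (congrArg L (b.symm_apply_apply z)).trans (hL z)
  have h3 : ∀ y, ac v (br (G y)) = G (ac w (br y)) := fun y => by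
    obtain ⟨z, rfl⟩ := b.surjective y
    rw [hb, hG, hG, ha, hP]
  have hi : G ∈ H59.isom (BB m K) := fun x y => h2 y x
  have h4 := (herm m K).det_norm_one hi
  let M := LinearMap.toMatrix' (G : Vn m K →ₗ[K] Vn m K)
  have h5 : mt v * M.map (starRingEnd K) = M * mt w := Matrix.ext fun i j => by
    have := congrFun (h3 (ev j)) i
    rw [br_ev, lin_sum G (ac w _)] at this
    simp only [Finset.sum_apply, Pi.smul_apply, ac_ev, smul_eq_mul] at this
    simpa [ac, mulVec, dotProduct, br, mul_apply, M, ev, mul_comm, starRingEnd_apply] using this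
  have h6 := congrArg det h5
  rw [det_mul, det_mul, mt_det, mt_det, one_mul, mul_one, ← RingHom.mapMatrix_apply,
    ← RingHom.map_det, LinearMap.det_toMatrix', ← LinearEquiv.coe_det] at h6
  rw [h6] at h4
  obtain ⟨g, hg⟩ := exists_ac (g := G) ⟨hi, Units.ext (by
    have : ((LinearEquiv.det G : Kˣ) + 1 : K) ^ 2 = 0 := by
      linear_combination h4 + ((LinearEquiv.det G : Kˣ) + 1 : K) * two0 K
    rw [Units.val_one]
    linear_combination (pow_eq_zero_iff two_ne_zero).1 this - two0 K)⟩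
  refine ⟨g, eq_mul_inv_of_mul_eq (ac_ext fun y => ?_)⟩
  rw [← br_br y, ac_mul, ac_mul, ac_ta, hg, hg, h3]

theorem al_one (hm : Even (m + 1)) : Al (1 : XU m K) := fun y hy => by
  rw [ac_one] at hy
  have k : ∀ i, star (y i) = y i := congrFun hy
  refine Finset.sum_ninvolution Fin.rev (fun i => ?_) (fun i _ e => ?_) (by simp) (by simp)
  · rw [Fin.rev_rev, k, k, mul_comm, CharTwo.add_self_eq_zero]
  · obtain ⟨r, hr⟩ := hm
    have := i.2
    rw [Fin.ext_iff, Fin.val_rev] at e; omega

theorem not_al : ¬ Al (r0 m K) := fun q => by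
  obtain ⟨η, hη⟩ := Q.eta (K := K)
  have i0 : hf (ev 0 : Vn m K) (ev 0) = 0 := H59.UM.iso0
  have iL : hf (ev (la m) : Vn m K) (ev (la m)) = 0 := isoL
  have := q (ev (la m) + η • ev 0) (by
    rw [ac_Tc i0 (star_one K), br_add, br_smul, br_ev, br_ev, hf_add_left, hf_smul_left, hfL0, i0,
      add_assoc, ← add_smul]
    congr 2
    linear_combination hη - (η - 1) * two0 K)
  simp only [Iso, hf_add_left, hf_add_right, hf_smul_left, hf_smul_right, i0, iL, hf0L,
    hfL0] at this
  exact one_ne_zero (by linear_combination this - hη)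

omit [Par m K] in
theorem jobCL : H78.YU.JobCL := by
  intro m K _ _ _ _ _ v hv
  by_cases q : Al v
  · obtain ⟨a, ha⟩ := frame hv
    have e := H54.even_finrank_of_isAlt ha.nd (ha.alt.2 q)
    obtain ⟨g, hg⟩ := cj (w := 1) hv (by simp) (iff_of_true (al_one (by simpa using e)) q)
    exact ⟨g, Or.inl (by simpa using hg)⟩
  · have i0 : Iso (ev 0 : Vn m K) := H59.UM.iso0
    obtain ⟨g, hg⟩ := cj (w := r0 m K) hv (by
      rw [ta_EE (ok_zero i0 (star_one K)), br_ev, br_zero, star_one]
      exact Tc_mul_self i0 (star_one K)) (iff_of_false not_al q)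
    exact ⟨g, Or.inr hg⟩

end H35.YUCL
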