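import Cfsg.Agent.H78.P6.H78_YUDef
import Cfsg.Agent.H67.P6.H59_S3MU1

namespace H35 end H35
open H35
namespace H67 end H67
open H67
namespace H67.P6 end H67.P6
open H67.P6
namespace H67.P6.H35 end H67.P6.H35
open H67.P6.H35
namespace H67.P6.H35.YUG1 end H67.P6.H35.YUG1
open H67.P6.H35.YUG1
namespace H67.P6.H67 end H67.P6.H67
open H67.P6.H67
namespace H85.P6 end H85.P6
open H85.P6
namespace H85.P6.H35 end H85.P6.H35
open H85.P6.H35
namespace H85.P6.H35.YUG1 end H85.P6.H35.YUG1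
open H85.P6.H35.YUG1
namespace H85.P6.H67 end H85.P6.H67
open H85.P6.H67
namespace H78.P6


/-! STD-SP (row S3129), endgame, unitary models: slot `G1`. -/

set_option autoImplicit false
set_option linter.unusedSectionVars false

namespace H35.YUG1

open H67 H67.UA H64.YE H78.YU Subgroup
open H67.SP (Qx bc mid iv ins vx)
open H59.S3MU1 (key vx_add)

theorem jobG1 : JobG1 := by
  intro n F _ _ _ _ _ p b _ _ K _ _ _ _ x h f0 i1 f1 g0 η hη H hH hE
  have p0 := par0 n x h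
  have p1 := par1 n x h
  have t2 := two0 K
  have se : star η = η + 1 := by linear_combination hη - η * t2
  have mi : ∀ v : Vn n K, hf (ev (mid n)) (iv v) = 0 := fun v => hf_symm (i1.hm v)
  have o : ∀ v : Vn n K, Iso v → Ok (iv v) (ev (mid n)) η := fun v hv =>
    ⟨by rw [Iso, i1.hh, hv], mi v, by rw [i1.mm, hη]⟩
  have i0 : Iso (ev 0 : Vn n K) := ev_iso (by
    have := p.five
    rw [ne_eq, Fin.ext_iff, Fin.val_rev, Fin.val_zero]; omega)
  have cj : ∀ y : XU n K, ins n K y ∈ H → EE (iv (ac y (ev 0))) (ev (mid n)) η ∈ H := fun y hy => by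
    have := mul_mem (mul_mem hy hE) (inv_mem hy)
    rwa [← i1.e0, EE_conj (o _ i0), (i1.isIns y).1, (i1.isIns y).2] at this
  have hU : ∀ g, ins n K (iU n x h g) ∈ H := fun g => f1.sq g ▸ hH ⟨g, rfl⟩
  have hT : ∀ v : Vn n F, EE (iv (vx x.φ v)) (ev (mid n)) η ∈ H := fun v => by
    by_cases hv : v = 0
    · rw [hv, H59.S3MU1.vx_zero, H59.S3MU1.iv_zero, EE_zero_left]; exact one_mem H
    · obtain ⟨g, rfl⟩ := SP.FW.w1 v hv
      rw [← f0.ac, f0.ve]
      exact cj _ (hU g)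
  have iso : ∀ v : Vn n F, Iso (vx x.φ v) := fun v => by rw [Iso, f0.hv, SP.FV.iso v, map_zero]
  have hT1 : ∀ v : Vn n F, Tc 1 (iv (vx x.φ v)) ∈ H := fun v => by
    have := hU (Tc 1 v)
    rwa [f0.ee _ _ _ _ (ok_zero (SP.FV.iso v) (star_one F)), H59.S3MU1.vx_zero, map_one,
      i1.ee _ _ _ (ok_zero (iso v) (star_one K)), H59.S3MU1.iv_zero] at this
  have h01 : hf (ev 0 : Vn n F) (ev 1) = 0 := by
    have := p.five
    rw [hf_ev, if_neg]
    rw [Fin.ext_iff, Fin.val_rev, Fin.val_zero, Fin.val_one', Nat.mod_eq_of_lt (by omega)]; omega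
  have pp : Pp (vx x.φ (ev 0 : Vn n F)) (vx x.φ (ev 1)) := ⟨iso _, iso _, by rw [f0.hv, h01, map_zero]⟩
  have o2 : Ok (vx x.φ (ev 0 : Vn n F)) ((η + 1) • vx x.φ (ev 1)) 0 := by
    simpa using (pp.smul 1 (η + 1)).ok
  have hI : ∀ y, ins n K y ∈ H := fun y => by
    have := g0 (η + 1) (by rw [tr, star_add, star_one]; linear_combination hη + t2)
      (H.comap (ins n K)) (by rintro _ ⟨g, rfl⟩; exact hU g) (by
        rw [mem_comap, ← f0.ve n 0, ← f0.ve n 1, i1.ee _ _ _ o2, i1.smul,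
          ← key se ⟨(o _ pp.l).iso, (o _ pp.r).iso, by rw [i1.hh, pp.p]⟩ (mi _) (mi _) i1.mm,
          ← i1.add, ← vx_add]
        exact mul_mem (mul_mem (mul_mem (hT _) (hT _)) (hT _)) (mul_mem (hT1 _) (hT1 _)))
    exact mem_comap.1 (this ▸ mem_top y)
  have hY : ∀ y : Vn n K, y ≠ 0 → Iso y → EE (iv y) (ev (mid n)) η ∈ H := fun y hy hi => by
    obtain ⟨g, hg⟩ := (base n K).w1 y hy hi
    exact hg ▸ cj _ (hI g)
  have hX : ∀ y : Vn n K, Iso (iv y) → TT (iv y) ∈ H := fun y hy => by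
    rw [Iso, i1.hh] at hy
    have := hI (TT y)
    rwa [i1.ee _ _ _ (ok_zero hy (star_one K)), H59.S3MU1.iv_zero] at this
  refine (base (n + 1) K).genT H fun v hv => ?_
  obtain ⟨w, a, rfl⟩ := i1.dec v
  by_cases ha : a = 0
  · rw [ha, zero_smul, add_zero] at hv ⊢
    exact hX w hv
  have hw : w ≠ 0 := by
    rintro rfl
    rw [Iso, H59.S3MU1.iv_zero, zero_add, hf_smul_left, hf_smul_right, i1.mm] at hv
    exact ha (by simpa using hv)
  obtain ⟨i, hi⟩ := Function.ne_iff.1 hw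
  have ii : Iso (ev i.rev : Vn n K) := ev_iso (by
    obtain ⟨k, hk⟩ := p.odd
    have := i.2
    rw [Fin.rev_rev, ne_eq, Fin.ext_iff, Fin.val_rev]; omega)
  have iy := ii.smul (star (a / w i))
  have e1 : hf w (star (a / w i) • ev i.rev) = a := by
    rw [hf_smul_right, star_star, hf_ev_right, Fin.rev_rev, div_mul_cancel₀ _ hi]
  have hy : star (a / w i) • (ev i.rev : Vn n K) ≠ 0 := fun e => ha (by rw [← e1, e, hf_zero_right])
  generalize star (a / w i) • (ev i.rev : Vn n K) = y at iy e1 hy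
  have e2 : ac (EE (iv y) (ev (mid n)) η) (iv w + a • ev (mid n)) = iv (w + (a + η * a) • y) := by
    rw [ac_EE (o y iy)]
    simp only [hf_add_left, hf_smul_left, i1.hm, i1.mm, i1.hh, mi, e1, i1.add, i1.smul]
    ext j
    simp only [Pi.add_apply, Pi.smul_apply, smul_eq_mul]
    linear_combination a * ev (mid n) j * t2
  have h1 := hX _ (e2 ▸ hv.ac _)
  rw [← e2, TT, ← Tc_conj hv (star_one K)] at h1
  have h2 := hY y hy iy
  simpa [mul_assoc] using mul_mem (mul_mem (inv_mem h2) h1) h2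

end H35.YUG1
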