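import Cfsg.Agent.H78.P6.H78_YUDef

namespace H38 end H38
open H38
namespace H67 end H67
open H67
namespace H67.P6 end H67.P6
open H67.P6
namespace H67.P6.H38 end H67.P6.H38
open H67.P6.H38
namespace H67.P6.H38.YU end H67.P6.H38.YU
open H67.P6.H38.YU
namespace H67.P6.H67 end H67.P6.H67
open H67.P6.H67
namespace H85.P6 end H85.P6
open H85.P6
namespace H85.P6.H38 end H85.P6.H38
open H85.P6.H38
namespace H85.P6.H38.YU end H85.P6.H38.YU
open H85.P6.H38.YU
namespace H85.P6.H67 end H85.P6.H67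
open H85.P6.H67
namespace H78.P6


/-! STD-SP (row S3129), endgame, unitary models: square roots of root elements, odd dimension. -/

set_option autoImplicit false
set_option linter.unusedSectionVars false

namespace H38.YU

open H64.SG (O2 Syl Cz Cs Ns cjs Is2 Inv2 IsO2 fx)
open H67 H67.UA H64.YE Subgroup Matrix H78.YU H59.UM
open H67.SA (cm St la)
open H81.SU (rt rt_sq sq_inj)

variable {m : ℕ} {K : Type} [Field K] [StarRing K] [CharP K 2] [Finite K] [p : Par m K]

theorem witt_p {ι : Type} [Finite ι] {v w : ι → Vn m K} (hv : LinearIndependent K v)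
    (hw : LinearIndependent K w) (h : ∀ i j, hf (v i) (v j) = hf (w i) (w j)) (o : ι)
    (hp : ¬ Iso (v o)) :
    ∃ g : XU m K, (∀ i, hf (v i) (v o) = 0 → ac g (v i) = w i) ∧ ∃ c : K, ac g (v o) = c • w o := by
  obtain ⟨g, hg, h1⟩ := (herm m K).witt_family hv hw fun i j => h j i
  obtain ⟨g', hg', h2⟩ := (herm m K).exists_sisom_eq hg hp
  obtain ⟨x, hx⟩ := exists_ac hg'
  refine ⟨x, fun i hi => (hx _).trans ((h2 _ hi).trans (h1 i)), dual fun z hz => ?_⟩
  obtain ⟨z, rfl⟩ := g.surjective z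
  rw [← h1] at hz
  have h3 : hf z (v o) = 0 := (hg _ _).symm.trans hz
  rw [← h2 z h3, ← hx, hf_ac, h3]
  simp

theorem ac_sum {ι : Type} [Fintype ι] (g : XU m K) (c : ι → K) (f : ι → Vn m K) :
    ac g (∑ a, c a • f a) = ∑ a, c a • ac g (f a) :=
  (map_sum (lin m K g) _ _).trans (Finset.sum_congr rfl fun _ _ => ac_smul g _ _)

theorem hf_sum {ι : Type} [Fintype ι] (c : ι → K) (f : ι → Vn m K) {z : Vn m K}
    (h : ∀ a, hf (f a) z = 0) : hf (∑ a, c a • f a) z = 0 :=
  Finset.sum_induction _ (hf · z = 0) (fun a b h1 h2 => by rw [hf_add_left, h1, h2, add_zero])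
    (hf_zero_left z) fun a _ => by rw [hf_smul_left, h, mul_zero]

theorem ac_xk {j : ℕ} (hj : j ≤ m + 1) (h2 : 2 * j ≤ m + 1) (v : Vn m K) :
    ac (GA.xk (XU m K) j) v = v + ∑ a : Fin j, hf v (ev (a.rev.castLE hj)) • ev (a.castLE hj) := by
  funext i
  simp only [ac, UA.mt, FV.xk_val j h2, mulVec, dotProduct, SA.xk_apply, add_mul,
    Finset.sum_add_distrib, ite_mul, one_mul, zero_mul, Finset.sum_ite_eq, Finset.mem_univ, if_true,
    Pi.add_apply, Finset.sum_apply, Pi.smul_apply, ev_apply, hf_ev_right, smul_eq_mul, mul_ite,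
    mul_one, mul_zero]
  congr 1
  simp only [Fin.lt_def, Fin.ext_iff, Fin.val_castLE]
  by_cases c : i.val < j
  · refine (Finset.sum_eq_single ⟨m + 1 + i - j, by omega⟩ (fun b _ n => if_neg fun e =>
      n (Fin.ext (show b.val = m + 1 + i - j by omega))) (by simp)).trans
      (.trans ?_ (Finset.sum_eq_single ⟨i, c⟩ (fun b _ n =>
      if_neg fun e => n (Fin.ext e.symm)) (by simp)).symm)
    rw [if_pos (by simp only; omega), if_pos rfl]
    exact congrArg v (Fin.ext (by simp only [Fin.val_rev, Fin.val_castLE]; omega))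
  · exact (Finset.sum_eq_zero fun b _ => if_neg fun e => c e.2.1).trans
      (Finset.sum_eq_zero fun b _ => if_neg fun e : i.val = b.val => c (e ▸ b.2)).symm

theorem nf (hm : Even m) {l : XU m K} (hl : l * l = 1) : ∃ (j : ℕ) (f : Fin j → Vn m K),
    LinearIndependent K f ∧ (∀ a b, hf (f a) (f b) = 0) ∧
    (∀ v, ac l v = v + ∑ a, hf v (f a.rev) • f a) ∧ (2 * j < m ∨
      ∀ a c, Iso a → (∀ i, hf a (f i) = 0) → (∀ i, hf c (f i) = 0) → hf a c = 0) := by
  have := p.five
  by_cases h1 : l = 1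
  · exact ⟨0, Fin.elim0, linearIndependent_empty_type, fun a => a.elim0, fun v => by simp [h1],
      .inl (by omega)⟩
  obtain ⟨h, j, r, e⟩ := (iC m K).ic l ⟨hl, h1⟩
  replace r := (rg_iff.1 r).2
  have hj : j ≤ m + 1 := by omega
  obtain ⟨k, hk⟩ := hm
  have li := (H59.UM.li_ev (K := K) (Fin.castLE_injective hj)).map'
    (lin m K h⁻¹).toLinearMap (LinearEquiv.ker _)
  refine ⟨j, fun a => ac h⁻¹ (ev (a.castLE hj)), li, fun a b => ?_, fun v => ?_, ?_⟩
  · rw [hf_ac, hf_evv, if_neg (by simp only [Fin.val_castLE]; omega)]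
  · have := ac_xk hj r (ac h v)
    rw [← e, ac_mul, ac_mul, ac_inv_ac] at this
    rw [← ac_inv_ac h (ac l v), this, ac_add, ac_inv_ac, ac_sum]
    simp only [hf_ac_left]
  refine (lt_or_ge _ _).imp_right fun c a b ha h2 h3 => ?_
  have w : ∀ a : Vn m K, (∀ i : Fin j, hf a (ac h⁻¹ (ev (i.castLE hj))) = 0) → Wk (j + 1) (ac h a) :=
    fun a h2 i hi => by
    have := h2 ⟨m - i, by omega⟩
    rwa [← hf_ac_left, hf_ev_right, show Fin.rev _ = i from
      Fin.ext (by simp only [Fin.val_rev, Fin.val_castLE]; omega)] at this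
  have w1 := w a h2
  have i1 := ha.ac h
  rw [Iso, hf, Finset.sum_eq_single ⟨j, by omega⟩ (fun i _ n => ?_) (by simp),
    show Fin.rev _ = ⟨j, by omega⟩ from Fin.ext (by simp only [Fin.val_rev]; omega)] at i1
  · rw [← hf_ac h]
    refine Wk.perp (k := j) (fun i hi => ?_) (w b h3) (by omega)
    rcases hi.eq_or_lt with rfl | hi
    · simpa using i1
    · exact w1 i hi
  · rw [Ne, Fin.ext_iff] at n
    by_cases c : j + 1 ≤ i.val
    · rw [w1 i c, zero_mul]
    · rw [w1 i.rev (by simp only [Fin.val_rev] at n ⊢; omega), star_zero, mul_zero]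

theorem dg (i j k : Fin (m + 1)) (hk : k.rev = k) {b : K} (hb : nm b = 1) :
    ∃ (g : XU m K) (μ : K), nm μ = 1 ∧ ∀ a, ac g (ev a) = ((if a = i then μ else 1) *
      (if a = i.rev then μ else 1) * ((if a = j then μ else 1) * if a = j.rev then μ else 1) *
      if a = k then star b else 1) • ev a := by
  have h1 : nm (rt (rt b)) = 1 := sq_inj (sq_inj (by
    rw [mul_pow, ← star_pow, rt_sq, mul_pow, ← star_pow, rt_sq]
    simpa using hb))
  have h2 : nm (star b) = 1 := by rw [nm, star_star, mul_comm]; exact hb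
  have n1 : ∀ (P : Prop) [Decidable P] {c : K}, nm c = 1 → nm (if P then c else 1) = 1 :=
    fun P _ c h => by split_ifs <;> simp [h]
  have n2 : ∀ {c d : K}, nm c = 1 → nm d = 1 → nm (c * d) = 1 := fun h h' => by
    rw [nm, star_mul', mul_mul_mul_comm]; exact (congrArg₂ (· * ·) h h').trans (one_mul 1)
  obtain ⟨g, -, -, e⟩ := (base m K).diag (fun a => (if a = i then rt (rt b) else 1) *
      (if a = i.rev then rt (rt b) else 1) * ((if a = j then rt (rt b) else 1) *
      if a = j.rev then rt (rt b) else 1) * if a = k then star b else 1) (fun a => by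
    have := n2 (n2 (n2 (n1 (a = i) h1) (n1 (a = i.rev) h1))
      (n2 (n1 (a = j) h1) (n1 (a = j.rev) h1))) (n1 (a = k) h2)
    simp only [Fin.rev_eq_iff, Fin.rev_rev, hk]
    rwa [mul_comm (if a = i.rev then _ else _) (if a = i then _ else _),
      mul_comm (if a = j.rev then _ else _) (if a = j then _ else _)]) (by
    simp only [Finset.prod_mul_distrib, Finset.prod_ite_eq', Finset.mem_univ, if_true]
    rw [← sq (rt (rt b)), rt_sq, ← sq, rt_sq]
    exact hb)
  refine ⟨g, _, h1, fun a => funext fun c => ?_⟩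
  rw [e, Pi.smul_apply, ev_apply, smul_eq_mul]
  by_cases h : c = a
  · rw [h]
  · rw [if_neg h, mul_zero, mul_zero]

theorem key (hm : Even m) {l : XU m K} (hl : l * l = 1) {y : Vn m K} (l0 : ac l (ev 0) = ev 0)
    (l1 : ac l (ev (la m)) = ev (la m)) (l2 : ac l y = y) (y0 : hf y (ev 0) = 0)
    (y1 : hf y (ev (la m)) = 0) (y2 : hf y y = 1) (s : K) : ∃ g : XU m K, ac g (ev 0) = ev 0 ∧
      ta m K (g * l * g⁻¹) = g * l * g⁻¹ ∧ br (ac g (s • y)) = ac g (s • y) := by
  have := p.five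
  obtain ⟨j, f, li, f0, fl, hj⟩ := nf hm hl
  obtain ⟨k, hk⟩ := hm
  have fx : ∀ {v}, ac l v = v → ∀ a, hf v (f a) = 0 := fun {v} h a => by
    simpa using Fintype.linearIndependent_iff.1 li _ (add_eq_left.1 ((fl v).symm.trans h)) a.rev
  have a0 := fx l0
  have a1 := fx l1
  have a2 := fx l2
  have b0 := fun a => hf_symm (a0 a)
  have b1 := fun a => hf_symm (a1 a)
  have b2 := fun a => hf_symm (a2 a)
  have y3 := hf_symm y0
  have y4 := hf_symm y1
  have i0 : hf (ev 0 : Vn m K) (ev 0) = 0 := H59.UM.iso0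
  have i1 : hf (ev (la m) : Vn m K) (ev (la m)) = 0 := H59.UM.isoL
  have i2 : hf (ev 0 : Vn m K) (ev (la m)) = 1 := H59.UM.hf0L
  have i3 : hf (ev (la m) : Vn m K) (ev 0) = 1 := H59.UM.hfL0
  replace hj := hj.resolve_right fun h => one_ne_zero (i2.symm.trans (h _ _ i0 a0 a1))
  let t : Fin j ⊕ Fin 3 → Fin (m + 1) := Sum.elim (fun a => ⟨a + 1, by omega⟩) ![0, la m, ⟨k, by omega⟩]
  have t0 : ∀ a, (t (.inl a)).val = a + 1 := fun _ => rfl
  have t1 : (t (.inr 0)).val = 0 := rfl
  have t2 : (t (.inr 1)).val = m := rfl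
  have t3 : (t (.inr 2)).val = k := rfl
  obtain ⟨g, g1, c, g2⟩ := witt_p (v := Sum.elim f ![ev 0, ev (la m), y]) (w := fun i => ev (t i))
    (Fintype.linearIndependent_iff.2 fun c h => by
      simp only [Fintype.sum_sum_type, Fin.sum_univ_three, Sum.elim_inl, Sum.elim_inr,
        cons_val_zero, cons_val_one, cons_val] at h
      have c0 := congrArg (hf · (ev (la m))) h
      have c1 := congrArg (hf · (ev 0)) h
      have c2 := congrArg (hf · y) h
      simp only [hf_add_left, hf_smul_left, hf_sum _ _ b0, hf_sum _ _ b1, hf_sum _ _ b2, i0, i1, i2,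
        i3, y0, y1, y2, y3, y4, mul_zero, mul_one, zero_add, add_zero, hf_zero_left] at c0 c1 c2
      rw [c0, c1, c2, zero_smul, zero_smul, zero_smul, add_zero, add_zero, add_zero] at h
      rintro (a | a)
      · exact Fintype.linearIndependent_iff.1 li _ h a
      · fin_cases a <;> assumption)
    (H59.UM.li_ev (by
      rintro (a | a) (b | b) e <;> (try fin_cases a) <;> (try fin_cases b) <;>
        replace e := congrArg Fin.val e <;> simp only [Fin.zero_eta, Fin.mk_one, Fin.reduceFinMk,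
          t0, t1, t2, t3] at e <;> first | rfl | omega | exact congrArg _ (Fin.ext (by omega))))
    (by
      rintro (a | a) (b | b) <;> rw [hf_evv] <;> (try fin_cases a) <;> (try fin_cases b) <;>
        simp only [Fin.zero_eta, Fin.mk_one, Fin.reduceFinMk, t0, t1, t2, t3, Sum.elim_inl,
          Sum.elim_inr, cons_val_zero, cons_val_one, cons_val, f0, a0, a1, a2, b0, b1, b2, i0, i1,
          i2, i3, y0, y1, y2, y3, y4] <;> split_ifs <;> first | rfl | omega)
    (.inr 2) fun h => one_ne_zero (y2.symm.trans h)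
  replace g2 : ac g y = c • ev (t (.inr 2)) := g2
  obtain ⟨b, hb, e⟩ := FQ.dec (s * c)
  obtain ⟨d, μ, hμ, hd⟩ := dg ⟨1, by omega⟩ ⟨max j 1, by omega⟩ (t (.inr 2))
    (Fin.ext (by rw [Fin.val_rev, t3]; omega)) hb
  simp only [Fin.ext_iff, Fin.val_rev, t3] at hd
  have d1 : ∀ a : Fin j, ac (d * g) (f a) = ((if a.val = 0 then μ else 1) *
      if a.val + 1 = j then μ else 1) • ev (t (.inl a)) := fun a => by
    rw [ac_mul, show ac g (f a) = _ from g1 (.inl a) (b2 a), hd, t0, if_neg (c := a + 1 = k) (by omega),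
      if_neg (c := a + 1 = m + 1 - (1 + 1)) (by omega),
      if_neg (c := a + 1 = m + 1 - (max j 1 + 1)) (by omega), mul_one, mul_one, mul_one]
    congr 2 <;> exact if_congr (by omega) rfl rfl
  have d2 : ∀ v, ac (d * g * l * (d * g)⁻¹) v =
      v + ∑ a : Fin j, hf v (ev (t (.inl a.rev))) • ev (t (.inl a)) := fun v => by
    rw [ac_mul, ac_mul _ l, fl, ac_add, ac_ac_inv, ac_sum]
    refine congrArg _ (Finset.sum_congr rfl fun a _ => ?_)
    rw [hf_ac_left, inv_inv, d1, d1, hf_smul_right, smul_smul, Fin.val_rev,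
      if_congr (show j - (a + 1) = 0 ↔ a + 1 = j by omega) rfl rfl,
      if_congr (show j - (a + 1) + 1 = j ↔ a.val = 0 by omega) rfl rfl]
    congr 1
    have : star μ * μ = 1 := (mul_comm _ _).trans hμ
    split_ifs <;> simp only [star_mul', star_one] <;> grind
  refine ⟨d * g, ?_, ac_ext fun v => ?_, ?_⟩
  · rw [ac_mul, show ac g (ev 0) = ev 0 from g1 (.inr 0) y3, hd, Fin.val_zero, if_neg (by omega),
      if_neg (by omega), if_neg (by omega), if_neg (by omega), if_neg (by omega)]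
    simp
  · rw [← br_br v, ac_ta, d2, d2, br_add]
    congr 1
    funext i
    simp only [br, Finset.sum_apply, Pi.smul_apply, smul_eq_mul, star_sum, star_mul', hf_ev_right,
      ev_apply, apply_ite star, star_one, star_zero]
  · rw [ac_mul, ac_smul, g2, smul_smul, ac_smul, hd, t3, if_neg (by omega), if_neg (by omega),
      if_neg (by omega), if_neg (by omega), if_pos rfl, smul_smul, br_smul, br_ev, e, one_mul,
      one_mul, one_mul, mul_assoc (rt _), show b * star b = 1 from hb, mul_one, FQ.star_rt, star_nm]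

theorem jobS1 : JobS1 := by
  intro m K _ _ _ _ _ R S hm u hu h1 h2
  obtain ⟨y, d, l, ok, y1, y2, rfl, hl, l0, l1, l2⟩ := S u hu h1 h2
  obtain ⟨s, hs⟩ := exists_nm (star_hf y y)
  have s0 : s ≠ 0 := by rintro rfl; exact y2 (by simp [← hs])
  obtain ⟨g, g0, g1, g2⟩ := key hm hl (y := s⁻¹ • y) l0 l1 (by rw [ac_smul, l2])
    (by rw [hf_smul_left, ok.perp, mul_zero]) (by rw [hf_smul_left, y1, mul_zero])
    (by
      have := star_ne_zero.2 s0
      rw [hf_smul_left, hf_smul_right, ← hs, nm, star_inv₀]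
      field_simp) s
  rw [smul_inv_smul₀ s0] at g2
  have g3 : ac g⁻¹ (ev 0) = ev 0 := by rw [← g0, ac_inv_ac, g0]
  have o1 := ok.ac g
  rw [g0] at o1
  have e : g * (EE (ev 0) y d * l) * g⁻¹ = EE (ev 0) (ac g y) d * (g * l * g⁻¹) := by
    rw [← g0, ← EE_conj ok, g0]; group
  refine ⟨g⁻¹, (R.cz _).2 ⟨1, by simp, by rw [g3, one_smul]⟩, (FV.mem_Z _).2
    ⟨hf y y, star_hf y y, ?_⟩⟩
  rw [← g3, ← Tc_conj H59.UM.iso0 (star_hf y y), g3]
  calc _ = g⁻¹ * (ta m K (g * (EE (ev 0) y d * l) * g⁻¹) * (g * (EE (ev 0) y d * l) * g⁻¹)⁻¹) * g⁻¹⁻¹ := by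
        simp [tw, mul_assoc]
    _ = _ := by
      rw [e, map_mul, g1, ta_EE o1, br_ev, g2, _root_.mul_inv_rev, mul_assoc (EE _ _ _),
        mul_inv_cancel_left, EE_inv o1, EE_mul o1.star o1.star, v_add_self, CharTwo.add_self_eq_zero,
        zero_add, hf_ac]

end H38.YU
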