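import Cfsg.Agent.H78.P6.H78_YUDef

namespace H49 end H49
open H49
namespace H67 end H67
open H67
namespace H67.P6 end H67.P6
open H67.P6
namespace H67.P6.H49 end H67.P6.H49
open H67.P6.H49
namespace H67.P6.H49.YUHB end H67.P6.H49.YUHB
open H67.P6.H49.YUHB
namespace H67.P6.H67 end H67.P6.H67
open H67.P6.H67
namespace H85.P6 end H85.P6
open H85.P6
namespace H85.P6.H49 end H85.P6.H49
open H85.P6.H49
namespace H85.P6.H49.YUHB end H85.P6.H49.YUHB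
open H85.P6.H49.YUHB
namespace H85.P6.H67 end H85.P6.H67
open H85.P6.H67
namespace H78.P6


/-! STD-SP endgame, unitary models, slot HB. -/

set_option autoImplicit false
set_option linter.unusedSectionVars false

namespace H49.YUHB

open H64.SG (O2 Syl Cz Cs Ns cjs Is2 Inv2 IsO2 fx)
open H67 H67.UA H64.YE H78.YU Subgroup
open H67.SA (cm St la)
open H59.UM (exists_tr)

variable {m : ℕ} {K : Type} [Field K] [StarRing K] [CharP K 2] [Finite K] [Par m K]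

theorem fix_TT {v : Vn m K} (h : Pp (ev 0) v) : ac (TT v) (ev 0) = ev 0 := by
  rw [ac_Tc h.r (star_one K), h.p]; simp

theorem ok_smul {z : Vn m K} (h : Pp (ev 0) z) (a : K) : Ok (ev 0) (a • z) (nm a) :=
  ⟨h.l, by rw [hf_smul_left, h.symm.p, mul_zero], by
    rw [tr_eq_zero.2 (star_nm a)]; exact (h.r.smul a).symm⟩

theorem cm_TT {z y : Vn m K} {c : K} (h : Pp (ev 0) z) (o : Ok (ev 0) y c) :
    cm (TT z) (EE (ev 0) y c) = EE (ev 0) (hf y z • z) (nm (hf y z)) := by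
  have o' := o.ac (TT z)
  rw [cm, EE_conj o, EE_inv o]
  rw [fix_TT h] at o' ⊢
  rw [EE_mul o' o.star, ac_Tc h.r (star_one K), one_mul, add_right_comm, v_add_self, zero_add,
    hf_add_right, hf_smul_right, ← o.tr]
  congr 1
  simp only [tr, nm]
  linear_combination (c + star c) * two0 K

theorem mem_Z0 {y : Vn m K} {d : K} (o : Ok (ev 0) y d) :
    EE (ev 0) y d ∈ Z0 m K ↔ ∃ a : K, y = a • ev 0 := by
  rw [FV.mem_Z]
  constructor
  · rintro ⟨c, hc, e⟩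
    obtain ⟨a, h, -⟩ := EE_inj (ev_ne 0) (ok_zero iso0 hc) o e.symm
    exact ⟨a, by simpa using h⟩
  · rintro ⟨a, rfl⟩
    refine ⟨d + tr a, ?_, by simpa using EE_shift a (ev 0 : Vn m K) 0 d⟩
    rw [star_add, star_tr, tr_eq_zero.1 (o.tr.trans (iso0.smul a))]

theorem root_U (R : R0 m K) {d : XU m K} (hd : d ∈ U0 m K) (h : IsConj (r0 m K) d) :
    ∃ v, Pp (ev 0) v ∧ d = TT v := by
  obtain ⟨v, v0, hv, rfl⟩ := (R.rt d).1 h
  have e : ac (TT v) (ev 0) = ev 0 := GA.FB.UP hd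
  rw [ac_Tc hv (star_one K), one_mul, add_eq_left, smul_eq_zero] at e
  exact ⟨v, ⟨iso0, hv, e.resolve_right v0⟩, rfl⟩

theorem prod_Z {v w y y' : Vn m K} {c c' : K} (h : Pp (ev 0) v) (h' : Pp (ev 0) w)
    (o : Ok (ev 0) y c) (o' : Ok (ev 0) y' c') :
    cm (TT v) (EE (ev 0) y c) * (cm (TT w) (EE (ev 0) y' c'))⁻¹ ∈ Z0 m K ↔
      ∃ b : K, hf y v • v + hf y' w • w = b • ev 0 := by
  rw [cm_TT h o, cm_TT h' o', EE_inv (ok_smul h' _), EE_mul (ok_smul h _) (ok_smul h' _).star,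
    mem_Z0 ((ok_smul h _).add (ok_smul h' _).star)]

theorem jobHB : JobHB := by
  intro m K _ _ _ _ _ R
  refine ⟨GA.FB.UP.trans (FW.genP _ fun v hv => ?_), fun d₁ h₁ d₂ h₂ c₁ c₂ hx x hq => ?_⟩
  · by_cases v0 : v = 0
    · rw [v0, TT, Tc, EE_zero_left]; exact one_mem _
    · exact subset_closure ⟨GA.FB.PZ (fix_TT hv), (R.rt _).2 ⟨v, v0, hv.r, rfl⟩⟩
  obtain ⟨v, hv, rfl⟩ := root_U R h₁ c₁
  obtain ⟨w, hw, rfl⟩ := root_U R h₂ c₂
  obtain ⟨x₀, q₀, x₁, q₁, n₀, e⟩ := hx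
  obtain ⟨y₀, a₀, o₀, rfl⟩ := (FV.mem_Q _).1 q₀
  obtain ⟨y₁, a₁, o₁, rfl⟩ := (FV.mem_Q _).1 q₁
  obtain ⟨y, a, o, rfl⟩ := (FV.mem_Q _).1 hq
  obtain ⟨b, hb⟩ := (prod_Z hv hw o₀ o₁).1 e
  have ne : hf y₀ v ≠ 0 := fun k => n₀ (by
    rw [cm_TT hv o₀, mem_Z0 (ok_smul hv _), k]; exact ⟨0, by simp⟩)
  obtain ⟨c, hc⟩ := exists_tr (star_hf ((hf y v / hf y₀ v) • y₁) ((hf y v / hf y₀ v) • y₁))
  have o' : Ok (ev 0) ((hf y v / hf y₀ v) • y₁) c :=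
    ⟨iso0, by rw [hf_smul_left, o₁.perp, mul_zero], hc⟩
  refine ⟨_, (FV.mem_Q _).2 ⟨_, c, o', rfl⟩, (prod_Z hv hw o o').2 ⟨hf y v / hf y₀ v * b, ?_⟩⟩
  rw [mul_smul, ← hb, hf_smul_left, smul_add, smul_smul, smul_smul, div_mul_cancel₀ _ ne]

end H49.YUHB
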