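/- Tower YU: the job QN. -/
import Cfsg.Agent.H78.P6.H78_YUDef

namespace H52 end H52
open H52
namespace H67 end H67
open H67
namespace H67.P6 end H67.P6
open H67.P6
namespace H67.P6.H52 end H67.P6.H52
open H67.P6.H52
namespace H67.P6.H52.YUQN end H67.P6.H52.YUQN
open H67.P6.H52.YUQN
namespace H67.P6.H67 end H67.P6.H67
open H67.P6.H67
namespace H85.P6 end H85.P6
open H85.P6
namespace H85.P6.H52 end H85.P6.H52
open H85.P6.H52
namespace H85.P6.H52.YUQN end H85.P6.H52.YUQN
open H85.P6.H52.YUQN
namespace H85.P6.H67 end H85.P6.H67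
open H85.P6.H67
namespace H78.P6


set_option autoImplicit false

namespace H52.YUQN

open H67 H67.UA H78.YU
open H67.SA (cm)

theorem jobQN : JobQN := by
  intro m K _ _ _ _ _ x hx hz
  obtain ⟨y, c, hok, rfl⟩ := (FV.mem_Q x).1 hx
  have hex : ∃ z, Pp (ev 0) z ∧ hf y z ≠ 0 := by
    by_contra hn
    push Not at hn
    obtain ⟨a, rfl⟩ := (base m K).toFW.dual (ev 0) y (ev_ne 0) fun w hw => by
      have := (base m K).toFW.span (ev 0) hok.iso (fun z => hf y z = 0) hn
        (fun _ _ _ _ h1 h2 => by rw [hf_add_right, h1, h2, add_zero]) w hw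
      rw [hf_symm this]; simp
    refine hz ((FV.mem_Z _).2 ⟨c + tr a, ?_, ?_⟩)
    · have := hok.tr
      rw [show hf (a • ev 0 : Vn m K) (a • ev 0) = 0 from hok.iso.smul a, tr_eq_zero] at this
      rw [star_add, this, star_tr]
    · have := EE_shift a (ev 0 : Vn m K) 0 c
      rwa [zero_add] at this
  obtain ⟨z, hp, hne⟩ := hex
  refine ⟨z, hf y z, hp, ?_, hne, ?_⟩
  · intro a b h
    have h1 : hf y (a • ev 0 + b • z) = 0 := by rw [h, hf_zero_right]
    rw [hf_add_right, hf_smul_right, hf_smul_right, hok.perp, mul_zero, zero_add,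
      mul_eq_zero, star_eq_zero] at h1
    have hb : b = 0 := h1.resolve_right hne
    rw [hb, zero_smul, add_zero, smul_eq_zero] at h
    exact ⟨h.resolve_right (ev_ne 0), hb⟩
  · have e0 : ac (H67.UA.TT z) (ev 0) = ev 0 := by
      rw [ac_Tc hp.r (star_one K), hp.p, mul_zero, zero_smul, add_zero]
    have e1 : ac (H67.UA.TT z) y = y + hf y z • z := by rw [ac_Tc hp.r (star_one K), one_mul]
    have hok' := hok.ac (H67.UA.TT z)
    rw [e0, e1] at hok'
    rw [cm, EE_conj hok, e0, e1, EE_inv hok, EE_mul hok' hok.star, add_right_comm y, v_add_self,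
      zero_add, hf_add_right, hf_smul_right, ← add_assoc, show c + star c = hf y y from hok.tr,
      CharTwo.add_self_eq_zero, zero_add, mul_comm]

end H52.YUQN
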