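import Cfsg.Agent.H78.P6.H78_S2Def

namespace H54 end H54
open H54
namespace H85.P6 end H85.P6
open H85.P6
namespace H85.P6.H54 end H85.P6.H54
open H85.P6.H54
namespace H85.P6.H54.S2 end H85.P6.H54.S2
open H85.P6.H54.S2
namespace H78.P6


/-! STD-SP (row S3129), chapter II, slot A0: the facts on `C(t)`. -/

set_option autoImplicit false
set_option linter.unusedSectionVars false

namespace H54.S2

open H67.UA hiding Par
open H67.SP H78.S2
open H59.SO (Ind exists_ind ind_conj_iff)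
open H64.SG (mem_Cz)

universe u

theorem jobA0 : JobA0.{u} := by
  intro n F _ _ _ _ _ _ G _ _ e t _ _ h m
  have ind : ∀ g, g * t = t * g → ∃ β, Ind e g β := fun g hg =>
    exists_ind h.inj (h.cz (mem_Cz.2 hg.symm))
  have fin : ∀ g s, g * t = t * g → Ind e g (MulAut.conj s) → Te e t g s :=
    fun g s hg hs => (h.ck _ (Subgroup.mul_mem _ (mem_Cz.2 hg.symm)
      (Subgroup.inv_mem _ (h.toB1.mem_Cz s))) (ind_conj_iff.1 hs)).imp
      mul_inv_eq_one.1 mul_inv_eq_iff_eq_mul.1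
  have fx : ∀ g β p, Ind e g β → g * e p = e p * g → β p = p := fun g β p hβ hp =>
    h.inj (by rw [← hβ p, hp, mul_inv_cancel_right])
  refine ⟨h.inj, h.inv.1, h.toB1.comm, fun g hg => h.toB1.not_mem FA.ns ⟨g, hg.symm⟩,
    fun g hg => ?_, fun g hg => ?_, fun g u hg hu => ?_, fun g x x' hg h0 hl hp => ?_,
    fun g u hg hu hp => ?_⟩
  · rcases hg with rfl | hg
    · rw [map_one, isConj_one_left]; exact h.inv.2
    · exact (ab h.toCE.b0).nr g hg
  · obtain ⟨w, hw, -⟩ := m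
    obtain ⟨a, rfl⟩ := isConj_iff.1 ((FR.sr g).1 hg)
    refine (isConj_iff.2 ⟨w, hw⟩).trans (isConj_iff.2 ⟨e a, ?_⟩)
    rw [← mul_assoc, ← h.toB1.comm, map_mul, map_mul, map_inv]; group
  · obtain ⟨β, hβ⟩ := ind g hg
    exact ⟨β u, (FA.cls β u).1 hu, hβ u⟩
  · obtain ⟨β, hβ⟩ := ind g hg
    obtain ⟨a, b, c, rfl⟩ := H54.SPI.c2 β x x' h0 hl fun p a b => fx g β p hβ (hp p a b)
    exact ⟨a, b, c, fin g _ hg hβ⟩
  · obtain ⟨β, hβ⟩ := ind g hg
    obtain ⟨k, rfl⟩ := FW.w1 u hu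
    obtain ⟨ζ, hζ, e1⟩ := FC.cQ ((MulAut.conj k)⁻¹ * β * MulAut.conj k) fun s hs => by
      obtain ⟨x, c, hx, rfl⟩ := (FV.mem_Qv _ _).1 hs
      rw [MulAut.mul_apply, MulAut.mul_apply, MulAut.conj_apply, EE_conj (FV.ok _ _ _ hx),
        fx g β _ hβ (hp _ _ (by rw [hf_ac, hx])), ← EE_conj (FV.ok _ _ _ hx), MulAut.conj_inv_apply]
      group
    obtain ⟨x, c, hx, rfl⟩ := (FV.mem_Qv _ _).1 hζ
    refine ⟨ac k x, c, by rw [hf_ac, hx], fin g _ hg ?_⟩
    rwa [← EE_conj (FV.ok _ _ _ hx), map_mul, map_mul, map_inv, ← e1, ← mul_assoc, ← mul_assoc,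
      mul_inv_cancel, one_mul, mul_inv_cancel_right]

end H54.S2
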