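import Cfsg.Agent.H78.P6.H78_YUDef

namespace H57 end H57
open H57
namespace H67 end H67
open H67
namespace H67.P6 end H67.P6
open H67.P6
namespace H67.P6.H57 end H67.P6.H57
open H67.P6.H57
namespace H67.P6.H57.YUHA end H67.P6.H57.YUHA
open H67.P6.H57.YUHA
namespace H67.P6.H67 end H67.P6.H67
open H67.P6.H67
namespace H85.P6 end H85.P6
open H85.P6
namespace H85.P6.H57 end H85.P6.H57
open H85.P6.H57
namespace H85.P6.H57.YUHA end H85.P6.H57.YUHA
open H85.P6.H57.YUHA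
namespace H85.P6.H67 end H85.P6.H67
open H85.P6.H67
namespace H78.P6


/-! STD-SP (row S3129), slot `YU-HA`: a conjugate of a transvection acting on `Q / Z`. -/

set_option autoImplicit false
set_option linter.unusedSectionVars false

namespace H57.YUHA

open H64.SG (O2 Syl Cz Cs Ns cjs Is2 Inv2 IsO2 fx)
open H67 H67.UA H64.YE Subgroup H78.YU
open H67.SA (cm St la)
open H59.SO (AutOn)

variable {m : ℕ} {K : Type} [Field K] [StarRing K] [CharP K 2] [Finite K] [Par m K]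

/-- `y` is a multiple of `e₀` -/
def Ke (y : Vn m K) : Prop := ∃ a : K, y = a • ev 0
/-- `y` is a vector of `x ∈ Q` -/
def Rv (x : XU m K) (y : Vn m K) : Prop := ∃ c, Ok (ev 0) y c ∧ x = EE (ev 0) y c

theorem ke_zero : Ke (0 : Vn m K) := ⟨0, (zero_smul _ _).symm⟩
theorem Ke.add {y y' : Vn m K} (h : Ke y) (h' : Ke y') : Ke (y + y') := by
  obtain ⟨a, rfl⟩ := h
  obtain ⟨b, rfl⟩ := h'
  exact ⟨a + b, (add_smul _ _ _).symm⟩
theorem Ke.smul {y : Vn m K} (h : Ke y) (b : K) : Ke (b • y) := by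
  obtain ⟨a, rfl⟩ := h
  exact ⟨b * a, smul_smul _ _ _⟩
theorem Ke.of_smul {y : Vn m K} {b : K} (hb : b ≠ 0) (h : Ke (b • y)) : Ke y := by
  have := h.smul b⁻¹
  rwa [smul_smul, inv_mul_cancel₀ hb, one_smul] at this

theorem mem_Q {x : XU m K} : x ∈ Q0 m K ↔ ∃ y, Rv x y := FV.mem_Q x
theorem Rv.mem {x : XU m K} {y : Vn m K} (h : Rv x y) : x ∈ Q0 m K := mem_Q.2 ⟨y, h⟩
theorem Rv.perp {x : XU m K} {y : Vn m K} (h : Rv x y) : hf y (ev 0) = 0 := h.choose_spec.1.perp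
theorem Rv.mul {x x' : XU m K} {y y' : Vn m K} (h : Rv x y) (h' : Rv x' y') :
    Rv (x * x') (y + y') := by
  obtain ⟨c, o, rfl⟩ := h
  obtain ⟨c', o', rfl⟩ := h'
  exact ⟨_, o.add o', EE_mul o o'⟩
theorem Rv.inv {x : XU m K} {y : Vn m K} (h : Rv x y) : Rv x⁻¹ y := by
  obtain ⟨c, o, rfl⟩ := h
  exact ⟨_, o.star, EE_inv o⟩
theorem Rv.conj {x g : XU m K} {y : Vn m K} (h : Rv x y) (hg : ac g (ev 0) = ev 0) :
    Rv (g * x * g⁻¹) (ac g y) := by
  obtain ⟨c, o, rfl⟩ := h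
  have := o.ac g
  rw [hg] at this
  exact ⟨c, this, by rw [EE_conj o, hg]⟩
theorem exists_rv {y : Vn m K} (h : hf y (ev 0) = 0) : ∃ x, Rv x y := by
  obtain ⟨c, hc⟩ := H59.UM.exists_tr (star_hf y y)
  exact ⟨_, c, ⟨iso0, h, hc⟩, rfl⟩
theorem Rv.shift {x : XU m K} {y y' : Vn m K} (h : Rv x y) (k : Ke (y + y')) : Rv x y' := by
  obtain ⟨c, o, rfl⟩ := h
  obtain ⟨a, ha⟩ := k
  have e : y' = y + a • ev 0 := by rw [← ha, ← add_assoc, v_add_self, zero_add]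
  subst e
  refine ⟨c + tr a, ⟨iso0, by rw [hf_add_left, hf_smul_left, o.perp, iso0]; simp, ?_⟩, ?_⟩
  · have h1 := o.tr
    have h2 := tr_tr a
    simp only [hf_add_left, hf_add_right, hf_smul_left, hf_smul_right, o.perp, hf_symm o.perp,
      show hf (ev 0 : Vn m K) (ev 0) = 0 from iso0, tr, star_add] at h1 h2 ⊢
    linear_combination h1 + h2
  · rw [EE_shift, add_assoc, CharTwo.add_self_eq_zero, add_zero]
theorem Rv.mem_Z {x : XU m K} {y : Vn m K} (h : Rv x y) : x ∈ Z0 m K ↔ Ke y := by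
  constructor
  · intro hz
    obtain ⟨d, hd, e⟩ := (FV.mem_Z x).1 hz
    obtain ⟨c, o, rfl⟩ := h
    obtain ⟨a, ha, -⟩ := EE_inj (ev_ne 0) (ok_zero iso0 hd) o e.symm
    exact ⟨a, by rw [ha, zero_add]⟩
  · intro k
    obtain ⟨c, o, rfl⟩ := h.shift (y' := 0) (by rwa [add_zero])
    exact (FV.mem_Z _).2 ⟨c, tr_eq_zero.1 (by simpa using o.tr), rfl⟩
theorem Rv.uniq {x : XU m K} {y y' : Vn m K} (h : Rv x y) (h' : Rv x y') : Ke (y + y') :=
  (h.mul h'.inv).mem_Z.1 (by rw [mul_inv_cancel]; exact one_mem _)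
theorem Rv.cm {x g : XU m K} {y : Vn m K} (h : Rv x y) (hg : ac g (ev 0) = ev 0) :
    Rv (cm g x) (ac g y + y) := (h.conj hg).mul h.inv

theorem ac_TT {w : Vn m K} (h : Iso w) (y : Vn m K) : ac (TT w) y = y + hf y w • w := by
  rw [ac_Tc h (star_one _), one_mul]
theorem fix0 {w : Vn m K} (h : Iso w) (h0 : hf w (ev 0) = 0) {c : K} (hc : star c = c) :
    ac (Tc c w) (ev 0) = ev 0 := by
  rw [ac_Tc h hc, hf_symm h0]; simp
theorem mem_Cs (r : R0 m K) {g : XU m K} (h : ac g (ev 0) = ev 0) : g ∈ Cs (Z0 m K) :=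
  (r.cz g).2 ⟨1, by simp, by rw [h, one_smul]⟩

/-- A vector outside `K e₀` takes the value `1` on `e₀^⊥`. -/
theorem ex1 {w : Vn m K} (h : ¬ Ke w) : ∃ y, hf y (ev 0) = 0 ∧ hf y w = 1 := by
  by_contra hn
  refine h (H59.UM.dual fun y hy => ?_)
  by_cases h1 : hf y w = 0
  · simp [h1]
  · exact (hn ⟨(hf y w)⁻¹ • y, by rw [hf_smul_left, hy, mul_zero],
      by rw [hf_smul_left, inv_mul_cancel₀ h1]⟩).elim

theorem TT_mem_Z {w : Vn m K} (h : Iso w) (hz : TT w ∈ Z0 m K) : Ke w := by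
  by_contra hn
  obtain ⟨c, hc, e⟩ := (FV.mem_Z _).1 hz
  obtain ⟨y, h0, h1⟩ := ex1 hn
  have := congrArg (ac · y) e
  simp only [ac_TT h, ac_Tc iso0 hc, h0, h1, mul_zero, zero_smul, one_smul, add_right_inj] at this
  exact hn (this ▸ ke_zero)

/-- The roots in `C(Z) ∖ Z`. -/
theorem root_form (r : R0 m K) {d : XU m K} (h1 : d ∈ Cs (Z0 m K)) (h2 : IsConj (r0 m K) d)
    (h3 : d ∉ Z0 m K) : ∃ v, Iso v ∧ hf v (ev 0) = 0 ∧ ¬ Ke v ∧ d = TT v := by
  obtain ⟨v, -, hv, rfl⟩ := (r.rt d).1 h2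
  have k : ¬ Ke v := by
    rintro ⟨a, rfl⟩
    exact h3 ((FV.mem_Z _).2 ⟨nm a * 1, by rw [mul_one, star_nm], Tc_smul a 1 _⟩)
  refine ⟨v, hv, hf_symm ?_, k, rfl⟩
  by_contra h0
  obtain ⟨a, -, ha⟩ := (r.cz _).1 h1
  rw [ac_TT hv] at ha
  refine k (Ke.of_smul h0 ⟨a + 1, ?_⟩)
  rw [add_smul, one_smul, ← ha, add_right_comm, v_add_self, zero_add]

theorem jobHA : JobHA := by
  intro m K _ _ _ _ _ r h1 θ δ hθ hz d d1 d2 d3 hδ
  obtain ⟨f, f0, f1, f2, f3⟩ := h1 θ hθ hz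
  obtain ⟨v, hv, v0, vk, rfl⟩ := root_form r d1 d2 d3
  obtain ⟨η, hη⟩ := ((base m K).toFQ).eta
  have e2 := two0 K
  have rθ : ∀ x y, Rv x y → Rv (θ x) (f y) := by
    rintro x y ⟨c, o, rfl⟩
    exact (f1 y c o).2
  have ηv : hf (η • v) (ev 0) = 0 := by rw [hf_smul_left, v0, mul_zero]
  have ov : Ok (ev 0) v 0 := Pp.ok ⟨iso0, hv, hf_symm v0⟩
  set w := f v with hw
  set w' := f (η • v) with hw'
  have iw : Iso w := (f1 v 0 ov).1.trans hv
  have iw' : Iso w' := (f1 _ 0 (Pp.ok ⟨iso0, hv.smul η, hf_symm ηv⟩)).1.trans (hv.smul η)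
  have ww : star (hf w w') = hf w w' := tr_eq_zero.1 (by
    rw [(f2 _ _ v0 ηv).2, hf_smul_right, hv]; simp)
  have ww' : hf w' w = hf w w' := by rw [← star_hf, ww]
  have w0 : hf (ev 0) w = 0 := hf_symm (f0 v)
  have w0' : hf (ev 0) w' = 0 := hf_symm (f0 _)
  have fx0 : ac (TT w) (ev 0) = ev 0 := fix0 iw (f0 v) (star_one _)
  have wk : ¬ Ke w := fun k => by
    have a : Rv (EE (ev 0) v 0) v := ⟨0, ov, rfl⟩
    have b := (rθ _ _ a).mem_Z.2 k
    have c := hθ.bij.injOn (rθ _ _ a).mem a.mem (hz _ b)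
    exact vk (a.mem_Z.1 (c ▸ b))
  -- the action of `δ`
  have rδ : ∀ x y, Rv x y → Rv (δ x) (y + tr (hf y w') • w + tr (hf y w) • w') := by
    intro x y hx
    obtain ⟨x₀, hx₀, rfl⟩ := hθ.bij.surjOn hx.mem
    obtain ⟨y₀, k⟩ := mem_Q.1 hx₀
    obtain ⟨a, ha⟩ := (rθ _ _ k).uniq hx
    have ey : y = f y₀ + a • ev 0 := by rw [← ha, ← add_assoc, v_add_self, zero_add]
    have k1 := rθ _ _ (k.conj (fix0 hv v0 (star_one _)))
    rw [← hδ _ hx₀, ac_TT hv] at k1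
    have s1 : tr (hf y w) = tr (hf y₀ v) := by
      rw [ey, hf_add_left, hf_smul_left, w0, mul_zero, add_zero, (f2 _ _ k.perp v0).2]
    have s2 : tr (hf y w') = tr (star η * hf y₀ v) := by
      rw [ey, hf_add_left, hf_smul_left, w0', mul_zero, add_zero, (f2 _ _ k.perp ηv).2,
        hf_smul_right]
    have s3 : hf y₀ v • v = tr (star η * hf y₀ v) • v + tr (hf y₀ v) • η • v := by
      rw [smul_smul, ← add_smul]
      congr 1
      simp only [tr, star_mul', star_star] at hη ⊢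
      linear_combination (-hf y₀ v) * hη + (-(star (hf y₀ v) * η)) * e2
    have p1 : hf (tr (star η * hf y₀ v) • v) (ev 0) = 0 := by rw [hf_smul_left, v0, mul_zero]
    have p2 : hf (tr (hf y₀ v) • η • v) (ev 0) = 0 := by rw [hf_smul_left, ηv, mul_zero]
    rw [s3, (f2 _ _ k.perp (by rw [hf_add_left, p1, p2, add_zero])).1, (f2 _ _ p1 p2).1,
      f3 _ _ (star_tr _) v0, f3 _ _ (star_tr _) ηv] at k1
    refine k1.shift ⟨a, ?_⟩
    rw [s1, s2, ey]
    ext i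
    simp only [Pi.add_apply, Pi.smul_apply, smul_eq_mul]
    linear_combination (f y₀ i + tr (star η * hf y₀ v) * w i + tr (hf y₀ v) * w' i) * e2
  obtain ⟨y₁, y0, y1⟩ := ex1 wk
  have rc : ∀ a : K, ∃ x ∈ Q0 m K, Rv (cm (TT w) x) (a • w) := fun a => by
    obtain ⟨x, k⟩ := exists_rv (y := a • y₁) (by rw [hf_smul_left, y0, mul_zero])
    refine ⟨x, k.mem, (k.cm fx0).shift ?_⟩
    rw [ac_TT iw, hf_smul_left, y1, mul_one, add_right_comm (a • y₁), v_add_self, zero_add,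
      v_add_self]
    exact ke_zero
  refine ⟨TT w, mem_Cs r fx0, (r.rt _).2 ⟨w, fun h0 => wk (h0 ▸ ke_zero), iw, rfl⟩,
    fun h => wk (TT_mem_Z iw h), fun x hx => ?_, ?_, fun h => ?_⟩
  · obtain ⟨y, k⟩ := mem_Q.1 hx
    refine ((rδ _ _ (k.conj fx0)).mul ((rδ _ _ k).conj fx0).inv).mem_Z.2 ⟨0, ?_⟩
    simp only [ac_TT iw, hf_add_left, hf_smul_left, show hf w w = 0 from iw, ww', tr, star_add,
      star_mul', ww, mul_zero, add_zero]
    ext i
    simp only [Pi.add_apply, Pi.smul_apply, smul_eq_mul]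
    linear_combination (y i + hf y w * w i + (hf y w' + star (hf y w')) * w i +
      (hf y w + star (hf y w)) * w' i + (hf y w + star (hf y w)) * hf w w' * w i) * e2
  · obtain ⟨y, a0, a1⟩ := ex1 vk
    obtain ⟨x, k⟩ := exists_rv a0
    obtain ⟨x', b, c⟩ := rc 1
    have k1 := rθ _ _ k
    have k2 := (rδ _ _ k1).mul k1.inv
    have s1 : tr (hf (f y) w) = 0 := by
      rw [(f2 _ _ a0 v0).2, a1]; exact tr_eq_zero.2 (star_one _)
    have s2 : tr (hf (f y) w') = 1 := by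
      rw [(f2 _ _ a0 ηv).2, hf_smul_right, a1, mul_one, tr, star_star, add_comm]; exact hη
    rw [s1, s2, zero_smul, add_zero, add_right_comm, v_add_self, zero_add] at k2
    refine ⟨θ x, k1.mem, x', b, fun h => wk ?_, (k2.mul c.inv).mem_Z.2 ?_⟩
    · simpa using k2.mem_Z.1 h
    · rw [v_add_self]; exact ke_zero
  · obtain ⟨x, k⟩ := exists_rv (y := η • y₁) (by rw [hf_smul_left, y0, mul_zero])
    obtain ⟨x', b, c⟩ := h x k.mem
    obtain ⟨y', k'⟩ := mem_Q.1 b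
    obtain ⟨a, ha⟩ := (((rδ _ _ k).mul k.inv).mul (k'.cm fx0).inv).mem_Z.1 c
    rw [ac_TT iw, hf_smul_left η y₁ w, y1, mul_one, hη] at ha
    set β := tr (hf (η • y₁) w') + hf y' w
    have e : w' = β • w + a • ev 0 := by
      rw [← ha]
      ext i
      simp only [β, Pi.add_apply, Pi.smul_apply, smul_eq_mul]
      linear_combination (-(η * y₁ i) - tr (hf (η • y₁) w') * w i - hf y' w * w i - y' i) * e2
    have fx1 := fix0 iw (f0 v) (star_tr β)
    refine ⟨Tc (tr β) w, mem_Cs r fx1, fun x hx => ?_⟩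
    obtain ⟨y, k⟩ := mem_Q.1 hx
    refine ((rδ _ _ k).mul (k.conj fx1).inv).mem_Z.2 ⟨tr (hf y w) * a, ?_⟩
    have s : hf y w' = star β * hf y w := by
      rw [e, hf_add_right, hf_smul_right, hf_smul_right, k.perp, mul_zero, add_zero]
    rw [ac_Tc iw (star_tr β), s, e]
    ext i
    simp only [Pi.add_apply, Pi.smul_apply, smul_eq_mul, tr, star_mul', star_star]
    linear_combination (y i + star β * hf y w * w i + β * star (hf y w) * w i +
      β * hf y w * w i) * e2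

end H57.YUHA
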