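import Cfsg.Agent.H78.P6.H78_S2Kit
import Cfsg.Agent.H85.P6.H67_UAK0

namespace H59 end H59
open H59
namespace H85.P6 end H85.P6
open H85.P6
namespace H85.P6.H59 end H85.P6.H59
open H85.P6.H59
namespace H85.P6.H59.S2FX end H85.P6.H59.S2FX
open H85.P6.H59.S2FX
namespace H78.P6


/-! STD-SP chapter II (row S3129), slot FX: the stabiliser of the line `ℓ = ⟨e₀, e₁⟩`. -/

set_option autoImplicit false
set_option linter.unusedSectionVars false

namespace H59.S2FX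

open H64.SG (Cz Cs Ns mem_Cz)
open H67.UA hiding Par FV FW FX JobFX JobFV JobFW
open H67.SP H78.S2
open H67.SA (conj_mem_St mem_St_of_finite)
open H86.SPI (ok pp hf_self hf_comm hf_smul_right' qq_comb qq_conj TT_conj TT_mul ac_TT qq_add_smul
  TT_comm_qq)
open Matrix Subgroup

variable {n : ℕ} {F : Type} [Field F] [StarRing F] [TrivialStar F] [CharP F 2] [Finite F]
  [p5 : Par n F]

include p5 in
theorem v1 : ((1 : Fin (n + 1)) : ℕ) = 1 := H54.SPF.v1 p5.five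

theorem w0 : Wk 2 (ev 0 : Vn n F) := wk_ev (by simp)
theorem w1 : Wk 2 (ev 1 : Vn n F) := wk_ev (by rw [v1 (F := F)]; omega)
include p5 in
theorem ne01 : (0 : Fin (n + 1)) ≠ 1 := fun h => by
  have := congrArg Fin.val h
  rw [v1 (F := F)] at this; simp at this

theorem wk_eq {y : Vn n F} (h : Wk 2 y) : y = y 0 • ev 0 + y 1 • ev 1 := funext fun i => by
  have := ne01 (n := n) (F := F)
  by_cases h0 : i = 0
  · simp [h0, ev_apply, this]
  by_cases h1 : i = 1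
  · simp [h1, ev_apply, this.symm]
  have h2 : 2 ≤ i.val := by
    rw [Fin.ext_iff] at h0 h1
    rw [v1 (F := F)] at h1; rw [Fin.val_zero] at h0; omega
  simp [ev_apply, h0, h1, h i h2]

theorem wk (y : Vn n F) : Wk 2 y ↔ ∃ a b : F, y = a • ev 0 + b • ev 1 :=
  ⟨fun h => ⟨_, _, wk_eq h⟩, by rintro ⟨a, b, rfl⟩; exact (w0.smul a).add (w1.smul b)⟩

theorem Pl.perp {y m : Vn n F} (h : Pl y) (hm : Wk 2 m) : hf y m = 0 := by
  rw [wk_eq hm, hf_add_right, hf_smul_right', hf_smul_right', h.1, h.2]; simp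

theorem pl_wk {m : Vn n F} (h : Wk 2 m) : Pl m :=
  have := p5.five
  ⟨h.perp w0 (by omega), h.perp w1 (by omega)⟩

theorem Pl.add {y y' : Vn n F} (h : Pl y) (h' : Pl y') : Pl (y + y') :=
  ⟨by rw [hf_add_left, h.1, h'.1, add_zero], by rw [hf_add_left, h.2, h'.2, add_zero]⟩

theorem h10 (c : F) : hf (c • ev 1 : Vn n F) (ev 0) = 0 := (pl_wk (w1.smul c)).1
theorem h01 : hf (ev 0 : Vn n F) (ev 1) = 0 := (pl_wk w0).2

theorem li01 : Li (ev 0 : Vn n F) (ev 1) := fun a b h => by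
  have := ne01 (n := n) (F := F)
  exact ⟨by simpa [ev_apply, this] using congrFun h 0, by simpa [ev_apply, this.symm] using congrFun h 1⟩

theorem f00 : hf (ev (0 : Fin (n + 1)).rev : Vn n F) (ev 0) = 1 := by simp [hf_ev]
theorem f11 : hf (ev (1 : Fin (n + 1)).rev : Vn n F) (ev 1) = 1 := by simp [hf_ev]
theorem f01 : hf (ev (0 : Fin (n + 1)).rev : Vn n F) (ev 1) = 0 := by
  rw [hf_ev, Fin.rev_rev, if_neg (ne01 (F := F)).symm]
theorem f10 : hf (ev (1 : Fin (n + 1)).rev : Vn n F) (ev 0) = 0 := by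
  rw [hf_ev, Fin.rev_rev, if_neg (ne01 (F := F))]

theorem ac_zs (c : F) (y : Vn n F) :
    ac (zs c) y = y + (c * hf y (ev 1)) • ev 0 + (hf y (ev 0) * c) • ev 1 := by
  rw [ac_qq' (h10 c), hf_smul_right', smul_smul]

theorem zs_inj {c d : F} (h : (zs c : XU n F) = zs d) : c = d := by
  have h1 := ac_zs (n := n) c (ev (1 : Fin (n + 1)).rev)
  rw [h, ac_zs, f11, f10] at h1
  simpa [ev_apply] using (congrFun h1 0).symm

theorem zs_one : (zs 1 : XU n F) = xa n F := by rw [zs, one_smul]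

theorem conj_zs {p : XU n F} {a b c d : F} (h0 : ac p (ev 0) = a • ev 0 + b • ev 1)
    (h1 : ac p (ev 1) = c • ev 0 + d • ev 1) (s : F) :
    p * zs s * p⁻¹ = zs ((a * d + b * c) * s) := by
  rw [qq_conj p (h10 s), ac_smul, h0, h1, smul_add, smul_smul, smul_smul, qq_comb h01]
  congr 2; ring

theorem memC (p : XU n F) : p ∈ CC n F ↔ ∃ a b c d : F, ac p (ev 0) = a • ev 0 + b • ev 1 ∧
    ac p (ev 1) = c • ev 0 + d • ev 1 ∧ a * d + b * c = 1 := by
  rw [mem_Cz, eq_comm, ← mul_inv_eq_iff_eq_mul]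
  refine ⟨fun h => ?_, fun ⟨a, b, c, d, h0, h1, h2⟩ => by
    rw [← zs_one, conj_zs h0 h1, h2, mul_one]⟩
  have h10' : hf (ev 1 : Vn n F) (ev 0) = 0 := hf_symm h01
  have k := fun y => congrArg (ac · (ac p y)) ((qq_conj p h10').symm.trans h)
  simp only [ac_qq' h10', ac_qq' ((hf_ac p _ _).trans h10'), hf_ac, add_assoc, add_right_inj] at k
  have h0 := k (ev (1 : Fin (n + 1)).rev)
  have h1 := k (ev (0 : Fin (n + 1)).rev)
  rw [f11, f10, one_smul, zero_smul, add_zero] at h0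
  rw [f00, f01, one_smul, zero_smul, zero_add] at h1
  refine ⟨_, _, _, _, h0, h1, zs_inj (n := n) ?_⟩
  rw [← mul_one (_ + _), ← conj_zs h0 h1, zs_one, h]

theorem fix_wk {p : XU n F} (h : p ∈ P2 n F) {m : Vn n F} (hm : Wk 2 m) : ac p m = m := by
  rw [wk_eq hm, ac_add, ac_smul, ac_smul, mem_Stab.1 h.1, mem_Stab.1 h.2]

theorem w0_ev {i : Fin (n + 1)} : W0 (ev i : Vn n F) ↔ 2 ≤ i.val ∧ i.val + 2 ≤ n := by
  have := p5.five
  have := i.2
  simp only [W0, Pl, H54.SPF.hf_evv, ev_apply, Fin.ext_iff, v1 (F := F), Fin.val_zero,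
    add_zero, ite_eq_right_iff, one_ne_zero (α := F), imp_false]
  omega

theorem ind (S : Vn n F → Prop) (h0 : S 0) (h1 : ∀ y y', S y → S y' → S (y + y'))
    (h2 : ∀ (c : F) i, W0 (ev i : Vn n F) → S (c • ev i)) (y : Vn n F) (hy : W0 y) : S y := by
  have : y = ∑ i, y i • ev i := by ext j; simp [ev_apply, Finset.sum_apply]
  rw [this]
  refine Finset.sum_induction _ S h1 h0 fun i _ => ?_
  by_cases h : W0 (ev i : Vn n F)
  · exact h2 _ i h
  have h3 : y i = 0 := by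
    have a0 := hy.1.1
    have a1 := hy.1.2
    rw [hf_ev_right] at a0 a1
    have := i.2
    rw [w0_ev] at h
    rcases (by omega : i.val = 0 ∨ i.val = 1 ∨ i.val = n ∨ i.val + 1 = n) with h | h | h | h
    · rw [show i = 0 from Fin.ext h, hy.2.1]
    · rw [show i = 1 from Fin.ext (h.trans (v1 (F := F)).symm), hy.2.2]
    · rw [show i = Fin.rev 0 from Fin.ext (by simp [h]), a0]
    · rw [show i = Fin.rev 1 from Fin.ext (by rw [Fin.val_rev, v1 (F := F)]; omega), a1]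
  rwa [h3, zero_smul]

theorem sp3 (a b c v : Vn n F) (h : Li3 a b c)
    (h1 : ∀ s, hf s a = 0 → hf s b = 0 → hf s c = 0 → hf s v = 0) :
    ∃ r s w : F, v = r • a + s • b + w • c := by
  by_contra! hc
  obtain ⟨s, hs⟩ := H54.SPF.sep 4 ![a, b, c, v] (Fintype.linearIndependent_iff.2 fun g hg => by
    simp only [Fin.sum_univ_four, cons_val_zero, cons_val_one, cons_val] at hg
    have h3 : g 3 = 0 := by
      by_contra h3
      refine hc ((g 3)⁻¹ * g 0) ((g 3)⁻¹ * g 1) ((g 3)⁻¹ * g 2) ?_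
      rw [mul_smul, mul_smul, mul_smul, ← smul_add, ← smul_add, H54.SPI.add_eq_iff.1 hg, zero_add,
        inv_smul_smul₀ h3]
    rw [h3, zero_smul, add_zero] at hg
    obtain ⟨h4, h5, h6⟩ := h _ _ _ hg
    intro i; fin_cases i <;> assumption) ![0, 0, 0, 1]
  exact one_ne_zero ((hs 3).symm.trans (h1 s (hs 0) (hs 1) (hs 2)))

variable [FV n F]

theorem pl_iff {y : Vn n F} : Pl y ↔ Wk (n + 1 - 2) y :=
  have := p5.five
  ⟨fun h => (FV.wk_perp 2 (by omega) y).2 fun _ hw => Pl.perp h hw,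
    fun h => ⟨h.perp w0 (by omega), h.perp w1 (by omega)⟩⟩

theorem wk_of_perp {y : Vn n F} (h : ∀ v, Pl v → hf y v = 0) : Wk 2 y := by
  have := p5.five
  have h1 := (FV.wk_perp (n + 1 - 2) (by omega) y).2 fun w hw => h w (pl_iff.2 hw)
  rwa [show n + 1 - (n + 1 - 2) = 2 by omega] at h1

theorem memQ {g : XU n F} : g ∈ Qk n F 2 ↔
    (∀ v, Wk 2 v → ac g v = v) ∧ ∀ v, Pl v → Wk 2 (ac g v + v) := by
  have := p5.five
  simp only [FV.mem_Qk 2 (by omega) g, pl_iff]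

theorem TT_M {m : Vn n F} (h : Wk 2 m) : TT m ∈ Mk n F 2 := (FV.mem_M 2 _).2 fun v => by
  rw [ac_TT, add_right_comm, v_add_self, zero_add]; exact h.smul _

theorem zs_M (c : F) : (zs c : XU n F) ∈ Mk n F 2 := (FV.mem_M 2 _).2 fun v => by
  rw [ac_zs, add_assoc v, add_right_comm, v_add_self, zero_add]; exact (w0.smul _).add (w1.smul _)

theorem memM (g : XU n F) : g ∈ Mk n F 2 ↔ ∃ m c, Wk 2 m ∧ g = TT m * zs c := by
  refine ⟨fun h => ?_, by rintro ⟨m, c, h, rfl⟩; exact mul_mem (TT_M h) (zs_M c)⟩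
  obtain ⟨a, b, c, rfl⟩ := (FV.mem_M2 g).1 h
  refine ⟨rt a • ev 0 + rt c • ev 1, rt a * rt c + b, (w0.smul _).add (w1.smul _), ?_⟩
  have h1 := TT_comm_qq (h01 (n := n) (F := F)) b 0 (rt c)
  rw [zero_smul, zero_add] at h1
  rw [zu, H54.SPI.Tc_eq a, H54.SPI.Tc_eq c, mul_assoc, ← h1, ← mul_assoc,
    TT_mul (by rw [hf_smul_left, hf_symm (h10 _), mul_zero]), ← qq_smul', smul_smul, mul_assoc,
    qq_add_smul h01]

theorem M_fix {g : XU n F} (h : g ∈ Mk n F 2) {v : Vn n F} (hv : Pl v) : ac g v = v := by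
  obtain ⟨m, c, h1, rfl⟩ := (memM g).1 h
  rw [ac_mul, ac_zs, hv.1, hv.2, mul_zero, zero_mul, zero_smul, zero_smul, add_zero, add_zero, ac_TT,
    Pl.perp hv h1, zero_smul, add_zero]

theorem nf (g : XU n F) : g ∈ Qk n F 2 ↔ ∃ v v', Pl v ∧ Pl v' ∧ ∃ m ∈ Mk n F 2,
    g = qq v (ev 0) * qq v' (ev 1) * m := by
  have := p5.five
  have k : ∀ {v v' : Vn n F}, Pl v → Pl v' → qq v (ev 0) * qq v' (ev 1) ∈ Qk n F 2 := fun h h' =>
    mul_mem (FV.EE_Q 2 (by omega) _ _ _ w0 (pl_iff.1 h)) (FV.EE_Q 2 (by omega) _ _ _ w1 (pl_iff.1 h'))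
  refine ⟨fun h => ?_, ?_⟩
  swap
  · rintro ⟨v, v', h, h', m, hm, rfl⟩
    exact mul_mem (k h h') (memQ.2 ⟨fun v hv => M_fix hm (pl_wk hv), fun v _ => (FV.mem_M 2 m).1 hm v⟩)
  have h1 := (memQ.1 h).1
  have pl : ∀ y, Pl (ac g y + y) := fun y =>
    ⟨H54.SPI.hf_move (h1 _ w0) y, H54.SPI.hf_move (h1 _ w1) y⟩
  have p0 := pl (ev (0 : Fin (n + 1)).rev)
  have p1 := pl (ev (1 : Fin (n + 1)).rev)
  refine ⟨_, _, p0, p1, _, ?_, (mul_inv_cancel_left _ g).symm⟩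
  have hA := k p0 p1
  generalize hA' : qq (ac g (ev (0 : Fin (n + 1)).rev) + ev (Fin.rev 0)) (ev 0) *
    qq (ac g (ev (1 : Fin (n + 1)).rev) + ev (Fin.rev 1)) (ev 1) = A at hA ⊢
  have key : ∀ y, Wk 2 (ac g y + ac A y) → Wk 2 (ac (A⁻¹ * g) y + y) := fun y hy => by
    have := (memQ.1 (inv_mem hA)).1 _ hy
    rw [ac_add, ac_inv_ac, ← ac_mul] at this
    rwa [this]
  have a0 : Wk 2 (ac (A⁻¹ * g) (ev (Fin.rev 0)) + ev (Fin.rev 0)) := key _ (by
    rw [← hA', ac_mul, ac_qq' p1.2, ac_qq' p0.1, f01, zero_smul, add_zero, hf_add_left _ _ (ev 0), f00,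
      h10, add_zero, one_smul]
    generalize ac g _ = x
    generalize hf (_ + _ : Vn n F) _ = b
    generalize hf (_ : Vn n F) _ = a
    convert ((w0 (n := n)).smul b).add (w1.smul a) using 1
    ext i; simp only [Pi.add_apply]
    linear_combination (x i + ev (Fin.rev 0) i) * two0 F)
  have a1 : Wk 2 (ac (A⁻¹ * g) (ev (Fin.rev 1)) + ev (Fin.rev 1)) := key _ (by
    rw [← hA', ac_mul, ac_qq' p1.2, ac_qq' p0.1, f11, one_smul, hf_add_left _ _ (ev 0),
      hf_add_left _ _ (ev 0), f10, h10, p1.1, add_zero, add_zero, zero_smul, add_zero]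
    generalize ac g (ev (Fin.rev 1)) = x
    generalize hf (_ + _ : Vn n F) _ = b
    generalize hf (_ : Vn n F) _ = a
    convert ((w0 (n := n)).smul b).add (w1.smul a) using 1
    ext i; simp only [Pi.add_apply]
    linear_combination (x i + ev (Fin.rev 1) i) * two0 F)
  refine (FV.mem_M 2 _).2 fun y => ?_
  have h2 : Pl (y + hf y (ev 0) • ev (Fin.rev 0) + hf y (ev 1) • ev (Fin.rev 1)) := by
    constructor <;> simp only [hf_add_left, hf_smul_left, f00, f01, f10, f11, mul_one, mul_zero,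
      add_zero, CharTwo.add_self_eq_zero]
  have h3 := ((memQ.1 (mul_mem (inv_mem hA) h)).2 _ h2).add
    ((a0.smul (hf y (ev 0))).add (a1.smul (hf y (ev 1))))
  convert h3 using 1
  simp only [ac_add, ac_smul, smul_add]
  generalize hf y (ev 0) • ac (A⁻¹ * g) _ = a
  generalize hf y (ev 1) • ac (A⁻¹ * g) _ = b
  generalize hf y (ev 0) • (ev _ : Vn n F) = c
  generalize hf y (ev 1) • (ev _ : Vn n F) = d
  ext i; simp only [Pi.add_apply]
  linear_combination (-(a i + b i + c i + d i)) * two0 F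

theorem inv_wk {p : XU n F} (h : ∀ v, Wk 2 v → Wk 2 (ac p v)) : ∀ v, Wk 2 v → Wk 2 (ac p⁻¹ v) := by
  obtain ⟨k, hk⟩ := (mem_powers_iff_mem_zpowers.2 (inv_mem (mem_zpowers p)))
  rw [← hk]
  clear hk
  induction k with
  | zero => simp
  | succ k ih => exact fun v hv => by simpa only [pow_succ, ac_mul] using ih _ (h v hv)

theorem nrm (p : XU n F) (h0 : Wk 2 (ac p (ev 0))) (h1 : Wk 2 (ac p (ev 1))) : p ∈ Ns (Qk n F 2) ∧
    p ∈ Ns (Mk n F 2) ∧ p ∈ Ns (CC n F) ∧ (∀ y, Og y → Og (ac p y)) ∧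
      ∃ l : F, l ≠ 0 ∧ ∀ c, p * zs c * p⁻¹ = zs (l * c) := by
  have a1 : ∀ v, Wk 2 v → Wk 2 (ac p v) := fun v hv => by
    rw [wk_eq hv, ac_add, ac_smul, ac_smul]; exact (h0.smul _).add (h1.smul _)
  have a2 := inv_wk a1
  have k : ∀ (g : XU n F) v, ac (p * g * p⁻¹) v + v = ac p (ac g (ac p⁻¹ v) + ac p⁻¹ v) := fun g v => by
    rw [ac_add, ac_ac_inv, ac_mul, ac_mul]
  refine ⟨conj_mem_St.1 (mem_St_of_finite fun g hg => memQ.2 ⟨fun v hv => ?_, fun v hv => ?_⟩),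
    conj_mem_St.1 (mem_St_of_finite fun g hg => (FV.mem_M 2 _).2 fun v => ?_),
    conj_mem_St.1 (mem_St_of_finite fun g hg => mem_Cz.2 ?_), fun y hy => ⟨⟨?_, ?_⟩, fun h => hy.2 ?_⟩,
    _, fun h => ?_, conj_zs (wk_eq h0) (wk_eq h1)⟩
  · rw [MulAut.conj_apply, ac_mul, ac_mul, (memQ.1 hg).1 _ (a2 v hv), ac_ac_inv]
  · rw [MulAut.conj_apply, k]
    refine a1 _ ((memQ.1 hg).2 _ ⟨?_, ?_⟩) <;> rw [hf_ac_left, inv_inv]
    exacts [Pl.perp hv h0, Pl.perp hv h1]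
  · rw [MulAut.conj_apply, k]
    exact a1 _ ((FV.mem_M 2 _).1 hg _)
  · obtain ⟨a, b, c, d, b0, b1, b2⟩ := (memC g).1 hg
    have b3 := conj_zs (wk_eq (a2 _ w0)) (wk_eq (a2 _ w1)) 1
    generalize _ * (1 : F) = l at b3
    have b4 := conj_zs b0 b1 l
    rw [b2, one_mul, ← b3, zs_one] at b4
    rw [MulAut.conj_apply, eq_comm, ← mul_inv_eq_iff_eq_mul, show p * g * p⁻¹ * xa n F * (p * g * p⁻¹)⁻¹ =
      p * (g * (p⁻¹ * xa n F * p⁻¹⁻¹) * g⁻¹) * p⁻¹ by group, b4]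
    group
  · rw [hf_ac_left]; exact Pl.perp hy.1 (a2 _ w0)
  · rw [hf_ac_left]; exact Pl.perp hy.1 (a2 _ w1)
  · simpa using a2 _ h
  · have b1 := conj_zs (wk_eq h0) (wk_eq h1) 1
    have b2 := conj_zs (wk_eq h0) (wk_eq h1) 0
    rw [h, zero_mul] at b1 b2
    exact one_ne_zero (zs_inj (n := n) (by simpa using b1.trans b2.symm))

theorem cM : Cs (Mk n F 2) = P2 n F := by
  refine le_antisymm (fun g hg => ⟨H54.SPI.TT_inj ?a, H54.SPI.TT_inj ?b⟩) fun g hg m hm => ?c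
  case a => rw [← TT_conj, ← hg _ (TT_M w0), mul_inv_cancel_right]
  case b => rw [← TT_conj, ← hg _ (TT_M w1), mul_inv_cancel_right]
  · obtain ⟨m, c, h1, rfl⟩ := (memM m).1 hm
    have h2 := conj_zs (p := g) (a := 1) (b := 0) (c := 0) (d := 1) (by simpa using mem_Stab.1 hg.1)
      (by simpa using mem_Stab.1 hg.2) c
    rw [eq_comm, ← mul_inv_eq_iff_eq_mul, ← conj_mul, TT_conj, fix_wk hg h1, h2]
    simp

theorem uq (y y' : Vn n F) (h : Og y) (h' : Og y') (m : XU n F) (hm : m ∈ Mk n F 2)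
    (e : TT y = TT y' * m) : y = y' := by
  obtain ⟨v, h1, h2⟩ : ∃ v, Pl v ∧ hf v y ≠ 0 := by
    by_contra! hc
    exact h.2 (wk_of_perp fun v hv => hf_symm (hc v hv))
  have h3 := congrArg (ac · v) e
  simp only [ac_mul, M_fix hm h1, ac_TT, add_right_inj] at h3
  obtain ⟨l, rfl⟩ : ∃ l : F, y = l • y' :=
    ⟨(hf v y)⁻¹ * hf v y', by rw [mul_smul, ← h3, inv_smul_smul₀ h2]⟩
  have h4 : y' ≠ 0 := by rintro rfl; exact h'.2 fun _ _ => rfl
  rw [hf_smul_right'] at h2 h3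
  rw [smul_smul] at h3
  have h5 := smul_left_injective F h4 h3
  rw [show l = 1 from sq_inj (mul_right_cancel₀ (right_ne_zero_of_mul h2) (by
    linear_combination h5)), one_smul]

variable [FW n F]

theorem ext {u0 u1 : Vn n F} (a0 : Wk 2 u0) (a1 : Wk 2 u1) (li : Li u0 u1) (f : Fin (n + 1) → Vn n F)
    (h1 : ∀ i, W0 (ev i : Vn n F) → Pl (f i))
    (h2 : ∀ i j, W0 (ev i : Vn n F) → W0 (ev j : Vn n F) → hf (f i) (f j) = hf (ev i) (ev j)) :
    ∃ p : XU n F, ac p (ev 0) = u0 ∧ ac p (ev 1) = u1 ∧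
      ∀ i, W0 (ev i : Vn n F) → ac p (ev i) = f i := by
  have := p5.five
  obtain ⟨m, rfl⟩ : ∃ m, n = m + 3 := ⟨n - 3, by omega⟩
  let c : Fin (m + 2) → Fin (m + 3 + 1) := Fin.castLE (by omega)
  have cw : ∀ i : Fin m, W0 (ev (c i.succ.succ) : Vn (m + 3) F) := fun i =>
    w0_ev.2 ⟨by simp [c], by have := i.2; simp [c]⟩
  let w : Fin (m + 2) → Vn (m + 3) F := Fin.cons u0 (Fin.cons u1 fun i => f (c i.succ.succ))
  have e0 : ev (c 0) = (ev 0 : Vn (m + 3) F) := rfl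
  have e1 : ev (c (Fin.succ 0)) = (ev 1 : Vn (m + 3) F) := rfl
  obtain ⟨p, hp⟩ := FW.witt (m + 2) (fun i => ev (c i)) w (H54.SPF.li_ev (Fin.castLE_injective _))
    (Fintype.linearIndependent_iff.2 fun g hg => by
      simp only [Fin.sum_univ_succ, w, Fin.cons_zero, Fin.cons_succ] at hg
      have k : ∀ j : Fin m, g j.succ.succ = 0 := fun j => by
        have b1 : c j.rev.succ.succ = (c j.succ.succ).rev := Fin.ext (by
          have := j.2; simp [c, Fin.val_rev]; omega)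
        have := congrArg (H54.SPI.BB (m + 3) F · (f (c j.rev.succ.succ))) hg
        simp only [map_add, map_sum, map_smul, LinearMap.add_apply, LinearMap.sum_apply,
          LinearMap.smul_apply, H54.SPI.BB_apply, hf_symm (Pl.perp (h1 _ (cw _)) a0),
          hf_symm (Pl.perp (h1 _ (cw _)) a1), h2 _ _ (cw _) (cw _), hf_zero_left] at this
        simpa [b1, hf_ev, c] using this
      simp only [k, zero_smul, Finset.sum_const_zero, add_zero] at hg
      obtain ⟨b0, b1⟩ := li _ _ hg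
      exact Fin.cases b0 (Fin.cases b1 k)) (by
      have b0 := pl_wk a0
      have b1 := pl_wk a1
      refine Fin.cases (Fin.cases ?_ (Fin.cases ?_ fun j => ?_))
        (Fin.cases (Fin.cases ?_ (Fin.cases ?_ fun j => ?_))
          fun i => Fin.cases ?_ (Fin.cases ?_ fun j => ?_)) <;>
        simp only [w, Fin.cons_zero, Fin.cons_succ, e0, e1, hf_self] <;> first
      | rw [h01, Pl.perp b0 a1]
      | rw [hf_symm (cw _).1.1, hf_symm (Pl.perp (h1 _ (cw _)) a0)]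
      | rw [hf_symm h01, Pl.perp b1 a0]
      | rw [hf_symm (cw _).1.2, hf_symm (Pl.perp (h1 _ (cw _)) a1)]
      | rw [(cw _).1.1, Pl.perp (h1 _ (cw _)) a0]
      | rw [(cw _).1.2, Pl.perp (h1 _ (cw _)) a1]
      | rw [h2 _ _ (cw _) (cw _)])
  refine ⟨p, hp 0, hp (Fin.succ 0), fun i hi => ?_⟩
  obtain ⟨b1, b2⟩ := w0_ev.1 hi
  obtain ⟨j, rfl⟩ : ∃ j : Fin m, i = c j.succ.succ :=
    ⟨⟨i.val - 2, by omega⟩, Fin.ext (by simp [c]; omega)⟩
  exact hp _

theorem lev (a b c d : F) (h : a * d + b * c ≠ 0) : ∃ r : XU n F,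
    ac r (ev 0) = a • ev 0 + b • ev 1 ∧ ac r (ev 1) = c • ev 0 + d • ev 1 ∧
      ∀ y, W0 y → ac r y = y := by
  obtain ⟨r, h0, h1, h2⟩ := ext ((w0.smul a).add (w1.smul b)) ((w0.smul c).add (w1.smul d))
    (fun r s k => by
      have := two0 F
      obtain ⟨k1, k2⟩ := li01 (n := n) (r * a + s * c) (r * b + s * d) (by
        rw [← k]; ext i; simp only [Pi.add_apply, Pi.smul_apply, smul_eq_mul]; ring)
      exact ⟨mul_right_cancel₀ h (by grind), mul_right_cancel₀ h (by grind)⟩)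
    ev (fun _ h => h.1) fun _ _ _ _ => rfl
  exact ⟨r, h0, h1, ind _ (ac_zero r) (fun y y' k k' => by rw [ac_add, k, k'])
    fun c i hi => by rw [ac_smul, h2 i hi]⟩

theorem li3 {y : Vn n F} (h : Og y) : Li3 (ev 0) (ev 1) y := fun a b c k => by
  have h1 : c = 0 := by
    by_contra h1
    refine h.2 ?_
    rw [← inv_smul_smul₀ h1 y, ← zero_add (c • y), ← H54.SPI.add_eq_iff.1 k]
    exact ((w0.smul a).add (w1.smul b)).smul _
  rw [h1, zero_smul, add_zero] at k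
  exact ⟨(li01 a b k).1, (li01 a b k).2, h1⟩

theorem tr' (y y' : Vn n F) (h : Og y) (h' : Og y') : ∃ p ∈ P2 n F, ac p y = y' := by
  obtain ⟨p, hp⟩ := FW.witt 3 ![ev 0, ev 1, y] ![ev 0, ev 1, y'] (H54.SPF.li3_iff.1 (li3 h))
    (H54.SPF.li3_iff.1 (li3 h')) fun i j => by
      fin_cases i <;> fin_cases j <;>
        simp [h.1.1, h.1.2, h'.1.1, h'.1.2, hf_symm h.1.1, hf_symm h.1.2, hf_symm h'.1.1,
          hf_symm h'.1.2, hf_self]
  exact ⟨p, ⟨hp 0, hp 1⟩, hp 2⟩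

theorem jobFX : JobFX := fun n F _ _ _ _ _ _ _ _ =>
  { wk := wk
    dec := fun y hy => by
      have h1 : Wk 2 (y 0 • ev 0 + y 1 • ev 1 : Vn n F) := (w0.smul _).add (w1.smul _)
      have := ne01 (n := n) (F := F)
      refine ⟨y + _, _, ⟨Pl.add hy.1 (pl_wk h1), ?_, ?_⟩, fun h => hy.2 ?_, h1, ?_⟩
      · simp [ev_apply, this, CharTwo.add_self_eq_zero]
      · simp [ev_apply, this.symm, CharTwo.add_self_eq_zero]
      · rwa [H54.SPI.add_eq_iff.1 h, zero_add]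
      · rw [add_assoc, v_add_self, add_zero]
    memC := memC
    memM := memM
    nf := nf
    lev := lev
    tr := tr'
    nrm := nrm
    cM := cM
    uq := uq
    bas := fun f h1 h2 => by
      obtain ⟨p, a, b, c⟩ := ext w0 w1 li01 f h1 h2
      exact ⟨p, ⟨a, b⟩, c⟩
    ind := ind
    sp3 := sp3 }

end H59.S2FX
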