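import Cfsg.Agent.H78.P6.H78_YUDef

namespace H60 end H60
open H60
namespace H67 end H67
open H67
namespace H67.P6 end H67.P6
open H67.P6
namespace H67.P6.H60 end H67.P6.H60
open H67.P6.H60
namespace H67.P6.H60.YR0 end H67.P6.H60.YR0
open H67.P6.H60.YR0
namespace H67.P6.H67 end H67.P6.H67
open H67.P6.H67
namespace H85.P6 end H85.P6
open H85.P6
namespace H85.P6.H60 end H85.P6.H60
open H85.P6.H60
namespace H85.P6.H60.YR0 end H85.P6.H60.YR0
open H85.P6.H60.YR0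
namespace H85.P6.H67 end H85.P6.H67
open H85.P6.H67
namespace H78.P6


/-! STD-SP (row S3129), endgame, unitary models: slot R0. -/

set_option autoImplicit false
set_option linter.unusedSectionVars false

namespace H60.YR0

open H64.SG (O2 Syl Cz Cs Ns cjs Is2 Inv2 IsO2 fx mem_Cz mem_Cs)
open H67 H67.UA H64.YE Subgroup H78.YU
open H67.SA (cm St la mem_St mem_St_of_finite mem_cI)

section Gen

variable {G : Type*} [Group G] [Finite G]

theorem st_o2 {Q A : Subgroup G} (h : IsO2 Q A) {α : MulAut G} (hα : α ∈ St A) : α ∈ St Q := by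
  refine mem_St_of_finite fun g hg => h.2.2.2 (Q.map α.toMonoidHom) ?_ (fun a ha => ?_)
    (h.2.2.1.map _) ⟨g, hg, rfl⟩
  · rintro _ ⟨b, hb, rfl⟩; exact (hα b).1 (h.1 hb)
  · have h1 : α⁻¹ a ∈ Ns Q := h.2.1 (((St A).inv_mem hα a).1 ha)
    refine mem_normalizer_iff.2 fun b => ?_
    rw [mem_map_equiv, mem_map_equiv, mem_normalizer_iff.1 h1]
    simp

theorem st_cs {A : Subgroup G} {α : MulAut G} (hα : α ∈ St A) : α ∈ St (Cs A) :=
  mem_St_of_finite fun g hg a ha => by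
    have := congrArg α (hg (α⁻¹ a) (((St A).inv_mem hα a).1 ha))
    simpa using this

theorem st_cz {r : G} {α : MulAut G} (hα : α r = r) : α ∈ St (Cz r) :=
  mem_St_of_finite fun g hg => mem_Cz.2 (by
    have := congrArg α (mem_Cz.1 hg)
    rwa [map_mul, map_mul, hα] at this)

end Gen

variable {m : ℕ} {K : Type} [Field K] [StarRing K] [CharP K 2] [Finite K] [Par m K]

theorem rt (y : XU m K) : IsConj (r0 m K) y ↔ ∃ v, v ≠ 0 ∧ Iso v ∧ y = TT v := by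
  rw [isConj_iff]
  constructor
  · rintro ⟨g, rfl⟩
    exact ⟨ac g (ev 0), fun h => ev_ne 0 (ac_inj g (h.trans (ac_zero g).symm)),
      H59.UM.iso0.ac g, Tc_conj H59.UM.iso0 (star_one K) g⟩
  · rintro ⟨v, h0, hv, rfl⟩
    obtain ⟨g, hg⟩ := H59.UM.w1 h0 hv
    exact ⟨g, hg ▸ Tc_conj H59.UM.iso0 (star_one K) g⟩

theorem r_mem : r0 m K ∈ Z0 m K := (FV.mem_Z _).2 ⟨1, star_one K, rfl⟩

theorem cz0 {g : XU m K} (h : g ∈ Cz (r0 m K)) : ∃ a : K, nm a = 1 ∧ ac g (ev 0) = a • ev 0 := by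
  have h1 : TT (ac g (ev 0)) = TT (ev 0) :=
    (Tc_conj H59.UM.iso0 (star_one K) g).symm.trans (mul_inv_eq_iff_eq_mul.2 (mem_Cz.1 h).symm)
  have hu := H59.UM.iso0.ac g
  generalize ac g (ev 0) = u at h1 hu
  have h2 := congrArg (fun k => ac k (ev (la m))) h1
  simp only [ac_Tc hu (star_one K), ac_Tc H59.UM.iso0 (star_one K), H59.UM.hfL0, one_mul,
    one_smul, add_right_inj] at h2
  have h3 := congrArg (hf (ev (la m))) h2
  rw [hf_smul_right, H59.UM.hfL0] at h3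
  refine ⟨star (hf (ev (la m)) u), by rw [nm, star_star, h3], ?_⟩
  rw [← h2, smul_smul, h3, one_smul]

theorem cz1 {g : XU m K} {a : K} (h : nm a = 1) (h' : ac g (ev 0) = a • ev 0) : g ∈ Cs (Z0 m K) :=
  fun z hz => by
    obtain ⟨c, hc, rfl⟩ := (FV.mem_Z z).1 hz
    rw [eq_comm, ← mul_inv_eq_iff_eq_mul, Tc_conj H59.UM.iso0 hc, h', Tc_smul, h, one_mul]

theorem cz_eq : Cz (r0 m K) = Cs (Z0 m K) :=
  le_antisymm (fun _ h => let ⟨_, h1, h2⟩ := cz0 h; cz1 h1 h2) fun _ h => mem_Cz.2 (h _ r_mem)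

theorem o2 : IsO2 (Q0 m K) (Cs (Z0 m K)) := by
  have := GA.FI.qk 1 (GA.rg1 (X := XU m K))
  rwa [FV.xk_one, cz_eq] at this

theorem stz {α : MulAut (XU m K)} (h : α ∈ St (Q0 m K)) : α ∈ St (Z0 m K) :=
  mem_St_of_finite fun z hz => GA.mem_Mk_of_Cs GA.rg1
    ((st_cs h z).1 fun x hx => (GA.FB.QM 1 GA.rg1 hx z hz).symm)
    ⟨1, by rw [pow_one, pow_two, ← map_mul, GA.sq_of_ZZ hz, map_one]⟩

omit [Par m K] in
theorem jobR0 : JobR0 := by
  intro m K _ _ _ _ _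
  refine ⟨rt, fun z hz h1 => ?_, fun α y hy => ?_,
    fun g => ⟨fun h => cz0 (cz_eq (m := m) (K := K) ▸ h), fun ⟨_, h1, h2⟩ => cz1 h1 h2⟩,
    fun α h => stz (st_o2 o2 (cz_eq (m := m) (K := K) ▸ st_cz h)),
    fun α h => st_o2 o2 (st_cs h), fun u hu h => ?_, fun α _ h z hz => ?_⟩
  · obtain ⟨c, hc, rfl⟩ := (FV.mem_Z z).1 hz
    obtain ⟨a, ha⟩ := H59.UM.Tc_eq_TT hc (ev 0 : Vn m K)
    exact (rt _).2 ⟨_, fun h0 => h1 (by rw [ha, h0]; exact EE_zero_left _ _),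
      H59.UM.iso0.smul a, ha⟩
  · obtain ⟨v, h0, hv, rfl⟩ := (rt y).1 hy
    exact (rt _).2 (FV.root _ (GA.FA.roota _ α (FW.rootT v h0 hv)))
  · obtain ⟨q, hq, e⟩ := mem_cI.1 (GA.FA.n2 (MulAut.conj u) h fun z hz => by
      rw [MulAut.conj_apply, mul_inv_eq_iff_eq_mul, GA.UU_le_Cs hu z hz])
    rwa [GA.conj_inj (GA.is2_of_UU hu) (GA.is2_of_UU (GA.QQ_le_UU hq)) e]
  · obtain ⟨v, hv, hv'⟩ := SetLike.not_le_iff_exists.1 (GA.FB.QZ (X := XU m K))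
    obtain ⟨u, hu, rfl⟩ := GA.FA.qz v hv hv' z hz
    have k : ∀ x ∈ Q0 m K, ∀ y ∈ Q0 m K, α x * y * (α x)⁻¹ = x * y * x⁻¹ := fun x hx y hy => by
      have := GA.FB.QM 1 GA.rg1 (mul_mem (mul_mem hx hy) (inv_mem hx)) _ (h x hx)
      calc α x * y * (α x)⁻¹ = α x * x⁻¹ * (x * y * x⁻¹) * (α x * x⁻¹)⁻¹ := by group
        _ = _ := by rw [this]; group
    have hv2 : α v ∈ Q0 m K := by
      simpa using mul_mem (GA.ZZ_le_QQ (h v hv)) hv
    calc α (cm v u) = α v * (α u * (α v)⁻¹ * (α u)⁻¹) := by simp [cm, mul_assoc]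
      _ = α v * u * (α v)⁻¹ * u⁻¹ := by rw [k u hu _ (inv_mem hv2)]; group
      _ = _ := by rw [k v hv u hu]

end H60.YR0
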