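import Cfsg.Agent.H78.P6.H78_YUDef

namespace H61 end H61
open H61
namespace H67 end H67
open H67
namespace H67.P6 end H67.P6
open H67.P6
namespace H67.P6.H61 end H67.P6.H61
open H67.P6.H61
namespace H67.P6.H61.YUS0 end H67.P6.H61.YUS0
open H67.P6.H61.YUS0
namespace H67.P6.H67 end H67.P6.H67
open H67.P6.H67
namespace H85.P6 end H85.P6
open H85.P6
namespace H85.P6.H61 end H85.P6.H61
open H85.P6.H61
namespace H85.P6.H61.YUS0 end H85.P6.H61.YUS0
open H85.P6.H61.YUS0
namespace H85.P6.H67 end H85.P6.H67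
open H85.P6.H67
namespace H78.P6


/-! STD-SP (row S3129), unitary models: slot `S0` (parity). -/

set_option autoImplicit false
set_option linter.unusedSectionVars false

namespace H61.YUS0

open H67 H67.UA H78.YU Subgroup Module
open H67.SA (cm la)
open H59.UM (BB BB_apply herm isoL hf0L hfL0 exists_nm eq_zero_of_tr finrank_Vn)

variable {m : ℕ} {K : Type} [Field K] [StarRing K] [CharP K 2] [Finite K] [Par m K]

/-- the fixed space of `l` -/
def fxs (l : XU m K) : Submodule K (Vn m K) where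
  carrier := {v | ac l v = v}
  add_mem' := fun {a b} ha hb => by
    change ac l (a + b) = a + b
    rw [ac_add, show ac l a = a from ha, show ac l b = b from hb]
  zero_mem' := ac_zero l
  smul_mem' := fun c {a} ha => by
    change ac l (c • a) = c • a
    rw [ac_smul, show ac l a = a from ha]

theorem mem_fxs {l : XU m K} {v : Vn m K} : v ∈ fxs l ↔ ac l v = v := Iff.rfl

theorem perp_le {l : XU m K} (hl : l * l = 1) : H59.perp (BB m K) (fxs l) ≤ fxs l := by
  intro x hx
  have hi : l⁻¹ = l := inv_eq_of_mul_eq_one_right hl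
  refine eq_of_hf fun z => ?_
  have h1 : ac l z + z ∈ fxs l := by
    rw [mem_fxs, ac_add, ← ac_mul, hl, ac_one, add_comm]
  have h2 := hx _ h1
  rw [BB_apply, hf_add_right] at h2
  rw [hf_ac_left, hi]
  linear_combination h2 - hf x z * two0 K

/-- the three coordinates -/
def co (l : XU m K) (y : Vn m K) : fxs l →ₗ[K] K × K × K where
  toFun z := (hf z.1 (ev 0), hf z.1 y, hf z.1 (ev (la m)))
  map_add' a b := by simp [hf_add_left]
  map_smul' c a := by simp [hf_smul_left]

theorem exists_aniso (hm : Odd m) {l : XU m K} {y : Vn m K} (hl : l * l = 1)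
    (y0 : hf y (ev 0) = 0) (yL : hf y (ev (la m)) = 0) (yy : hf y y ≠ 0)
    (l0 : ac l (ev 0) = ev 0) (lL : ac l (ev (la m)) = ev (la m)) (ly : ac l y = y) :
    ∃ z, ac l z = z ∧ hf z (ev 0) = 0 ∧ hf z y = 0 ∧ hf z z ≠ 0 := by
  by_contra hn
  push Not at hn
  have i0 : hf (ev 0 : Vn m K) (ev 0) = 0 := iso0
  have iL : hf (ev (la m) : Vn m K) (ev (la m)) = 0 := isoL
  have y0' := hf_symm y0
  have yL' := hf_symm yL
  have hp : ∀ c c' : Vn m K, ac l c = c → hf c (ev 0) = 0 → hf c y = 0 → ac l c' = c' →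
      hf c' (ev 0) = 0 → hf c' y = 0 → hf c c' = 0 := by
    intro c c' h1 h2 h3 h4 h5 h6
    refine eq_zero_of_tr fun b => ?_
    have := hn (b • c + c') (by rw [ac_add, ac_smul, h1, h4])
      (by rw [hf_add_left, hf_smul_left, h2, h5]; simp)
      (by rw [hf_add_left, hf_smul_left, h3, h6]; simp)
    simp only [hf_add_left, hf_add_right, hf_smul_left, hf_smul_right, hn c h1 h2 h3,
      hn c' h4 h5 h6] at this
    simp only [UA.tr, star_mul', star_hf]
    linear_combination this
  have hk : LinearMap.ker (co l y) = (H59.perp (BB m K) (fxs l)).comap (fxs l).subtype := by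
    ext c
    rw [LinearMap.mem_ker, Submodule.mem_comap]
    constructor
    · intro h z hz
      have h1 : hf c.1 (ev 0) = 0 := congrArg Prod.fst h
      have h2 : hf c.1 y = 0 := congrArg (fun p => p.2.1) h
      have h3 : hf c.1 (ev (la m)) = 0 := congrArg (fun p => p.2.2) h
      have := hp c.1 (z + (hf z y / hf y y) • y + hf z (ev 0) • ev (la m)) c.2 h1 h2
        (by rw [ac_add, ac_add, ac_smul, ac_smul, ly, lL, show ac l z = z from hz])
        (by
          simp only [hf_add_left, hf_smul_left, y0, hfL0]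
          linear_combination hf z (ev 0) * two0 K)
        (by
          simp only [hf_add_left, hf_smul_left, yL', div_mul_cancel₀ _ yy]
          linear_combination hf z y * two0 K)
      simp only [hf_add_right, hf_smul_right, h2, h3, mul_zero, add_zero] at this
      exact this
    · intro h
      have h1 := h _ l0
      have h2 := h _ ly
      have h3 := h _ lL
      rw [BB_apply] at h1 h2 h3
      exact Prod.ext h1 (Prod.ext h2 h3)
  have hr : LinearMap.range (co l y) = ⊤ := by
    rw [LinearMap.range_eq_top]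
    rintro ⟨a, b, c⟩
    refine ⟨⟨a • ev (la m) + (b / hf y y) • y + c • ev 0, ?_⟩, ?_⟩
    · rw [mem_fxs, ac_add, ac_add, ac_smul, ac_smul, ac_smul, l0, lL, ly]
    · simp only [co, LinearMap.coe_mk, AddHom.coe_mk, hf_add_left, hf_smul_left, i0, iL, y0, yL,
        y0', yL', hf0L, hfL0, div_mul_cancel₀ _ yy]
      simp
  have e1 := (co l y).finrank_range_add_finrank_ker
  rw [hr, hk, finrank_top, (Submodule.comapSubtypeEquivOfLe (perp_le hl)).finrank_eq] at e1
  have e2 := (herm m K).finrank_add_finrank_perp (fxs l)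
  rw [finrank_Vn] at e2
  simp only [finrank_prod, finrank_self] at e1
  obtain ⟨t, ht⟩ := hm
  omega

theorem fin {l : XU m K} {y : Vn m K} {d c : K} (ok : Ok (ev 0) y d) (o3 : Ok (ev 0) y c)
    (hl : l * l = 1) (l0 : ac l (ev 0) = ev 0) (ly : ac l y = y) :
    EE (ev 0) y d * l * EE (ev 0) y c * (EE (ev 0) y d * l * EE (ev 0) y c) = 1 := by
  have c1 : l * EE (ev 0) y c = EE (ev 0) y c * l := by
    rw [← mul_inv_eq_iff_eq_mul, EE_conj o3, l0, ly]
  have o4 := ok.add o3
  rw [mul_assoc _ l, c1, ← mul_assoc (EE _ y d), EE_mul ok o3]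
  rw [v_add_self] at o4 ⊢
  generalize d + c + hf y y = t at o4 ⊢
  have c2 : l * EE (ev 0) 0 t = EE (ev 0) 0 t * l := by
    rw [← mul_inv_eq_iff_eq_mul, EE_conj o4, l0, ac_zero]
  have ht : star t = t := tr_eq_zero.1 (by rw [o4.tr]; simp)
  rw [mul_assoc, ← mul_assoc l, c2, mul_assoc, hl, mul_one]
  exact Tc_mul_self iso0 ht

theorem jobS0 : JobS0 := by
  intro m K _ _ _ _ _ sd hm u hu h1 h2
  obtain ⟨y, d, l, ok, yL, yy, rfl, hl, l0, lL, ly⟩ := sd u hu h1 h2
  obtain ⟨z, lz, z0, zy, zz⟩ := exists_aniso hm hl ok.perp yL yy l0 lL ly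
  obtain ⟨a, ha⟩ := exists_nm (c := hf y y / hf z z) (by rw [star_div₀, star_hf, star_hf])
  obtain ⟨b, b1, b2⟩ := (jobFQ m K).n1
  have hb : 1 + b ≠ 0 := fun h => b2 (by linear_combination h - two0 K)
  have i0 : hf (ev 0 : Vn m K) (ev 0) = 0 := iso0
  have key : ∀ c e : K, nm e = 1 → Ok (ev 0) (c • (y + (e * a) • z)) 0 ∧
      ac l (c • (y + (e * a) • z)) = c • (y + (e * a) • z) := by
    intro c e he
    refine ⟨⟨iso0, ?_, ?_⟩, by rw [ac_smul, ac_add, ac_smul, ly, lz]⟩
    · simp [hf_add_left, hf_smul_left, ok.perp, z0]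
    · have ha' : a * star a * hf z z = hf y y := by
        rw [show a * star a = _ from ha, div_mul_cancel₀ _ zz]
      simp only [hf_add_left, hf_add_right, hf_smul_left, hf_smul_right, zy, hf_symm zy, star_mul',
        UA.tr, star_zero]
      have he' : e * star e = 1 := he
      linear_combination -(c * star c * e * star e) * ha' - c * star c * hf y y * he' -
        c * star c * hf y y * two0 K
  have mem : ∀ s, Ok (ev 0) s 0 → ac l s = s → EE (ev 0) s 0 ∈ closure
      {w | w ∈ Q0 m K ∧ w * w = 1 ∧ cm (EE (ev 0) y d * l) w ∈ Z0 m K} := by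
    intro s hs ls
    have ss : hf s s = 0 := by rw [← hs.tr]; simp
    refine subset_closure ⟨(FV.mem_Q _).2 ⟨s, 0, hs, rfl⟩, ?_, ?_⟩
    · rw [EE_mul hs hs, v_add_self, ss]; simp
    · have hs' : Ok (ev 0) s (0 + UA.tr (hf s y)) := ⟨iso0, hs.perp, by rw [zero_add, UA.tr_tr, ss]⟩
      rw [cm, EE_conj hs, ac_mul, ac_mul, l0, ls, ac_EE_self ok, ac_EE_perp ok hs.perp, EE_shift,
        EE_inv hs, EE_mul hs' hs.star, v_add_self]
      refine (FV.mem_Z _).2 ⟨_, ?_, rfl⟩
      simp only [ss, star_zero, add_zero, zero_add, star_tr]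
  obtain ⟨o1, f1⟩ := key (b / (1 + b)) 1 (by simp)
  obtain ⟨o2, f2⟩ := key (1 / (1 + b)) b b1
  refine ⟨_, mul_mem (mem _ o1 f1) (mem _ o2 f2), ?_⟩
  have hs : (b / (1 + b)) • (y + (1 * a) • z) + (1 / (1 + b)) • (y + (b * a) • z) = y := by
    ext i
    simp only [Pi.add_apply, Pi.smul_apply, smul_eq_mul]
    field_simp
    linear_combination b * a * z i * two0 K
  have o3 := o1.add o2
  rw [EE_mul o1 o2]
  rw [hs] at o3 ⊢
  exact fin ok o3 hl l0 ly

end H61.YUS0
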