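import Cfsg.Agent.H78.P6.H62_SP2FY

namespace H62 end H62
open H62
namespace H98 end H98
open H98
namespace H85.P6 end H85.P6
open H85.P6
namespace H85.P6.H62 end H85.P6.H62
open H85.P6.H62
namespace H85.P6.H62.SP2P2b end H85.P6.H62.SP2P2b
open H85.P6.H62.SP2P2b
namespace H85.P6.H98 end H85.P6.H98
open H85.P6.H98
namespace H78.P6


/-! STD-SP chapter II, slot P2b (`q = 2`): the images of the transvections modulo `⟨t⟩ Q₂`. -/

set_option autoImplicit false
set_option linter.unusedSectionVars false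
set_option linter.unusedSimpArgs false

namespace H62.SP2P2b

open H64.SG (Cz Cs Ns)
open H67.UA hiding Par
open H67.SP H78.S2 H62.SP2FY
open H86.SPI (ok pp hf_self hf_comm hf_smul_right' ac_TT TT_conj TT_sq)
open H54.SPI (hf_move exists_hf TT_fix add_eq_iff)
open H54.SPF (hf_evv v1 m1)
open H98 (conj_mem_of_mem_normalizer)
open Matrix Subgroup

universe u

variable {n : ℕ} {F : Type} [Field F] [StarRing F] [TrivialStar F] [CharP F 2] [Finite F]
  [p : Par n F] [FV n F]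

theorem wk_add {a b : Vn n F} (h : Wk 2 a) (h' : Wk 2 b) : Wk 2 (a + b) := fun i hi => by
  rw [Pi.add_apply, h i hi, h' i hi, add_zero]

theorem pl_iff (x : FX n F) {y : Vn n F} : Wk (n + 1 - 2) y ↔ Pl y := by
  rw [FV.wk_perp 2 (by have := p.five; omega)]
  exact ⟨fun h => ⟨h _ ((x.wk _).2 ⟨1, 0, by simp⟩), h _ ((x.wk _).2 ⟨0, 1, by simp⟩)⟩,
    fun h _ hw => hf_Pl x h hw⟩

theorem fixP (x : FX n F) {b : XU n F} (hb : b ∈ P2 n F) {m : Vn n F} (hm : Wk 2 m) : ac b m = m := by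
  obtain ⟨a, c, rfl⟩ := (x.wk m).1 hm
  rw [ac_add, ac_smul, ac_smul, mem_Stab.1 hb.1, mem_Stab.1 hb.2]

theorem memQ (x : FX n F) {g : XU n F} :
    g ∈ Qk n F 2 ↔ g ∈ P2 n F ∧ ∀ v, Pl v → Wk 2 (ac g v + v) := by
  rw [FV.mem_Qk 2 (by have := p.five; omega)]
  simp only [pl_iff x]
  exact and_congr_left' ⟨fun h => ⟨h _ ((x.wk _).2 ⟨1, 0, by simp⟩), h _ ((x.wk _).2 ⟨0, 1, by simp⟩)⟩,
    fun h _ hm => fixP x h hm⟩

theorem pl_move {b : XU n F} (hb : b ∈ P2 n F) (v : Vn n F) : Pl (ac b v + v) :=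
  ⟨hf_move hb.1 v, hf_move hb.2 v⟩

theorem nsQ (x : FX n F) {b : XU n F} (hb : b ∈ P2 n F) : b ∈ Ns (Qk n F 2) :=
  (x.nrm b (by rw [mem_Stab.1 hb.1]; exact (x.wk _).2 ⟨1, 0, by simp⟩)
    (by rw [mem_Stab.1 hb.2]; exact (x.wk _).2 ⟨0, 1, by simp⟩)).1

theorem TT_P {y : Vn n F} (h : Pl y) : TT y ∈ P2 n F := ⟨TT_fix (hf_symm h.1), TT_fix (hf_symm h.2)⟩

/-- A vector orthogonal to `ℓ^⊥` lies in `ℓ`. -/
theorem wk_of {m : Vn n F} (h : ∀ i : Fin (n + 1), i.val + 2 ≤ n → hf m (ev i) = 0) : Wk 2 m :=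
  fun i hi => by simpa [hf_ev_right] using h i.rev (by have := i.2; simp only [Fin.val_rev]; omega)

theorem pl_ev {i : Fin (n + 1)} (h : i.val + 2 ≤ n) : Pl (ev i : Vn n F) := by
  have := p.five
  constructor <;> simp [hf_evv, m1 this] <;> omega

theorem exists_pl {y : Vn n F} (h : ¬ Wk 2 y) : ∃ v, Pl v ∧ hf y v ≠ 0 := by
  obtain ⟨i, hi⟩ := not_forall.1 fun k => h (wk_of k)
  exact ⟨_, pl_ev (Classical.not_imp.1 hi).1, (Classical.not_imp.1 hi).2⟩

theorem zo (h : Nat.card F = 2) (c : F) : c = 0 ∨ c = 1 := by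
  have := Fintype.ofFinite F
  have h1 := FiniteField.pow_card c
  rw [← Nat.card_eq_fintype_card, h] at h1
  grind

/-- The class of a transvection under `Q₂` has at most four elements. -/
theorem four (x : FX n F) (h : Nat.card F = 2) {y : Vn n F} (hy : Pl y) (s : Fin 3 × Fin 3 → XU n F)
    (hs : ∀ i, s i ∈ Qk n F 2) : ∃ i j, i ≠ j ∧ s i * TT y * (s i)⁻¹ = s j * TT y * (s j)⁻¹ := by
  have := Fintype.ofFinite F
  obtain ⟨i, j, e, h1⟩ := Fintype.exists_ne_map_eq_of_card_lt (fun i => (ac (s i) y 0, ac (s i) y 1))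
    (by rw [Fintype.card_prod, ← Nat.card_eq_fintype_card, h]; simp)
  refine ⟨i, j, e, ?_⟩
  rw [TT_conj, TT_conj]
  congr 1
  ext k
  by_cases k0 : k = 0
  · rw [k0]; exact congrArg Prod.fst h1
  by_cases k1 : k = 1
  · rw [k1]; exact congrArg Prod.snd h1
  have k2 : 2 ≤ k.val := by
    rw [Fin.ext_iff, v1 p.five] at k1
    rw [Fin.ext_iff, Fin.val_zero] at k0
    omega
  have a := ((memQ x).1 (hs i)).2 y hy k k2
  have b := ((memQ x).1 (hs j)).2 y hy k k2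
  exact add_right_cancel (a.trans b.symm)

theorem mod_l (x : FX n F) {a a' b : XU n F} (ha : a ∈ Qk n F 2) (ha' : a' ∈ Qk n F 2)
    (hb : b ∈ P2 n F) (h : a * b * a⁻¹ = a' * b * a'⁻¹) {f w : Vn n F}
    (hw : Wk 2 (ac a f + ac a' f + w)) : Wk 2 (ac b w + w) := by
  have two := two0 F
  have hc := (memQ x).1 (mul_mem (inv_mem ha') ha)
  have e : a'⁻¹ * a * b = b * (a'⁻¹ * a) := by
    calc _ = a'⁻¹ * (a * b * a⁻¹) * a := by group
      _ = _ := by rw [h]; group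
  have e1 : ac a' (ac (a'⁻¹ * a) f) = ac a f := by rw [← ac_mul, mul_inv_cancel_left]
  generalize a'⁻¹ * a = c at hc e e1
  have h1 := hc.2 _ (pl_move hb f)
  have h2 := ((memQ x).1 ha').2 _ (pl_move hc.1 f)
  rw [ac_add, e1] at h2
  rw [ac_add, ← ac_mul, e, ac_mul] at h1
  have h3 : Wk 2 (ac c f + f + w) := fun i hi => by
    have := h2 i hi
    have := hw i hi
    simp only [Pi.add_apply] at *
    grind
  have h4 := fixP x hb h3
  intro i hi
  have := h1 i hi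
  have := congrFun h4 i
  simp only [ac_add, Pi.add_apply] at *
  grind

theorem s_mem (x : FX n F) {v v' : Vn n F} (h : Pl v) (h' : Pl v') :
    qq v (ev 0) * qq v' (ev 1) ∈ Qk n F 2 := (x.nf _).2 ⟨v, v', h, h', 1, one_mem _, by simp⟩

theorem s_ac {v v' : Vn n F} (h : Pl v) (h' : Pl v') :
    Wk 2 (ac (qq v (ev 0) * qq v' (ev 1)) (ev (0 : Fin (n + 1)).rev) + ev (0 : Fin (n + 1)).rev + v) ∧
    Wk 2 (ac (qq v (ev 0) * qq v' (ev 1)) (ev (1 : Fin (n + 1)).rev) + ev (1 : Fin (n + 1)).rev + v') := by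
  have two := two0 F
  have h5 := p.five
  have e : (0 : Fin (n + 1)) ≠ 1 := by simp [Fin.ext_iff, m1 h5]
  have e1 : hf (ev 1 : Vn n F) (ev 0) = 0 := by simp [hf_evv, m1 h5]; omega
  constructor <;> intro i hi <;>
    have i0 : i ≠ 0 := (by rintro rfl; simp at hi) <;>
    have i1 : i ≠ 1 := (by rintro rfl; rw [v1 h5] at hi; omega) <;>
    simp only [ac_mul, ac_qq' h.1, ac_qq' h'.2, hf_add_left, hf_smul_left, e1, h'.1, hf_ev, Fin.rev_rev,
      Pi.add_apply, Pi.smul_apply, smul_eq_mul, ev_apply 0, ev_apply 1, i0, i1, e, e.symm, if_true,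
      if_false] <;> grind

/-- An element of `P` whose class under `Q₂` is small is a transvection modulo `Q₂`. -/
theorem tv (x : FX n F) (h : Nat.card F = 2) {b : XU n F} (hb : b ∈ P2 n F) (h1 : b ∉ Qk n F 2)
    (h2 : ∀ s : Fin 3 × Fin 3 → XU n F, (∀ i, s i ∈ Qk n F 2) →
      ∃ i j, i ≠ j ∧ s i * b * (s i)⁻¹ = s j * b * (s j)⁻¹) :
    ∃ y, Og y ∧ ∃ a ∈ Qk n F 2, b = TT y * a := by
  have two := two0 F
  obtain ⟨v₁, p1, p2⟩ : ∃ v, Pl v ∧ ¬ Wk 2 (ac b v + v) := by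
    by_contra! k
    exact h1 ((memQ x).2 ⟨hb, k⟩)
  have hy : Og (ac b v₁ + v₁) := ⟨pl_move hb _, p2⟩
  have k1 : ∀ v, Pl v → ∃ φ : F, Wk 2 (ac b v + v + φ • (ac b v₁ + v₁)) := fun v hv => by
    by_contra! k
    let w : Fin 3 → Vn n F := ![0, v₁, v]
    have hw : ∀ i, Pl (w i) := fun i => by
      fin_cases i
      exacts [⟨hf_zero_left _, hf_zero_left _⟩, p1, hv]
    have k0 : ¬ Wk 2 (ac b v + v) := by simpa using k 0
    have k2 : ¬ Wk 2 (ac b (v + v₁) + (v + v₁)) := by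
      have := k 1
      rwa [one_smul, add_add_add_comm, ← ac_add] at this
    have hi : ∀ i j, Wk 2 (ac b (w i + w j) + (w i + w j)) → i = j := fun i j => by
      fin_cases i <;> fin_cases j <;> simp [w, k0, k2, p2, add_comm v₁ v]
    obtain ⟨i, j, e, h3⟩ := h2 (fun i => qq (w i.1) (ev 0) * qq (w i.2) (ev 1))
      fun i => s_mem x (hw _) (hw _)
    have k3 := fun f w => mod_l x (s_mem x (hw _) (hw _)) (s_mem x (hw _) (hw _)) hb h3 (f := f) (w := w)
    refine e (Prod.ext (hi _ _ (k3 (ev (0 : Fin (n + 1)).rev) _ fun l hl => ?_))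
      (hi _ _ (k3 (ev (1 : Fin (n + 1)).rev) _ fun l hl => ?_)))
    · have a1 := (s_ac (hw i.1) (hw i.2)).1 l hl
      have a2 := (s_ac (hw j.1) (hw j.2)).1 l hl
      simp only [Pi.add_apply] at a1 a2 ⊢
      linear_combination a1 + a2 - ev (0 : Fin (n + 1)).rev l * two
    · have a1 := (s_ac (hw i.1) (hw i.2)).2 l hl
      have a2 := (s_ac (hw j.1) (hw j.2)).2 l hl
      simp only [Pi.add_apply] at a1 a2 ⊢
      linear_combination a1 + a2 - ev (1 : Fin (n + 1)).rev l * two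
  obtain ⟨y, e⟩ : ∃ y, ac b v₁ = v₁ + y := ⟨ac b v₁ + v₁, by rw [add_left_comm, v_add_self, add_zero]⟩
  rw [e, add_right_comm, v_add_self, zero_add] at hy k1
  have k2 : ∀ v, Pl v → ∀ φ : F, Wk 2 (ac b v + v + φ • y) →
      hf y v = φ * hf v₁ y ∧ hf (ac b v) y = hf y v := fun v hv φ hφ => by
    have a1 := hf_ac b v₁ v
    have a2 := hf_Pl x p1 hφ
    have a3 := hf_Pl x hy.1 hφ
    rw [e] at a1
    simp only [hf_add_left, hf_add_right, hf_smul_right', hf_self, hf_comm (ac b v) y] at *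
    grind
  have k3 : hf v₁ y = 1 := by
    obtain ⟨v, hv, a⟩ := exists_pl hy.2
    obtain ⟨φ, hφ⟩ := k1 v hv
    exact (zo h _).resolve_left fun k => a (by rw [(k2 v hv φ hφ).1, k, mul_zero])
  refine ⟨y, hy, TT y * b, (memQ x).2 ⟨mul_mem (TT_P hy.1) hb, fun v hv => ?_⟩,
    by rw [← mul_assoc, TT_sq, one_mul]⟩
  obtain ⟨φ, hφ⟩ := k1 v hv
  obtain ⟨a1, a2⟩ := k2 v hv φ hφ
  rwa [ac_mul, ac_TT, a2, a1, k3, mul_one, add_right_comm]

theorem sq_iff (x : FX n F) (h : Nat.card F = 2) {y y' : Vn n F} (hy : Pl y') :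
    TT y * TT y' * (TT y * TT y') ∈ Qk n F 2 ↔ hf y y' = 0 := by
  refine ⟨fun k => (zo h _).resolve_right fun e => ?_, fun e => ?_⟩
  · have := hf_Pl x hy (((memQ x).1 k).2 _ hy)
    simp [ac_mul, ac_TT, hf_add_left, hf_add_right, hf_smul_left, hf_smul_right', hf_self,
      hf_comm y' y, e, add_assoc, CharTwo.add_self_eq_zero] at this
  · have := TT_conj (TT y) y'
    rw [TT_fix (hf_symm e), inv_eq_of_mul_eq_one_right (TT_sq y)] at this
    rw [← mul_assoc, this, TT_sq]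
    exact one_mem _

theorem sq_mod {X : Type*} [Group X] {Q : Subgroup X} {a b c d : X} (ha : a ∈ Ns Q) (hb : b ∈ Ns Q)
    (hc : c ∈ Q) (hd : d ∈ Q) : a * c * (b * d) * (a * c * (b * d)) ∈ Q ↔ a * b * (a * b) ∈ Q := by
  have h1 := mul_mem (conj_mem_of_mem_normalizer (inv_mem hb) hc) hd
  rw [show a * c * (b * d) * (a * c * (b * d)) = a * b * (a * b) *
    ((a * b)⁻¹ * (b⁻¹ * c * b⁻¹⁻¹ * d) * (a * b)⁻¹⁻¹ * (b⁻¹ * c * b⁻¹⁻¹ * d)) by group]
  exact mul_mem_cancel_right (mul_mem (conj_mem_of_mem_normalizer (inv_mem (mul_mem ha hb)) h1) h1)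

variable {G : Type u} [Group G] {e : XU n F →* G} {t : G}

theorem Te.mul (v : BV e t) {g g' : G} {a a' : XU n F} (h : Te e t g a) (h' : Te e t g' a') :
    Te e t (g * g') (a * a') := by
  rcases h with rfl | rfl <;> rcases h' with rfl | rfl <;> rw [Te, map_mul]
  · exact .inl rfl
  · exact .inr (by rw [← mul_assoc, ← v.cen, mul_assoc])
  · exact .inr (mul_assoc ..)
  · exact .inl (by rw [mul_assoc, ← mul_assoc (e a), ← v.cen, ← mul_assoc, ← mul_assoc, v.tt, one_mul])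

theorem Te.sq (v : BV e t) {g : G} {a : XU n F} (h : Te e t g a) : g * g = e (a * a) := by
  rcases h with rfl | rfl <;> rw [map_mul]
  rw [mul_assoc, ← mul_assoc (e a), ← v.cen, ← mul_assoc, ← mul_assoc, v.tt, one_mul]

theorem Te.cj (v : BV e t) {g : G} {a : XU n F} (h : Te e t g a) (s : XU n F) :
    Te e t (e s * g * (e s)⁻¹) (s * a * s⁻¹) := by
  simpa using Te.mul v (Te.mul v (.inl rfl) h) (.inl rfl : Te e t _ s⁻¹)

theorem Te.uq (v : BV e t) {g : G} {a a' : XU n F} (h : Te e t g a) (h' : Te e t g a') : a = a' := by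
  rcases h with rfl | rfl <;> rcases h' with h | h
  · exact v.inj h
  · exact absurd (by rw [map_mul, map_inv, h, mul_inv_cancel_right]) (v.ne (a * a'⁻¹))
  · exact absurd (by rw [map_mul, map_inv, ← h, mul_inv_cancel_right]) (v.ne (a' * a⁻¹))
  · exact v.inj (mul_left_cancel h)

theorem jobP2b : JobP2b.{u} := fun n F _ _ _ _ _ p G _ _ e t b _ x _ v k h g g1 g2 => by
  have h5 := p.five
  have gi := k.inv g g1
  have qi : ∀ a a', g * e a * g⁻¹ = e a' → (a ∈ Qk n F 2 ↔ a' ∈ Qk n F 2) := fun a a' e1 =>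
    ⟨fun ha => let ⟨_, h1, h2⟩ := k.qq g g1 a ha; v.inj (e1.symm.trans h2) ▸ h1, fun ha => by
      obtain ⟨c, h1, h2⟩ := k.qq _ gi a' ha
      rwa [v.inj (show e a = e c by rw [← h2, ← e1]; group)]⟩
  have k1 : ∀ y, Og y → ∃ y', Og y' ∧ ∃ a ∈ Qk n F 2, Te e t (g * e (TT y) * g⁻¹) (TT y' * a) :=
    fun y hy => by
      obtain ⟨b', b1, b2⟩ := k.pp g g1 _ (TT_P hy.1)
      obtain ⟨y', y1, a, ha, rfl⟩ := tv x h b1 (fun hb => by
        rcases b2 with b2 | b2
        · obtain ⟨w, w1, w2⟩ := exists_pl hy.2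
          have := ((memQ x).1 ((qi _ _ b2).2 hb)).2 w w1
          rw [ac_TT, hf_comm, (zo h _).resolve_left w2, one_smul, add_right_comm, v_add_self,
            zero_add] at this
          exact hy.2 this
        · obtain ⟨c, hc⟩ := gi.tz
          obtain ⟨a, -, ha⟩ := k.qq _ gi _ hb
          refine v.ne (TT y * a⁻¹ * (zs c)⁻¹) ?_
          rw [map_mul, map_mul, map_inv, map_inv, ← ha, eq_mul_inv_iff_mul_eq, ← hc,
            eq_mul_inv_iff_mul_eq, show e (TT y) = g⁻¹ * (g * e (TT y) * g⁻¹) * g by group, b2]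
          group) fun s hs => by
        choose s' s1 s2 using fun i => k.qq _ gi _ (hs i)
        obtain ⟨i, j, e1, e2⟩ := four x h hy.1 s' s1
        refine ⟨i, j, e1, Te.uq v (Te.cj v b2 (s i)) ?_⟩
        have e3 := congrArg (fun a => g * e a * g⁻¹) e2
        simp only [map_mul, map_inv, ← s2] at e3
        convert Te.cj v b2 (s j) using 1
        calc _ = _ := by group
          _ = _ := e3
          _ = _ := by group
      exact ⟨y', y1, a, ha, b2⟩
  choose! f f1 a a1 a2 using k1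
  have k2 : ∀ y y', Og y → Og y' → hf (f y) (f y') = hf y y' := fun y y' hy hy' => by
    have e1 := Te.sq v (Te.mul v (a2 y hy) (a2 y' hy'))
    have e2 := qi (TT y * TT y' * (TT y * TT y')) _ (Eq.trans (by simp only [map_mul]; group) e1)
    rw [sq_mod (nsQ x (TT_P (f1 y hy).1)) (nsQ x (TT_P (f1 y' hy').1)) (a1 y hy) (a1 y' hy'),
      sq_iff x h hy'.1, sq_iff x h (f1 y' hy').1] at e2
    rcases zo h (hf y y') with e3 | e3
    · rw [e3, e2.1 e3]
    · rw [e3]; exact (zo h _).resolve_left fun e4 => by simp [e2.2 e4] at e3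
  have k3 : ∀ i, W0 (ev i : Vn n F) → Og (ev i : Vn n F) := fun i hi => ⟨hi.1, fun hw => by
    obtain ⟨c, d, e1⟩ := (x.wk _).1 hw
    have e2 := hi.2.1
    have e3 := hi.2.2
    rw [e1] at e2 e3
    simp [ev_apply, Fin.ext_iff, m1 h5] at e2 e3
    exact ev_ne i (by rw [e1, e2, e3]; simp)⟩
  obtain ⟨r, r1, r2⟩ := x.bas (fun i => f (ev i)) (fun i hi => (f1 _ (k3 i hi)).1)
    fun i j hi hj => k2 _ _ (k3 i hi) (k3 j hj)
  have ri := inv_mem r1
  refine ⟨e r⁻¹ * g, k.mul _ _ (k.ofX _ (by rw [mem_Stab.1 ri.1]; exact (x.wk _).2 ⟨1, 0, by simp⟩)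
    (by rw [mem_Stab.1 ri.2]; exact (x.wk _).2 ⟨0, 1, by simp⟩)) g1, fun e1 => g2 ?_, fun y hy => ?_⟩
  · calc _ = (e r⁻¹)⁻¹ * (e r⁻¹ * g * t * (e r⁻¹ * g)⁻¹) * e r⁻¹ := by group
      _ = _ := by rw [e1, mul_assoc, v.cen, inv_mul_cancel_left]
  · have m0 : Pl (ac r⁻¹ (f y) + y) := by
      have := Pl.add (Pl.add (pl_move ri (f y)) (f1 y hy).1) hy.1
      rwa [add_assoc (ac r⁻¹ (f y)), v_add_self, add_zero] at this
    have m1 : Wk 2 (ac r⁻¹ (f y) + y) := wk_of fun i hi => by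
      by_cases i0 : i = 0
      · exact i0 ▸ m0.1
      by_cases i1 : i = 1
      · exact i1 ▸ m0.2
      have w : W0 (ev i : Vn n F) :=
        ⟨pl_ev hi, by simp [ev_apply, Ne.symm i0], by simp [ev_apply, Ne.symm i1]⟩
      rw [hf_add_left, hf_ac_left, inv_inv, r2 i w, k2 _ _ hy (k3 i w), CharTwo.add_self_eq_zero]
    have m2 := TT_TT (hf_Pl x hy.1 m1)
    have m3 := FV.EE_Q 2 (by have := p.five; omega) _ _ 1 m1 ((pl_iff x).2 hy.1)
    rw [← m2, add_left_comm, v_add_self, add_zero] at m3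
    refine ⟨_, mul_mem m3 (conj_mem_of_mem_normalizer (nsQ x ri) (a1 y hy)), ?_⟩
    convert Te.cj v (a2 y hy) r⁻¹ using 1
    · group
    · rw [← mul_assoc, ← mul_assoc (TT y), TT_sq, one_mul, ← TT_conj]; group

end H62.SP2P2b
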