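import Cfsg.Agent.H78.P6.H78_S2Def

namespace H6 end H6
open H6
namespace H85.P6 end H85.P6
open H85.P6
namespace H85.P6.H6 end H85.P6.H6
open H85.P6.H6
namespace H85.P6.H6.Sp2P1 end H85.P6.H6.Sp2P1
open H85.P6.H6.Sp2P1
namespace H78.P6


/-! STD-SP chapter II, slot P1: an element of `N*` that moves `t`. -/

set_option autoImplicit false
set_option linter.unusedSectionVars false

namespace H6.Sp2P1

open H64.SG (Cz Cs Ns cjs IsO2 mem_Cz)
open H67.UA hiding Par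
open H67.SP H78.S2
open H59.SO
open Subgroup

universe u

theorem ns_O2 {X : Type} [Group X] {G : Type u} [Group G] [Finite G] {e : X →* G} {A B : Subgroup X}
    {g : G} (hk : Function.Injective e) (h : IsO2 A B) (hg : g ∈ Ns (B.map e)) :
    g ∈ Ns (A.map e) := by
  have h1 : cjs g (B.map e) = B.map e := H98.cj_eq_self hg
  have h2 : cjs g (A.map e) ≤ B.map e := h1 ▸ map_mono (map_mono h.1)
  have h3 : B.map e ≤ Ns (cjs g (A.map e)) := by
    rw [← H64.SG.cj_Ns, ← h1]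
    exact map_mono (by rintro _ ⟨b, hb, rfl⟩; exact map_mem_Ns (h.2.1 hb))
  refine H98.mem_normalizer_of_cj_le fun a ha => ?_
  obtain ⟨b, hb, rfl⟩ := h2 ha
  refine ⟨b, h.2.2.2 ((cjs g (A.map e)).comap e) (fun c hc => (mem_map_e hk).1 (h2 hc))
    (fun c hc => mem_normalizer_iff.2 fun d => ?_) (isP_comap hk ((h.2.2.1.map _).map _)) ha, rfl⟩
  rw [mem_comap, mem_comap, map_mul, map_mul, map_inv]
  exact mem_normalizer_iff.1 (h3 ⟨c, hc, rfl⟩) _

theorem jobP1 : JobP1.{u} := by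
  intro n F _ _ _ _ _ _ G _ _ e t b c _ fy H ⟨g, h1, h2⟩
  have h3 : g * e (xa n F) * g⁻¹ = e (xa n F) := by rw [h2, mul_inv_cancel_right]
  have ed := (ab H.toCE.b0).edge g _ _ h1 h3
  have hP : g ∈ Ns ((Pc (CC n F)).map e) := H98.mem_normalizer_of_cj_le ed.le
  have o2 : IsO2 (Qk n F 2) (Pc (CC n F)) := FC.o2
  have x1 : xa n F ≠ 1 := ((FR.rk _).2.1.1 ((FR.sr _).2 (IsConj.refl _))).1.2
  have x2 : xa n F * xa n F = 1 := ((FR.rk _).2.1.1 ((FR.sr _).2 (IsConj.refl _))).1.1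
  have zC : xa n F ∈ CC n F := mem_Cz.2 rfl
  refine ⟨g, ⟨⟨1, by rw [zs, one_smul, h1]⟩, H98.mem_normalizer_of_cj_le ?_, ns_O2 H.inj o2 hP⟩,
    fun h => x1 (H.inj (by rw [map_one, ← mul_right_inj t, ← h1, h, mul_one]))⟩
  rw [H98.cj, Subgroup.map_sup, MonoidHom.map_zpowers]
  refine sup_le (zpowers_le.2 ?_) ?_
  · change g * t * g⁻¹ ∈ _
    rw [h1]
    exact mul_mem (mem_sup_left (mem_zpowers t)) (mem_sup_right ⟨_, zC, rfl⟩)
  have hq : Nat.card F = 2 := H.q2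
  · rintro _ ⟨_, ⟨p, hp, rfl⟩, rfl⟩
    change g * e p * g⁻¹ ∈ _
    have k1 : e (xa n F) * (g * e p * g⁻¹) = g * e p * g⁻¹ * e (xa n F) := by
      rw [← h3, conj_mul, conj_mul, ← map_mul, mem_Cz.1 hp, map_mul]
    have k2 : g * e p * g⁻¹ ∈ Cz t := mem_Cz.2 (mul_right_cancel (b := e (xa n F)) (by
      rw [mul_assoc t, ← k1, ← mul_assoc t, mul_assoc _ t, ← h1, conj_mul, conj_mul, H.toB1.comm]))
    obtain ⟨β, hβ⟩ := exists_ind H.inj (H.cz k2)
    obtain ⟨s, rfl⟩ := FA.two hq β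
    have k3 : s ∈ CC n F := mem_Cz.2 (by
      have := (hβ.comm_iff H.inj).1 k1.symm
      rw [MulAut.conj_apply, mul_inv_eq_iff_eq_mul] at this
      exact this.symm)
    have k4 : e s ∈ zpowers t ⊔ (CC n F).map e := mem_sup_right ⟨s, k3, rfl⟩
    rcases H.ck _ (mul_mem k2 (inv_mem (H.toB1.mem_Cz s))) (ind_conj_iff.1 hβ) with k5 | k5
    · rwa [mul_inv_eq_one.1 k5]
    · rw [mul_inv_eq_iff_eq_mul.1 k5]
      exact mul_mem (mem_sup_left (mem_zpowers t)) k4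

end H6.Sp2P1
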