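import Cfsg.Agent.H78.P6.H78_YUDef

namespace H67 end H67
open H67
namespace H70 end H70
open H70
namespace H67.P6 end H67.P6
open H67.P6
namespace H67.P6.H67 end H67.P6.H67
open H67.P6.H67
namespace H67.P6.H70 end H67.P6.H70
open H67.P6.H70
namespace H67.P6.H70.YUPT end H67.P6.H70.YUPT
open H67.P6.H70.YUPT
namespace H85.P6 end H85.P6
open H85.P6
namespace H85.P6.H67 end H85.P6.H67
open H85.P6.H67
namespace H85.P6.H70 end H85.P6.H70
open H85.P6.H70
namespace H85.P6.H70.YUPT end H85.P6.H70.YUPT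
open H85.P6.H70.YUPT
namespace H78.P6


/-! STD-SP endgame, unitary models: `JobPT` (the rank pattern of `v Z`). -/

set_option autoImplicit false
set_option linter.unusedSectionVars false

namespace H70.YUPT

open H64.SG (Cs)
open H67 H67.UA H64.YE H78.YU Subgroup
open H59.UM (Tc_eq_TT dual v1 v2)

variable {m : ℕ} {K : Type} [Field K] [StarRing K] [CharP K 2] [Finite K] [hp : Par m K]

variable (m K) in
/-- a product of two commuting roots that is not a root and not `1` -/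
def R2 (g : XU m K) : Prop :=
  (∃ s t, IsConj (r0 m K) s ∧ IsConj (r0 m K) t ∧ s * t = t * s ∧ g = s * t) ∧
    ¬ IsConj (r0 m K) g ∧ g ≠ 1

theorem R2.tp (h : R0 m K) {g g' : XU m K} (a : Ac g g') (r : R2 m K g) : R2 m K g' := by
  obtain ⟨β, rfl⟩ := a
  obtain ⟨⟨s, t, h1, h2, h3, rfl⟩, h4, h5⟩ := r
  refine ⟨⟨β s, β t, h.ra β s h1, h.ra β t h2, by rw [← map_mul, h3, map_mul], map_mul _ _ _⟩,
    fun k => h4 ?_, fun k => h5 (β.injective (k.trans (map_one β).symm))⟩
  simpa using h.ra β⁻¹ _ k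

theorem tc_root (h : R0 m K) {w : Vn m K} (hw : Iso w) {d : K} (hd : star d = d) :
    Tc d w = 1 ∨ IsConj (r0 m K) (Tc d w) := by
  obtain ⟨a, e⟩ := Tc_eq_TT hd w
  by_cases k : a • w = 0
  · left
    rw [e, k]
    exact ac_ext fun y => by rw [ac_Tc (by simp [Iso]) (star_one K)]; simp
  · exact Or.inr ((h.rt _).2 ⟨_, k, hw.smul a, e⟩)

theorem ac_TT2 {a b : Vn m K} (p : Pp a b) (z : Vn m K) :
    ac (TT a * TT b) z = z + hf z a • a + hf z b • b := by
  rw [ac_mul, ac_Tc p.r (star_one K), ac_Tc p.l (star_one K), hf_add_left, hf_smul_left, p.symm.p]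
  simp only [one_mul, mul_zero, add_zero]
  abel

theorem r2_EE (h : R0 m K) {y : Vn m K} {c : K} (o : Ok (ev 0) y c) (hy : Iso y)
    (hn : ∀ a : K, y ≠ a • ev 0) : R2 m K (EE (ev 0) y c) := by
  have hc : star c = c := tr_eq_zero.1 (o.tr.trans hy)
  have p0 : Pp (ev 0 : Vn m K) y := ⟨iso0, hy, hf_symm o.perp⟩
  have pp : ∀ α β : K, Pp (α • (ev 0 : Vn m K) + y) (β • ev 0 + y) := fun α β => by
    refine ⟨?_, ?_, ?_⟩ <;>
    simp [Iso, hf_add_left, hf_add_right, hf_smul_left, hf_smul_right, show hf (ev 0 : Vn m K) (ev 0) = 0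
      from iso0, show hf y y = 0 from hy, o.perp, p0.p]
  have ne : ∀ α : K, α • (ev 0 : Vn m K) + y ≠ 0 := fun α e => hn α (by
    rw [← add_zero y, ← v_add_self (α • ev 0), ← add_assoc, add_comm y, e, zero_add])
  obtain ⟨α, hα⟩ := H59.UM.exists_tr (c := c + 1) (by rw [star_add, hc, star_one])
  have key : ∀ β γ : K, β + γ = 1 → tr β = c + 1 →
      EE (ev 0) y c = TT (β • (ev 0 : Vn m K) + y) * TT (γ • ev 0 + y) := fun β γ e1 e2 => by
    obtain rfl : γ = β + 1 := by linear_combination e1 - β * two0 K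
    refine ac_ext fun z => ?_
    rw [ac_TT2 (pp _ _), ac_EE o]
    simp only [hf_add_right, hf_smul_right, star_add, star_one]
    ext i
    simp only [Pi.add_apply, Pi.smul_apply, smul_eq_mul]
    simp only [UA.tr] at e2
    linear_combination (-(hf z (ev 0) * (ev 0 : Vn m K) i)) * e2 -
      (star β * β * hf z (ev 0) * (ev 0 : Vn m K) i + β * hf z y * (ev 0 : Vn m K) i +
        star β * hf z (ev 0) * y i + hf z y * y i + hf z (ev 0) * (ev 0 : Vn m K) i) * two0 K
  obtain ⟨z, z1, z2⟩ : ∃ z : Vn m K, hf z (ev 0) = 0 ∧ hf z y ≠ 0 := by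
    by_contra k
    push Not at k
    obtain ⟨a, ha⟩ := dual (u := ev 0) (x := y) fun z hz => by rw [k z hz]; simp
    exact hn a ha
  have e1 := ac_EE_perp o z1
  have rt : ∀ β : K, IsConj (r0 m K) (TT (β • (ev 0 : Vn m K) + y)) := fun β =>
    (h.rt _).2 ⟨_, ne β, (pp β β).l, rfl⟩
  refine ⟨⟨_, _, rt α, rt (α + 1), ?_, key α (α + 1) ?_ hα⟩, fun k => ?_, fun k => ?_⟩
  · rw [← key α (α + 1) (by linear_combination α * two0 K) hα, ← key (α + 1) α
      (by linear_combination α * two0 K) (by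
        simp only [UA.tr, star_add, star_one] at hα ⊢; linear_combination hα + two0 K)]
  · linear_combination α * two0 K
  · obtain ⟨w, -, hw, e⟩ := (h.rt _).1 k
    have e2 := ac_EE o (ev (SA.la m))
    rw [e, ac_Tc hw (star_one K), add_right_inj] at e1
    rw [e, ac_Tc hw (star_one K), H59.UM.hfL0] at e2
    have l0 : (1 * hf z w) ≠ 0 := fun k => z2 ((smul_eq_zero.1 (by rw [← e1, k, zero_smul])).resolve_right
      (ev_ne 0))
    refine hn (1 * hf (ev (SA.la m)) w * (1 * hf z w)⁻¹ * hf z y + hf (ev (SA.la m)) y + c) ?_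
    ext i
    have f1 := congrFun e1 i
    have f2 := congrFun e2 i
    simp only [Pi.add_apply, Pi.smul_apply, smul_eq_mul] at f1 f2 ⊢
    have f3 : w i = (1 * hf z w)⁻¹ * (hf z y * (ev 0 : Vn m K) i) := by
      rw [← f1, inv_mul_cancel_left₀ l0]
    rw [f3] at f2
    linear_combination -f2 - (hf (ev (SA.la m)) y * (ev 0 : Vn m K) i + c * (ev 0 : Vn m K) i) * two0 K
  · rw [k, ac_one, left_eq_add] at e1
    exact z2 ((smul_eq_zero.1 e1).resolve_right (ev_ne 0))

/-- The two roots. -/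
theorem R2.vec (h : R0 m K) {g : XU m K} (r : R2 m K g) :
    ∃ a b, Pp a b ∧ Li a b ∧ g = TT a * TT b := by
  obtain ⟨⟨s, t, h1, h2, h3, rfl⟩, h4, h5⟩ := r
  obtain ⟨a, a0, ha, rfl⟩ := (h.rt _).1 h1
  obtain ⟨b, b0, hb, rfl⟩ := (h.rt _).1 h2
  have p : hf b a = 0 := by
    by_contra k
    have e : TT (ac (TT a) b) = TT b :=
      (Tc_conj hb (star_one K) _).symm.trans (by rw [h3, mul_inv_cancel_right])
    have e1 := congrArg (fun g => ac g b) e
    simp only [ac_Tc hb (star_one K), ac_Tc (hb.ac _) (star_one K), show hf b b = 0 from hb, mul_zero,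
      zero_smul, add_right_inj] at e1
    rw [ac_Tc ha (star_one K), hf_add_right, hf_smul_right, show hf b b = 0 from hb] at e1
    have e2 := (smul_eq_zero.1 e1).resolve_left (by simpa using k)
    have e3 := congrArg (fun u => hf u a) e2
    simp only [hf_add_left, hf_smul_left, show hf a a = 0 from ha, mul_zero, add_zero,
      hf_zero_left] at e3
    exact k e3
  refine ⟨a, b, ⟨ha, hb, hf_symm p⟩, fun c d e => ?_, rfl⟩
  by_cases d0 : d = 0
  · rw [d0, zero_smul, add_zero] at e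
    exact ⟨(smul_eq_zero.1 e).resolve_right a0, d0⟩
  exfalso
  have e1 : b = (d⁻¹ * c) • a := by
    ext i
    have := congrFun e i
    simp only [Pi.add_apply, Pi.smul_apply, smul_eq_mul, Pi.zero_apply] at this ⊢
    field_simp
    linear_combination this - c * a i * two0 K
  have s1 : star (nm (d⁻¹ * c) * 1) = nm (d⁻¹ * c) * 1 := by rw [mul_one, star_nm]
  rw [e1, TT, TT, Tc_smul, ← Tc_add ha (star_one K) s1] at h4 h5
  exact (tc_root h ha (by rw [star_add, star_one, s1])).elim h5 h4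

omit hp in
theorem not_li3 {u a b a' b' : Vn m K} (l : Li3 u a b) {p₁ q₁ p₂ q₂ p₃ q₃ k : K} (hk : k ≠ 0)
    (e1 : u = p₁ • a' + q₁ • b') (e2 : a = p₂ • a' + q₂ • b') (e3 : k • b = p₃ • a' + q₃ • b') :
    False := by
  have f : ∀ i, u i = p₁ * a' i + q₁ * b' i ∧ a i = p₂ * a' i + q₂ * b' i ∧
      k * b i = p₃ * a' i + q₃ * b' i := fun i => ⟨congrFun e1 i, congrFun e2 i, congrFun e3 i⟩
  have h3 := (l (p₂ * q₃ - p₃ * q₂) (p₃ * q₁ - p₁ * q₃) ((p₁ * q₂ - p₂ * q₁) * k) (by
    ext i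
    obtain ⟨f1, f2, f3⟩ := f i
    simp only [Pi.add_apply, Pi.smul_apply, smul_eq_mul, Pi.zero_apply]
    linear_combination (p₂ * q₃ - p₃ * q₂) * f1 + (p₃ * q₁ - p₁ * q₃) * f2 +
      (p₁ * q₂ - p₂ * q₁) * f3)).2.2
  have h4 := (mul_eq_zero.1 h3).resolve_right hk
  have h5 := (l p₂ (-p₁) 0 (by
    ext i
    obtain ⟨f1, f2, -⟩ := f i
    simp only [Pi.add_apply, Pi.smul_apply, smul_eq_mul, Pi.zero_apply]
    linear_combination p₂ * f1 - p₁ * f2 - b' i * h4)).2.1
  have h6 := (l q₂ (-q₁) 0 (by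
    ext i
    obtain ⟨f1, f2, -⟩ := f i
    simp only [Pi.add_apply, Pi.smul_apply, smul_eq_mul, Pi.zero_apply]
    linear_combination q₂ * f1 - q₁ * f2 + a' i * h4)).2.1
  have := (l 1 0 0 (by
    rw [e1, neg_eq_zero.1 h5, neg_eq_zero.1 h6]; simp)).1
  exact one_ne_zero this

/-- `e₀` lies in the span of `a`, `b`. -/
theorem dep {a b a' b' : Vn m K} (p : Pp a b) (pa : Pp (ev 0) a) (pb : Pp (ev 0) b)
    (e : ∀ z, hf z a • a + hf z b • b + hf z (ev 0) • (ev 0 : Vn m K) =
      hf z a' • a' + hf z b' • b') : ¬ Li3 (ev 0) a b := fun l => by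
  obtain ⟨g, k, k0, g0, g1, g2⟩ := H59.UM.w3 pa pb p l
  have h5 := hp.five
  have n01 : (0 : Fin (m + 1)) ≠ 1 := fun e => by
    have := congrArg Fin.val e; rw [v1 h5] at this; simp at this
  have n02 : (0 : Fin (m + 1)) ≠ 2 := fun e => by
    have := congrArg Fin.val e; rw [v2 h5] at this; simp at this
  have n12 : (1 : Fin (m + 1)) ≠ 2 := fun e => by
    have := congrArg Fin.val e; rw [v1 h5, v2 h5] at this; simp at this
  have d : ∀ i : Fin (m + 1), hf (ac g (ev i.rev)) (ev 0) = (if 0 = i then 1 else 0) ∧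
      hf (ac g (ev i.rev)) a = (if 1 = i then 1 else 0) ∧
      hf (ac g (ev i.rev)) b = star k * (if 2 = i then 1 else 0) := fun i => by
    refine ⟨?_, ?_, ?_⟩
    · conv_lhs => rw [← g0]
      rw [hf_ac, hf_ev, Fin.rev_rev]
    · rw [← g1, hf_ac, hf_ev, Fin.rev_rev]
    · rw [← g2, hf_ac, hf_smul_right, hf_ev, Fin.rev_rev]
  have e0 := e (ac g (ev (0 : Fin (m + 1)).rev))
  have e1 := e (ac g (ev (1 : Fin (m + 1)).rev))
  have e2 := e (ac g (ev (2 : Fin (m + 1)).rev))
  rw [(d _).1, (d _).2.1, (d _).2.2] at e0 e1 e2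
  simp only [n01, n02, n12, n01.symm, n02.symm, n12.symm, if_true, if_false, zero_smul, mul_zero,
    one_smul, zero_add, add_zero, mul_one] at e0 e1 e2
  exact not_li3 l (by simpa using k0) e0 e1 e2

theorem fin (h : R0 m K) {v : XU m K} {a b : Vn m K} (pa : Pp (ev 0) a) {l μ : K}
    (hb : b = l • ev 0 + μ • a) (e : ∀ z, ac v z = z + hf z a • a + hf z b • b)
    (r : ∀ c, star c = c → R2 m K (v * Tc c (ev 0))) : v ∈ Q0 m K := by
  have a0 : hf (ev 0 : Vn m K) a = 0 := pa.p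
  have i0 : hf (ev 0 : Vn m K) (ev 0) = 0 := iso0
  by_cases D : 1 + μ * star μ = 0
  · have o : Ok (ev 0 : Vn m K) ((star l * μ) • a) (nm l) := ⟨iso0, by
      rw [hf_smul_left, pa.symm.p, mul_zero], by rw [tr_eq_zero.2 (star_nm l)]; exact (pa.r.smul _).symm⟩
    refine (FV.mem_Q _).2 ⟨_, _, o, ac_ext fun z => ?_⟩
    rw [e, ac_EE o, hb]
    simp only [hf_add_right, hf_smul_right, star_mul', star_star]
    ext i
    simp only [Pi.add_apply, Pi.smul_apply, smul_eq_mul, UA.nm]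
    linear_combination hf z a * a i * D
  exfalso
  obtain ⟨d, hd⟩ : ∃ d, d = 1 + μ * star μ := ⟨_, rfl⟩
  rw [← hd] at D
  have sd : star d = d := by rw [hd, star_add, star_one, star_nm]
  have sc : star (l * star l + l * star l * (μ * star μ) * d⁻¹) =
      l * star l + l * star l * (μ * star μ) * d⁻¹ := by
    simp only [star_add, star_mul', star_star, star_inv₀, sd]; ring
  have iw : Iso (a + (l * star μ * d⁻¹) • (ev 0 : Vn m K)) := by
    simpa using (pa.symm.smul 1 (l * star μ * d⁻¹)).iso_add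
  have e1 : v * Tc (l * star l + l * star l * (μ * star μ) * d⁻¹) (ev 0) =
      Tc d (a + (l * star μ * d⁻¹) • ev 0) := ac_ext fun z => by
    rw [ac_mul, e, ac_Tc iso0 sc, ac_Tc iw sd, hb]
    simp only [hf_add_left, hf_add_right, hf_smul_left, hf_smul_right, star_mul', star_star, a0, i0,
      star_inv₀, sd, mul_zero, add_zero]
    ext i
    simp only [Pi.add_apply, Pi.smul_apply, smul_eq_mul]
    have dd : d * d⁻¹ = 1 := mul_inv_cancel₀ D
    linear_combination -(hf z a * a i) * hd + l * star l * hf z (ev 0) * (ev 0 : Vn m K) i * two0 K -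
      (hf z a * l * star μ * (ev 0 : Vn m K) i + star l * μ * hf z (ev 0) * a i +
        l * star l * μ * star μ * d⁻¹ * hf z (ev 0) * (ev 0 : Vn m K) i) * dd
  obtain ⟨-, r1, r2⟩ := r _ sc
  rw [e1] at r1 r2
  exact (tc_root h iw sd).elim r2 r1

theorem pt (h : R0 m K) : PT m K := by
  intro v hv vv x hx xx hz
  obtain ⟨y, c, o, rfl⟩ := (FV.mem_Q _).1 hx
  by_cases hn : ∃ a : K, y = a • ev 0
  · obtain ⟨a, rfl⟩ := hn
    have e : EE (ev 0) (a • ev 0) c = Tc (c + tr a) (ev 0 : Vn m K) := by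
      rw [Tc, ← EE_shift, zero_add]
    have sc : star c = c := tr_eq_zero.1 (o.tr.trans (iso0.smul a))
    have hx' : EE (ev 0) (a • ev 0) c ∈ Z0 m K :=
      (FV.mem_Z _).2 ⟨_, by rw [star_add, sc, star_tr], e⟩
    obtain ⟨β, hβ⟩ := hz _ hx'
    rw [xx, map_one] at hβ
    rw [eq_inv_of_mul_eq_one_left hβ.symm]
    exact inv_mem hx
  push Not at hn
  have hy : Iso y := by
    rw [EE_mul o o, v_add_self] at xx
    have := Tc_eq_one (ev_ne 0) iso0 (by
      rw [CharTwo.add_self_eq_zero, zero_add, star_hf]) xx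
    rwa [CharTwo.add_self_eq_zero, zero_add] at this
  have r : ∀ d, star d = d → R2 m K (v * Tc d (ev 0)) := fun d hd => by
    refine R2.tp h (hz _ ((FV.mem_Z _).2 ⟨d, hd, rfl⟩)) ?_
    have o' := o.add (ok_zero iso0 hd)
    rw [EE_mul o (ok_zero iso0 hd)]
    rw [add_zero] at o' ⊢
    exact r2_EE h o' hy hn
  have v0 : ac v (ev 0) = ev 0 := by
    obtain ⟨a, -, ha⟩ := (h.cz v).1 hv
    have e := congrArg (fun g => ac g (ev 0 : Vn m K)) vv
    simp only [ac_mul, ha, ac_smul, smul_smul, ac_one] at e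
    have e1 : a * a = 1 := by simpa [ev_apply] using congrFun e 0
    have e2 : a = 1 := by
      have : (a + 1) ^ 2 = 0 := by linear_combination e1 + (a + 1) * two0 K
      linear_combination (pow_eq_zero_iff two_ne_zero).1 this - two0 K
    rw [ha, e2, one_smul]
  obtain ⟨a, b, p, l, e⟩ := (r 0 (star_zero K)).vec h
  rw [Tc, EE_zero, mul_one] at e
  have ev' : ∀ z, ac v z = z + hf z a • a + hf z b • b := fun z => by rw [e, ac_TT2 p]
  have f0 := ev' (ev 0)
  rw [v0, add_assoc, left_eq_add] at f0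
  have pa : Pp (ev 0) a := ⟨iso0, p.l, (l _ _ f0).1⟩
  have pb : Pp (ev 0) b := ⟨iso0, p.r, (l _ _ f0).2⟩
  obtain ⟨a', b', p', -, e'⟩ := (r 1 (star_one K)).vec h
  have nl := dep (a' := a') (b' := b') p pa pb fun z => by
    have := ac_TT2 p' z
    rw [← e', ac_mul, ac_Tc iso0 (star_one K), ac_add, ac_smul, v0, ev', one_mul, add_assoc,
      add_assoc, add_assoc, add_right_inj] at this
    rw [← this, add_assoc]
  simp only [Li3, not_forall] at nl
  obtain ⟨i, j, k, f1, f2⟩ := nl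
  have i0 : i ≠ 0 := fun i0 => by
    rw [i0, zero_smul, zero_add] at f1
    exact f2 ⟨i0, l _ _ f1⟩
  by_cases k0 : k = 0
  · have j0 : j ≠ 0 := fun j0 => by
      rw [k0, j0, zero_smul, zero_smul, add_zero, add_zero] at f1
      exact i0 ((smul_eq_zero.1 f1).resolve_right (ev_ne 0))
    refine fin h pb (b := a) (l := j⁻¹ * i) (μ := 0) ?_ (fun z => by rw [ev', add_right_comm]) r
    ext s
    have := congrFun f1 s
    simp only [Pi.add_apply, Pi.smul_apply, smul_eq_mul, Pi.zero_apply, k0] at this ⊢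
    field_simp
    linear_combination this - i * (ev 0 : Vn m K) s * two0 K
  · refine fin h pa (b := b) (l := k⁻¹ * i) (μ := k⁻¹ * j) ?_ ev' r
    ext s
    have := congrFun f1 s
    simp only [Pi.add_apply, Pi.smul_apply, smul_eq_mul, Pi.zero_apply] at this ⊢
    field_simp
    linear_combination this - (i * (ev 0 : Vn m K) s + j * a s) * two0 K

theorem jobPT : JobPT := fun _ _ _ _ _ _ _ h => pt h

end H70.YUPT
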