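import Cfsg.Agent.H78.P6.H78_S2Kit

namespace H76 end H76
open H76
namespace H85.P6 end H85.P6
open H85.P6
namespace H85.P6.H76 end H85.P6.H76
open H85.P6.H76
namespace H85.P6.H76.S2P3a end H85.P6.H76.S2P3a
open H85.P6.H76.S2P3a
namespace H78.P6


/-! STD-SP chapter II, slot P3a: from `Q₂` to `M₂`. -/

set_option autoImplicit false
set_option linter.unusedSectionVars false

namespace H76.S2P3a

open H64.SG (Cz Cs Ns)
open H67.UA hiding Par
open H67.SP H78.S2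
open H67.SA (cm)
open H86.SPI (ok pp hf_self hf_comm EE_mul' EE_comm EE_sq hf_smul_right' TT_conj ac_TT TT_smul)
open Matrix Subgroup

universe u

variable {n : ℕ} {F : Type} [Field F] [StarRing F] [TrivialStar F] [CharP F 2] [Finite F]
  [p : Par n F]

theorem h01 : hf (ev 1 : Vn n F) (ev 0) = 0 := by
  have five := p.five
  rw [H54.SPF.hf_evv, if_neg (by rw [H54.SPF.v1 five]; simp; omega)]

theorem l01 : Li (ev 0 : Vn n F) (ev 1) := fun a b k => by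
  have h1 := H54.SPF.v1 p.five
  have h2 : (0 : Fin (n + 1)) ≠ 1 := fun h => by simp [← h] at h1
  exact ⟨by simpa [ev_apply, h2] using congrFun k 0, by simpa [ev_apply, h2.symm] using congrFun k 1⟩

theorem pl0 : Pl (ev 0 : Vn n F) := ⟨hf_self _, hf_symm h01⟩
theorem pl1 : Pl (ev 1 : Vn n F) := ⟨h01, hf_self _⟩

theorem Pl.comb {s : Vn n F} (h : Pl s) (a b : F) : hf s (a • ev 0 + b • ev 1) = 0 := by
  rw [hf_add_right, hf_smul_right', hf_smul_right', h.1, h.2]; simp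

theorem Pl.wk (x : FX n F) {s m : Vn n F} (h : Pl s) (hm : Wk 2 m) : hf s m = 0 := by
  obtain ⟨a, b, rfl⟩ := (x.wk m).1 hm
  exact Pl.comb h a b

theorem wk0 (x : FX n F) : Wk 2 (ev 0 : Vn n F) := (x.wk _).2 ⟨1, 0, by simp⟩
theorem wk1 (x : FX n F) : Wk 2 (ev 1 : Vn n F) := (x.wk _).2 ⟨0, 1, by simp⟩

theorem TT_mem {y : Vn n F} (h : Pl y) : TT y ∈ P2 n F :=
  ⟨ac_Tc_fix 1 (hf_symm h.1), ac_Tc_fix 1 (hf_symm h.2)⟩

/-- `M₂` fixes `ℓ^⊥`. -/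
theorem M_fix (x : FX n F) {m : XU n F} (hm : m ∈ Mk n F 2) {s : Vn n F} (h : Pl s) :
    ac m s = s := by
  obtain ⟨m₀, c, h1, rfl⟩ := (x.memM m).1 hm
  rw [ac_mul, ac_qq_fix (by rw [hf_smul_left, h01, mul_zero]) h.1
    (by rw [hf_smul_right', h.2, mul_zero]), ac_Tc_fix 1 (Pl.wk x h h1)]

theorem mem_M [FV n F] {g : XU n F} (h : ∀ s, Pl s → ac g s = s) : g ∈ Mk n F 2 :=
  (FV.mem_M 2 g).2 fun v i hi => by
    have five := p.five
    have h1 : Pl (ev i.rev : Vn n F) := by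
      have := i.2
      constructor <;> rw [H54.SPF.hf_evv, if_neg]
      · simp [Fin.val_rev]; omega
      · rw [H54.SPF.v1 five]; simp [Fin.val_rev]; omega
    have := H54.SPI.hf_move (h _ h1) v
    rwa [hf_ev_right, Fin.rev_rev] at this

theorem Q_fix [FV n F] {a : XU n F} (ha : a ∈ Qk n F 2) {m : Vn n F} (hm : Wk 2 m) : ac a m = m :=
  ((FV.mem_Qk 2 (by have := p.five; omega) a).1 ha).1 m hm

theorem Q_act (x : FX n F) {a : XU n F} (ha : a ∈ Qk n F 2) : ∃ v v', Pl v ∧ Pl v' ∧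
    ∀ s, Pl s → ac a s = s + hf s v • ev 0 + hf s v' • ev 1 := by
  obtain ⟨v, v', h1, h2, m, hm, rfl⟩ := (x.nf a).1 ha
  refine ⟨v, v', h1, h2, fun s hs => ?_⟩
  rw [ac_mul, ac_mul, M_fix x hm hs, ac_EE' h2.2 hs.2, ac_add, ac_smul, ac_EE' h1.1 hs.1,
    ac_qq_fix h1.1 h01 (hf_symm h1.2)]

theorem claim [FV n F] (x : FX n F) {a : XU n F} (ha : a ∈ Qk n F 2) {y : Vn n F} (hy : Og y)
    (h : cm a (TT y) ∈ Mk n F 2) : cm a (TT y) = 1 := by
  have h1 : Og (ac a y) := (x.nrm a (by rw [Q_fix ha (wk0 x)]; exact wk0 x)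
    (by rw [Q_fix ha (wk1 x)]; exact wk1 x)).2.2.2.1 y hy
  have h2 : TT y ∈ Cs (Mk n F 2) := x.cM ▸ TT_mem hy.1
  have h3 := x.uq _ _ h1 hy _ h (by rw [← h2 _ h, cm, TT_conj, inv_mul_cancel_right])
  rw [cm, TT_conj, h3, mul_inv_cancel]

theorem ZS_le [FV n F] (x : FX n F) : ZS n F ≤ Mk n F 2 := fun g hg => by
  obtain ⟨c, rfl⟩ := (FV.mem_Zs _ _ (hf_symm h01) g).1 hg
  exact (x.memM _).2 ⟨0, c, fun _ _ => rfl, by simp⟩

variable {G : Type u} [Group G] {e : XU n F →* G} {t g : G}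

theorem Te.cm (v : BV e t) {s : G} {b : XU n F} (h : Te e t s b) (a : XU n F) :
    cm (e a) s = e (cm a b) := by
  rcases h with rfl | rfl
  · simp [H67.SA.cm]
  · have h1 := v.cen (a * b * a⁻¹ * b⁻¹)
    simp only [H67.SA.cm, map_mul, map_inv] at h1 ⊢
    calc _ = t * (e a * e b * (e a)⁻¹ * (e b)⁻¹) * t⁻¹ := by rw [← mul_assoc, ← v.cen]; group
      _ = _ := by rw [h1]; group

theorem step [FV n F] [FC n F] (x : FX n F) (v : BV e t) (k : NK e t) (hg : Nz e t g)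
    {y : Vn n F} (hy : Og y) {a : XU n F} (ha : a ∈ Qk n F 2)
    (h : Te e t (g * e (TT y) * g⁻¹) (TT y * a)) {a' : XU n F} (ha' : a' ∈ Qk n F 2)
    (hc : ac a' y = y) : a * a' * a⁻¹ = a' := by
  have c1 : a' * TT y = TT y * a' := EE_fix (hf_zero_left y) 1 hc (ac_zero _)
  have c2 : cm a' (TT y * a) = TT y * cm a' a * (TT y)⁻¹ := by
    rw [cm, cm, ← mul_assoc, c1]; group
  have m1 : cm a' a ∈ Mk n F 2 := ZS_le x (FC.zq (n := n) (F := F) ▸ commutator_mem_commutator ha' ha)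
  have h2 : TT y ∈ Cs (Mk n F 2) := x.cM ▸ TT_mem hy.1
  rw [← h2 _ m1, mul_inv_cancel_right] at c2
  obtain ⟨a'', q1, q2⟩ := k.qq _ (k.inv g hg) a' ha'
  obtain ⟨m, q3, q4⟩ := k.mm _ (k.inv g hg) _ m1
  have h3 : g⁻¹ * e (cm a' a) * g⁻¹⁻¹ = e (cm a'' (TT y)) := by
    rw [← c2, ← Te.cm v h, ← Te.cm v (Or.inl rfl), ← q2, cm, cm]
    group
  have h4 := claim x q1 hy (v.inj (q4.symm.trans h3) ▸ q3)
  rw [h4, map_one, conj_eq_one_iff, map_eq_one_iff e v.inj, H67.SA.cm_eq_one] at h3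
  rw [← h3, mul_inv_cancel_right]

theorem jobP3a : JobP3a.{u} := by
  intro n F _ _ _ _ _ p G _ _ e t b c x z v k g hg
  have key : ∀ y : Vn n F, ∃ y', Og y → Wk 2 (y' + y) ∧ ∃ m ∈ Mk n F 2,
      Te e t (g * e (TT y) * g⁻¹) (TT y' * m) := fun y => by
    by_cases hy : Og y
    swap
    · exact ⟨y, fun h => absurd h hy⟩
    obtain ⟨a, ha, h⟩ := hg.tt y hy
    obtain ⟨v₀, v₁, p0, p1, act⟩ := Q_act x ha
    have l3 : Li3 (ev 0) (ev 1) y := fun r s w hw => by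
      have w0 : w = 0 := by
        by_contra w0
        refine hy.2 ((x.wk y).2 ⟨w⁻¹ * r, w⁻¹ * s, ?_⟩)
        have : w • y = r • ev 0 + s • ev 1 := by
          rw [← zero_add (r • ev 0 + s • ev 1), ← hw, add_right_comm, v_add_self, zero_add]
        rw [mul_smul, mul_smul, ← smul_add, ← this, inv_smul_smul₀ w0]
      rw [w0, zero_smul, add_zero] at hw
      exact ⟨(l01 r s hw).1, (l01 r s hw).2, w0⟩
    have q0 : ∀ s, Pl s → qq s (ev 0) ∈ Qk n F 2 := fun s hs =>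
      (x.nf _).2 ⟨s, 0, hs, ⟨hf_zero_left _, hf_zero_left _⟩, 1, one_mem _, by simp⟩
    have q1 : ∀ s, Pl s → qq s (ev 1) ∈ Qk n F 2 := fun s hs =>
      (x.nf _).2 ⟨0, s, ⟨hf_zero_left _, hf_zero_left _⟩, hs, 1, one_mem _, by simp⟩
    have pa : ∀ s, Pl s → Pl (ac a s) := fun s hs =>
      ⟨by rw [← Q_fix ha (wk0 x), hf_ac, hs.1], by rw [← Q_fix ha (wk1 x), hf_ac, hs.2]⟩
    obtain ⟨r0, s0, w0, e0⟩ := x.sp3 _ _ _ v₀ l3 fun s s0 s1 s2 => by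
      have h1 := step x v k hg.nz hy ha h (q1 s ⟨s0, s1⟩) (ac_qq_fix s1 hy.1.2 (hf_symm s2))
      rw [EE_conj' s1, Q_fix ha (wk1 x)] at h1
      obtain ⟨⟨r, hr⟩, -⟩ := EE_inj' (ev_ne 1) s1 (pa s ⟨s0, s1⟩).2 h1.symm
      rw [act s ⟨s0, s1⟩, add_assoc, add_right_inj] at hr
      exact (l01 _ (hf s v₁ + r) (by rw [add_smul, ← add_assoc, hr, v_add_self])).1
    obtain ⟨r1, s1, w1, e1⟩ := x.sp3 _ _ _ v₁ l3 fun s s0 s1 s2 => by
      have h1 := step x v k hg.nz hy ha h (q0 s ⟨s0, s1⟩) (ac_qq_fix s0 hy.1.1 (hf_symm s2))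
      rw [EE_conj' s0, Q_fix ha (wk0 x)] at h1
      obtain ⟨⟨r, hr⟩, -⟩ := EE_inj' (ev_ne 0) s0 (pa s ⟨s0, s1⟩).1 h1.symm
      rw [act s ⟨s0, s1⟩, add_assoc, add_right_inj] at hr
      exact (l01 (hf s v₀ + r) _ (by rw [add_smul, add_right_comm, hr, v_add_self])).2
    refine ⟨y + (w0 • ev 0 + w1 • ev 1), fun _ => ⟨(x.wk _).2 ⟨w0, w1, by
      rw [add_right_comm, v_add_self, zero_add]⟩, (TT (y + (w0 • ev 0 + w1 • ev 1)))⁻¹ * (TT y * a),
      mem_M fun s hs => ?_, by rwa [mul_inv_cancel_left]⟩⟩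
    have h1 : ac (TT y * a) s = ac (TT (y + (w0 • ev 0 + w1 • ev 1))) s := by
      rw [ac_mul, act s hs, ac_TT, ac_TT, e0, e1]
      simp only [hf_add_left, hf_add_right, hf_smul_left, hf_smul_right', hs.1, hs.2,
        hf_symm hy.1.1, hf_symm hy.1.2]
      module
    rw [ac_mul, h1, ac_inv_ac]
  choose f hf using key
  exact ⟨f, hg.nz, hg.mv, hf⟩

end H76.S2P3a
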