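import Cfsg.Agent.H78.P6.H76_S2P3a
import Cfsg.Agent.H78.P6.H76_S2B1

namespace H76 end H76
open H76
namespace H85.P6 end H85.P6
open H85.P6
namespace H85.P6.H76 end H85.P6.H76
open H85.P6.H76
namespace H85.P6.H76.S2P4 end H85.P6.H76.S2P4
open H85.P6.H76.S2P4
namespace H78.P6


/-! STD-SP chapter II, slot P4: the constant `μ` is trivial. -/

set_option autoImplicit false
set_option linter.unusedSectionVars false

namespace H76.S2P4

open H64.SG (Cz Cs Ns)
open H67.UA hiding Par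
open H67.SP H78.S2 H76.S2P3a
open H86.SPI (ok pp hf_self hf_comm EE_mul' EE_comm EE_sq hf_smul_right' TT_conj ac_TT TT_smul
  TT_add_smul)
open H76.S2B1 (TT_TT)
open Matrix Subgroup

universe u

variable {n : ℕ} {F : Type} [Field F] [StarRing F] [TrivialStar F] [CharP F 2] [Finite F]
  [p : Par n F] {G : Type u} [Group G] {e : XU n F →* G} {t w μ : G}

theorem og_ev {i : Fin (n + 1)} (h1 : 2 ≤ i.val) (h2 : i.val + 1 < n) : Og (ev i : Vn n F) := by
  refine ⟨⟨?_, ?_⟩, fun h => by simpa [ev_apply] using h i h1⟩ <;> rw [H54.SPF.hf_evv, if_neg]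
  · simp; omega
  · rw [H54.SPF.v1 p.five]; omega

theorem Og.smul {y : Vn n F} (h : Og y) {c : F} (hc : c ≠ 0) : Og (c • y) :=
  ⟨⟨by rw [hf_smul_left, h.1.1, mul_zero], by rw [hf_smul_left, h.1.2, mul_zero]⟩, fun k =>
    h.2 fun i hi => (mul_eq_zero.1 (k i hi)).resolve_left hc⟩

theorem Og.add (x : FX n F) {y m : Vn n F} (h : Og y) (hm : Wk 2 m) : Og (y + m) := by
  refine ⟨⟨?_, ?_⟩, fun k => h.2 fun i hi => by simpa [hm i hi] using k i hi⟩
  · rw [hf_add_left, h.1.1, hf_symm (Pl.wk x pl0 hm), add_zero]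
  · rw [hf_add_left, h.1.2, hf_symm (Pl.wk x pl1 hm), add_zero]

theorem zs_p (c : F) : hf (c • ev 1 : Vn n F) (ev 0) = 0 := by rw [hf_smul_left, h01, mul_zero]

theorem mu_comm (x : FX n F) (v : BV e t) (h : Km e t w μ) {q : XU n F} (hq : q ∈ P2 n F) :
    μ * e q = e q * μ := by
  obtain ⟨c, hc⟩ := h.mu
  have h1 : zs c * q = q * zs c :=
    (x.cM ▸ hq : q ∈ Cs (Mk n F 2)) _ ((x.memM _).2 ⟨0, c, fun _ _ => rfl, by simp⟩)
  rcases hc with rfl | rfl
  · rw [← map_mul, h1, map_mul]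
  · rw [mul_assoc, ← map_mul, h1, map_mul, ← mul_assoc, v.cen, mul_assoc]

theorem mu_sq (v : BV e t) (h : Km e t w μ) : μ * μ = 1 := by
  obtain ⟨c, rfl | rfl⟩ := h.mu
  · rw [← map_mul, EE_sq (zs_p c), map_one]
  · rw [mul_assoc, ← mul_assoc (e _), ← v.cen, ← mul_assoc, ← mul_assoc, v.tt, one_mul, ← map_mul,
      EE_sq (zs_p c), map_one]

theorem two_fix (x : FX n F) (v : BV e t) (h : Km e t w μ) {y y' : Vn n F} (hy : Og y)
    (hy' : Og y') : w * e (TT y * TT y') * w⁻¹ = e (TT y * TT y') := by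
  rw [map_mul, ← conj_mul, h.tt y hy, h.tt y' hy', mul_assoc, ← mul_assoc μ,
    mu_comm x v h (TT_mem hy'.1), mul_assoc, mu_sq v h, mul_one]

theorem big (x : FX n F) (v : BV e t) (h : Km e t w μ) {c : F} (c0 : c ≠ 0) (c1 : c ≠ 1) :
    μ = 1 := by
  have five := p.five
  have hy : Og (ev ⟨2, by omega⟩ : Vn n F) := og_ev le_rfl (by simp; omega)
  have h1 := two_fix x v h (Og.smul hy one_ne_zero) (Og.smul hy c0)
  rw [TT_add_smul, h.tt _ (Og.smul hy fun k => c1 (CharTwo.add_eq_zero.1 k).symm)] at h1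
  exact mul_eq_left.1 h1

theorem small2 [FW n F] (x : FX n F) (v : BV e t) (h : Km e t w μ) (hF : ∀ c : F, c = 0 ∨ c = 1)
    (fT : ∀ m, Wk 2 m → w * e (TT m) * w⁻¹ = e (TT m)) : μ = 1 := by
  have five := p.five
  have v1 := H54.SPF.v1 five
  let i2 : Fin (n + 1) := ⟨2, by omega⟩
  have o2 : Og (ev i2 : Vn n F) := og_ev le_rfl (by simp [i2]; omega)
  have fz : w * e (xa n F) * w⁻¹ = e (xa n F) := by
    rw [xa, qq_eq_TT (pp (hf_symm h01)), map_mul, map_mul, ← conj_mul, ← conj_mul,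
      fT _ (wk0 x), fT _ (wk1 x), fT _ ((x.wk _).2 ⟨1, 1, by simp⟩)]
  have zz : xa n F * xa n F = 1 := EE_sq h01 0
  have wt : w * t * w⁻¹ = t * e (xa n F) := by
    obtain ⟨c, c0, hc⟩ := h.mv
    rw [hc, (hF c).resolve_left c0, zs, one_smul]
  have val : ∀ i : Fin 3, (![0, 1, i2] i : Fin (n + 1)).val = i.val := fun i => by
    fin_cases i
    exacts [rfl, v1, rfl]
  have lin : LinearIndependent F fun i => (ev (![0, 1, i2] i) : Vn n F) :=
    H54.SPF.li_ev fun i j hij => Fin.ext (by rw [← val, hij, val])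
  obtain ⟨f, hf0⟩ := H54.SPF.sep 3 _ lin ![1, 0, 0]
  obtain ⟨f', hf1⟩ := H54.SPF.sep 3 _ lin ![0, 1, 0]
  have f0 : hf f (ev 0) = 1 := hf0 0
  have f1 : hf f (ev 1) = 0 := hf0 1
  have f2 : hf f (ev i2) = 0 := hf0 2
  have f0' : hf f' (ev 0) = 0 := hf1 0
  have f1' : hf f' (ev 1) = 1 := hf1 1
  have f2' : hf f' (ev i2) = 0 := hf1 2
  have two : ∀ s a b a' b' : Vn n F, a' = a + ev 1 → b' = b + ev 0 → ac (TT s) a = a' →
      ac (TT s) b = b' → False := fun s a b a' b' r1 r2 e1 e0 => by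
    rw [r1, ac_TT, add_right_inj] at e1
    rw [r2, ac_TT, add_right_inj] at e0
    have := (l01 (hf a s) (hf b s) (by rw [← e0, ← e1, smul_comm, v_add_self])).1
    rw [this, zero_smul] at e1
    exact ev_ne _ e1.symm
  -- the case `μ ∈ t ⟨z⟩`
  have ct : μ * (w * μ * w⁻¹) = e (xa n F) → False := fun k => by
    have k1 : w * w * t * (w * w)⁻¹ = t := by
      calc _ = w * (w * t * w⁻¹) * w⁻¹ := by group
        _ = t := by rw [wt, ← conj_mul, wt, fz, mul_assoc, ← map_mul, zz, map_one, mul_one]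
    obtain ⟨u', ⟨s, -, rfl⟩, hu⟩ := v.lr _ (TT (ev i2)) (mul_inv_eq_iff_eq_mul.1 k1)
      ⟨_, ev_ne _, rfl⟩
    have k2 : e (TT (ev i2) * xa n F) = e (TT s) := by
      calc _ = w * (w * e (TT (ev i2)) * w⁻¹) * w⁻¹ := by
            rw [h.tt _ o2, ← conj_mul, h.tt _ o2, mul_assoc, k, map_mul]
        _ = _ := by rw [← hu]; group
    have k3 := v.inj k2
    refine two s f f' _ _ rfl rfl ?_ ?_
    · rw [← k3, ac_mul, xa, ac_qq' h01, f0, f1, zero_smul, add_zero, one_smul, ac_Tc_fix]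
      rw [hf_add_left, f2, hf_symm o2.1.2, add_zero]
    · rw [← k3, ac_mul, xa, ac_qq' h01, f0', f1', zero_smul, add_zero, one_smul, ac_Tc_fix]
      rw [hf_add_left, f2', hf_symm o2.1.1, add_zero]
  obtain ⟨c, hc⟩ := h.mu
  rcases hF c with rfl | rfl <;> rcases hc with hc | hc <;>
    simp only [zs, zero_smul, one_smul, H86.SPI.qq_zero_left, map_one, mul_one] at hc
  · exact hc
  · exact (ct (by rw [hc, wt, ← mul_assoc, v.tt, one_mul])).elim
  · exfalso
    have fq : ∀ y, Pl y → w * e (qq y (ev 0)) * w⁻¹ = e (qq y (ev 0)) := fun y hy => by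
      rw [qq_eq_TT (pp (hf_symm hy.1))]
      by_cases k : Wk 2 y
      · rw [map_mul, map_mul, ← conj_mul, ← conj_mul, fT _ (wk0 x), fT _ k, fT]
        exact fun i hi => by rw [Pi.add_apply, wk0 x i hi, k i hi, add_zero]
      · have o : Og y := ⟨hy, k⟩
        have o' : Og (ev 0 + y) := add_comm y _ ▸ Og.add x o (wk0 x)
        rw [map_mul, map_mul, ← conj_mul, ← conj_mul, fT _ (wk0 x), h.tt _ o, h.tt _ o',
          mul_assoc (e _), mu_comm x v h (TT_mem pl0), mul_assoc, mul_assoc, ← mul_assoc μ,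
          mu_comm x v h (TT_mem hy), mul_assoc, mu_sq v h, mul_one, mul_assoc]
    have L : ∀ u : Vn n F, hf u (ev 0) = 0 → Li (ev 0) u → ∃ W : G,
        W * t * W⁻¹ = t * e (qq u (ev 0)) ∧
        (∀ y, hf y (ev 0) = 0 → hf y u = 0 → W * e (qq y (ev 0)) * W⁻¹ = e (qq y (ev 0))) ∧
        ∀ y, hf y (ev 0) = 0 → hf y u = 0 → Li3 (ev 0) u y →
          W * e (TT y) * W⁻¹ = e (TT y) * e (qq u (ev 0)) := fun u u0 ul => by
      obtain ⟨g, g0, g1⟩ := FW.w2 (ev 0) u (hf_symm u0) ul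
      have key : ∀ a, e g * w * (e g)⁻¹ * (e g * a * (e g)⁻¹) * (e g * w * (e g)⁻¹)⁻¹ =
          e g * (w * a * w⁻¹) * (e g)⁻¹ := fun a => by group
      have cj : ∀ a, e g * e a * (e g)⁻¹ = e (g * a * g⁻¹) := fun a => by
        rw [map_mul, map_mul, map_inv]
      have rt : e g * t * (e g)⁻¹ = t := by rw [← v.cen, mul_inv_cancel_right]
      have rz : e g * e (xa n F) * (e g)⁻¹ = e (qq u (ev 0)) := by rw [cj, EE_conj' h01, g0, g1]
      have pl : ∀ y, hf y (ev 0) = 0 → hf y u = 0 → Pl (ac g⁻¹ y) := fun y y0 yu =>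
        ⟨by rw [← hf_ac g, ac_ac_inv, g0, y0], by rw [← hf_ac g, ac_ac_inv, g1, yu]⟩
      refine ⟨e g * w * (e g)⁻¹, ?_, fun y y0 yu => ?_, fun y y0 yu li => ?_⟩
      · have := key t
        rwa [rt, wt, ← conj_mul, rt, rz] at this
      · have := key (e (qq (ac g⁻¹ y) (ev 0)))
        rwa [fq _ (pl y y0 yu), cj, EE_conj' (pl y y0 yu).1, g0, ac_ac_inv] at this
      · have o : Og (ac g⁻¹ y) := ⟨pl y y0 yu, fun k => by
          obtain ⟨a, b, hab⟩ := (x.wk _).1 k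
          have := congrArg (ac g) hab
          rw [ac_ac_inv, ac_add, ac_smul, ac_smul, g0, g1] at this
          exact one_ne_zero (li a b 1 (by rw [one_smul, this, v_add_self])).2.2⟩
        have := key (e (TT (ac g⁻¹ y)))
        rwa [h.tt _ o, hc, ← conj_mul (b := e g), rz, cj, TT_conj, ac_ac_inv] at this
    have l3 : Li3 (ev 0 : Vn n F) (ev 1) (ev i2) := fun a b c k => by
      have := Fintype.linearIndependent_iff.1 lin ![a, b, c] (by simpa [Fin.sum_univ_three] using k)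
      exact ⟨this 0, this 1, this 2⟩
    have h20 := o2.1.1
    have h21 := o2.1.2
    have h30 : hf (ev 1 + ev i2 : Vn n F) (ev 0) = 0 := by rw [hf_add_left, h01, h20, add_zero]
    have h13 : hf (ev 1 : Vn n F) (ev 1 + ev i2) = 0 := by
      rw [hf_add_right, hf_self, hf_symm h21, add_zero]
    have h23 : hf (ev i2 : Vn n F) (ev 1 + ev i2) = 0 := by rw [hf_add_right, hf_self, h21, add_zero]
    obtain ⟨B, b1, b2, b3⟩ := L (ev i2) h20 fun a b k =>
      have := l3 a 0 b (by simpa using k)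
      ⟨this.1, this.2.2⟩
    obtain ⟨C, c1, -, c3⟩ := L (ev 1 + ev i2) h30 fun a b k =>
      have := l3 a b b (by rw [← k]; module)
      ⟨this.1, this.2.1⟩
    have b4 := b3 (ev 1) h01 (hf_symm h21) fun a b c k =>
      have := l3 a c b (by rw [← k]; module)
      ⟨this.1, this.2.2, this.2.1⟩
    have c4 := c3 (ev 1) h01 h13 fun a b c k => by
      obtain ⟨r1, r2, r3⟩ := l3 a (b + c) b (by rw [← k]; module)
      exact ⟨r1, r3, by rwa [r3, zero_add] at r2⟩
    have b5 := b2 _ h30 (hf_symm h23)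
    have z3 : qq (ev 1 + ev i2 : Vn n F) (ev 0) = xa n F * qq (ev i2) (ev 0) :=
      qq_add (pp (hf_symm h01)) (pp (hf_symm h20)) h21
    have z2 : qq (ev i2 : Vn n F) (ev 0) * qq (ev 1 + ev i2) (ev 0) = xa n F := by
      rw [add_comm (ev 1), qq_add (pp (hf_symm h20)) (pp (hf_symm h01)) (hf_symm h21), ← mul_assoc,
        EE_sq h20, one_mul]
    have k1 : w * B * C * t * (w * B * C)⁻¹ = t := by
      calc _ = w * (B * (C * t * C⁻¹) * B⁻¹) * w⁻¹ := by group
        _ = t := by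
          rw [c1, ← conj_mul (b := B), b1, b5, mul_assoc t, ← map_mul, z2, ← conj_mul, wt, fz, mul_assoc,
            ← map_mul, zz, map_one, mul_one]
    obtain ⟨u', ⟨s, -, rfl⟩, hu⟩ := v.lr _ (TT (ev 1)) (mul_inv_eq_iff_eq_mul.1 k1)
      ⟨_, ev_ne _, rfl⟩
    have k2 : e (TT (ev 1) * xa n F) = e (TT s) := by
      calc _ = w * (B * (C * e (TT (ev 1)) * C⁻¹) * B⁻¹) * w⁻¹ := by
            rw [c4, ← conj_mul (b := B), b4, b5, mul_assoc (e _), ← map_mul, z2, ← conj_mul, fT _ (wk1 x), fz,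
              map_mul]
        _ = _ := by rw [← hu]; group
    have k3 := v.inj k2
    refine two s f (f + f') _ _ rfl rfl ?_ ?_
    · rw [← k3, ac_mul, xa, ac_qq' h01, f0, f1, zero_smul, add_zero, one_smul, ac_Tc_fix]
      rw [hf_add_left, f1, hf_self, add_zero]
    · rw [← k3, ac_mul, xa, ac_qq' h01, ac_TT]
      simp only [hf_add_left, f0, f1, f0', f1', hf_self, hf_symm h01, zero_add, add_zero,
        one_smul]
      rw [add_assoc, v_add_self, add_zero]
  · refine (ct ?_).elim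
    rw [hc, ← conj_mul, wt, fz, mul_assoc t (e _) (e _), ← map_mul, zz, map_one, mul_one, mul_assoc,
      ← v.cen, ← mul_assoc, v.tt, one_mul]

theorem jobP4 : JobP4.{u} := by
  intro n F _ _ _ _ _ p G _ _ e t b c x z v w μ h
  have hμ : μ = 1 := by
    by_cases hF : ∀ c : F, c = 0 ∨ c = 1
    · exact small2 x v h hF h.cm
    · simp only [not_forall, not_or] at hF
      obtain ⟨c, c0, c1⟩ := hF
      exact big x v h c0 c1
  have h1 := z.gen ((Cz w).comap e) fun y hy => by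
    by_cases k : Wk 2 y
    · exact H64.SG.mem_Cz.2 (mul_inv_eq_iff_eq_mul.1 (h.cm y k))
    have := h.tt y ⟨hy, k⟩
    rw [hμ, mul_one, mul_inv_eq_iff_eq_mul] at this
    exact H64.SG.mem_Cz.2 this
  obtain ⟨d, d0, hd⟩ := h.mv
  obtain ⟨r, r0, r1, -⟩ := x.lev d⁻¹ 0 0 1 (by simpa using d0)
  simp only [zero_smul, add_zero, zero_add, one_smul] at r0 r1
  refine ⟨e r * w * (e r)⁻¹, fun q hq => ?_, ?_⟩
  · have h2 : r⁻¹ * q * r ∈ P2 n F :=
      ⟨mem_Stab.2 (by rw [ac_mul, ac_mul, r0, ac_smul, show ac q (ev 0) = ev 0 from hq.1, ← r0,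
        ac_inv_ac]), mem_Stab.2 (by rw [ac_mul, ac_mul, r1, show ac q (ev 1) = ev 1 from hq.2,
        ← r1, ac_inv_ac, r1])⟩
    have h3 := H64.SG.mem_Cz.1 (h1 h2)
    simp only [map_mul, map_inv] at h3
    calc _ = e r * (w * ((e r)⁻¹ * e q * e r)) * (e r)⁻¹ := by group
      _ = _ := by rw [h3]; group
  · have rt : (e r)⁻¹ * t * e r = t := by rw [mul_assoc, v.cen, inv_mul_cancel_left]
    calc _ = e r * (w * ((e r)⁻¹ * t * e r) * w⁻¹) * (e r)⁻¹ := by group
      _ = t * e (r * zs d * r⁻¹) := by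
        rw [rt, hd, ← mul_assoc, ← v.cen, map_mul, map_mul, map_inv]; group
      _ = _ := by
        rw [EE_conj' (zs_p d), r0, ac_smul, r1, ← qq, ← qq_smul', inv_smul_smul₀ d0]

end H76.S2P4
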