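import Cfsg.Agent.H78.P6.H78_YUDef
import Cfsg.Agent.H55.Basic
import Cfsg.Agent.H78.S6Kit

namespace H67 end H67
open H67
namespace H76 end H76
open H76
namespace H67.P6 end H67.P6
open H67.P6
namespace H67.P6.H67 end H67.P6.H67
open H67.P6.H67
namespace H67.P6.H76 end H67.P6.H76
open H67.P6.H76
namespace H67.P6.H76.YUNU end H67.P6.H76.YUNU
open H67.P6.H76.YUNU
namespace H85.P6 end H85.P6
open H85.P6
namespace H85.P6.H67 end H85.P6.H67
open H85.P6.H67
namespace H85.P6.H76 end H85.P6.H76
open H85.P6.H76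
namespace H85.P6.H76.YUNU end H85.P6.H76.YUNU
open H85.P6.H76.YUNU
namespace H78.P6


/-! STD-SP endgame, slot NU: a large unitary group in characteristic `2` is not alternating. -/

set_option autoImplicit false

namespace H76.YUNU

open H67 H67.UA H64.YE H78.YU Subgroup

theorem jobNU : JobNU := by
  intro m K _ _ _ _ p
  have five := p.five
  obtain ⟨e⟩ := (base m K).toFX.iso
  have hU : IsPGroup 2 (U0 m K) := (GA.FB.syl (X := XU m K)).2.1
  refine _root_.H78.S6.na _ ((U0 m K).map (QuotientGroup.mk' _)) ?_ (hU.map _) ?_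
  · have := Fintype.ofFinite K
    refine Or.inr (Or.inr (Or.inl ⟨K, inferInstance, this, inferInstance, m + 1, qK K, ?_, by omega,
      by omega, ⟨H55.quotCenterCongr e⟩⟩))
    rw [← Nat.card_eq_fintype_card]; exact (jobFQ m K).1
  · have hi : Function.Injective ((QuotientGroup.mk' (center (XU m K))).comp (U0 m K).subtype) := by
      rw [injective_iff_map_eq_one]
      intro u hu
      have h1 : (u : XU m K) ∈ GA.PP (XU m K) ⊓ center (XU m K) :=
        ⟨GA.FB.UP u.2, (QuotientGroup.eq_one_iff _).1 hu⟩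
      rw [GA.FB.Pc] at h1
      exact Subtype.ext h1
    have hc : Nat.card ((U0 m K).map (QuotientGroup.mk' (center (XU m K)))) = Nat.card (U0 m K) := by
      rw [← range_subtype (U0 m K), ← MonoidHom.range_comp, range_subtype]
      exact (Nat.card_congr (MonoidHom.ofInjective hi).toEquiv).symm
    rw [hc, GA.FB.cardU, qq_eq, NN_eq, SA.NN]
    have q2 : 2 ≤ qK K := GA.FB.q2 (X := XU m K)
    have : 9 ≤ (m + 1) * m / 2 := by
      rw [Nat.le_div_iff_mul_le two_pos]; nlinarith
    exact (Nat.pow_le_pow_right two_pos this).trans (Nat.pow_le_pow_left q2 _)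

end H76.YUNU
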