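import Cfsg.Agent.H78.P6.H78_YUDef

namespace H67 end H67
open H67
namespace H77 end H77
open H77
namespace H67.P6 end H67.P6
open H67.P6
namespace H67.P6.H67 end H67.P6.H67
open H67.P6.H67
namespace H67.P6.H77 end H67.P6.H77
open H67.P6.H77
namespace H67.P6.H77.YUAL end H67.P6.H77.YUAL
open H67.P6.H77.YUAL
namespace H85.P6 end H85.P6
open H85.P6
namespace H85.P6.H67 end H85.P6.H67
open H85.P6.H67
namespace H85.P6.H77 end H85.P6.H77
open H85.P6.H77
namespace H85.P6.H77.YUAL end H85.P6.H77.YUAL
open H85.P6.H77.YUAL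
namespace H78.P6


/-! Slot AL of the blueprint `STDSP_YU.md`. -/

set_option autoImplicit false

namespace H77.YUAL
open H67 H67.UA H64.YE Matrix H78.YU
open H67.SP (kk)

theorem blk {K : Type} [Field K] {n : ℕ} (k : ℕ) {A B : Matrix (Fin n) (Fin n) K}
    (hA : ∀ i j : Fin n, j.val < k → A i j = 0) (hB : ∀ i j : Fin n, k ≤ i.val → B i j = 0) : A * B = 0 :=
  Matrix.ext fun i j => by
    rw [mul_apply]
    refine Finset.sum_eq_zero fun l _ => ?_
    rcases lt_or_ge l.val k with h | h
    exacts [by rw [hA i l h, zero_mul], by rw [hB l j h, mul_zero]]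

theorem jobAL : JobAL := fun n F _ _ _ _ _ p _ _ _ K _ _ _ _ x h _ u hu al => by
  have := hfK x h
  obtain ⟨η, hη⟩ := H59.UM.exists_tr (K := K) (star_one K)
  obtain ⟨k, hk⟩ := p.odd
  have ek : kk n = k + 1 := by rw [kk]; omega
  have a1 : ∀ j, mt u j.rev j = 0 := fun j => by rw [← ac_ev, ← hf_ev_right (ac u (ev j)) j, al]
  have a2 : ∀ i j, mt u i j = mt u j.rev i.rev := fun i j => by
    have := al (ev j + ev i.rev)
    rw [ac_add, hf_add_left, hf_add_right, hf_add_right, al, al, zero_add, add_zero, hf_ev_right, hf_ev_right,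
      ac_ev, ac_ev, Fin.rev_rev] at this
    exact (CharTwo.add_eq_zero).1 this
  obtain ⟨N, hN⟩ : ∃ N : Matrix (Fin (n + 1)) (Fin (n + 1)) K, N = (mt u + 1).map x.φ := ⟨_, rfl⟩
  have n0 : ∀ i j, N i j = x.φ (mt u i j + if i = j then 1 else 0) := fun i j => by rw [hN]; rfl
  have n1 : ∀ i j : Fin (n + 1), kk n ≤ i.val → N i j = 0 := fun i j hi => by
    have := hu (ev j) i hi
    rw [Pi.add_apply, ac_ev, ev_apply] at this
    rw [n0, this, map_zero]
  have n2 : ∀ i j, N j.rev i.rev = N i j := fun i j => by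
    rw [n0, n0, ← a2]; simp only [Fin.rev_inj, eq_comm]
  have n3 : ∀ i j : Fin (n + 1), j.val < kk n → N i j = 0 := fun i j hj => by
    rw [← n2, n1 _ _ (by rw [Fin.val_rev]; omega)]
  have n4 : ∀ i j : Fin (n + 1), i.val + j.val = n → N i j = 0 := fun i j e => by
    rw [show i = j.rev from Fin.ext (by rw [Fin.val_rev]; omega), n0, a1,
      if_neg fun e' => by have := congrArg Fin.val e'; rw [Fin.val_rev] at this; omega, add_zero, map_zero]
  have n5 : ∀ i j, star (N i j) = N i j := fun i j => by rw [n0, x.st (.inr h), star_trivial]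
  have s0 : star η = η + 1 := by rw [← hη, ← add_assoc, CharTwo.add_self_eq_zero, zero_add]
  have s1 : star (η + 1) = η := by rw [star_add, s0, star_one, add_assoc, CharTwo.add_self_eq_zero, add_zero]
  obtain ⟨M, m0⟩ : ∃ M : Matrix (Fin (n + 1)) (Fin (n + 1)) K,
    ∀ i j, M i j = N i j * if i.val + j.val < n then η else η + 1 := ⟨of fun i j => _, fun _ _ => rfl⟩
  have m1 : ∀ i j : Fin (n + 1), kk n ≤ i.val → M i j = 0 := fun i j hi => by rw [m0, n1 i j hi, zero_mul]
  have aa : ∀ A : Matrix (Fin (n + 1)) (Fin (n + 1)) K, A + A = 0 := fun A =>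
    Matrix.ext fun _ _ => CharTwo.add_self_eq_zero _
  have sq : (1 + M) * (1 + M) = 1 := by
    rw [mul_add, mul_one, add_mul, one_mul, blk (kk n) (fun i j hj => by rw [m0, n3 i j hj, zero_mul]) m1,
      add_zero, add_assoc, aa, add_zero]
  have d : (1 + M).det = 1 := by
    have := congrArg det sq
    rw [det_mul, det_one, mul_self_eq_one_iff, CharTwo.neg_eq, or_self] at this
    exact this
  refine ⟨⟨⟨1 + M, d⟩, mem_XU_iff.2 (.trans (congrArg _ (Matrix.ext fun i j => ?_)) sq)⟩, fun w i hi => ?_,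
    eq_mul_inv_of_mul_eq (X_ext ?_)⟩
  · show star ((1 + M) j.rev i.rev) = (1 + M) i j
    rw [Matrix.add_apply, Matrix.add_apply, star_add, m0, m0, star_mul', n2, n5, one_apply, one_apply]
    congr 1
    · simp only [Fin.rev_inj, eq_comm]; split_ifs <;> simp
    rcases eq_or_ne (i.val + j.val) n with e | e
    · rw [n4 i j e, zero_mul, zero_mul]
    simp only [Fin.val_rev]
    split_ifs
    exacts [by omega, congrArg _ s0, congrArg _ s1, by omega]
  · show ((1 + M) *ᵥ w) i + w i = 0
    rw [add_mulVec, one_mulVec, Pi.add_apply, add_right_comm, CharTwo.add_self_eq_zero, zero_add]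
    show ∑ j, M i j * w j = 0
    exact Finset.sum_eq_zero fun j _ => by rw [m1 i j hi, zero_mul]
  · show (mt u).map x.φ * (1 + M).map star = 1 + M
    have e1 : (mt u).map x.φ = 1 + N := by
      rw [hN, Matrix.map_add _ (map_add _), Matrix.map_one _ (map_zero _) (map_one _), add_left_comm, aa,
        add_zero]
    rw [e1, Matrix.map_add _ star_add, Matrix.map_one _ (star_zero _) (star_one _), mul_add, mul_one, add_mul,
      one_mul, blk (kk n) n3 fun i j hi => by rw [map_apply, m1 i j hi, star_zero], add_zero, add_assoc]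
    refine congrArg _ (Matrix.ext fun i j => ?_)
    rw [Matrix.add_apply, map_apply, m0, star_mul', n5]
    split_ifs
    · rw [s0, mul_add, mul_one, add_comm, add_assoc, CharTwo.add_self_eq_zero, add_zero]
    · rw [s1, mul_add, mul_one, add_comm]

end H77.YUAL
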