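import Cfsg.Agent.H85.P6.Fac
import Cfsg.Agent.H85.P6.H54_SPFA
import Cfsg.Agent.H85.P6.H72_SPFR
import Cfsg.Agent.H85.P6.H62_SPFC
import Cfsg.Agent.H78.P6.H59_S2FX
import Cfsg.Agent.H78.P6.H62_SP2FY

namespace H78 end H78
open H78
namespace H85.P6 end H85.P6
open H85.P6
namespace H85.P6.H78 end H85.P6.H78
open H85.P6.H78
namespace H85.P6.H78.S2 end H85.P6.H78.S2
open H85.P6.H78.S2
namespace H78.P6


/-! STD-SP (row S3129): the facts on `X`, without hypotheses. -/

set_option autoImplicit false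

namespace H78.S2

open H67.SP

variable (n : ℕ) (F : Type) [Field F] [StarRing F] [TrivialStar F] [CharP F 2] [Finite F] [Par n F]

theorem fX [c : FC n F] : FX n F := H59.S2FX.jobFX n F (base n F) c

theorem fY [c : FC n F] : FY n F := H62.SP2FY.jobFY n F (base n F) c (fX n F)

end H78.S2
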