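import Cfsg.Agent.H78.P6.H78_S2Fac
import Cfsg.Agent.H78.P6.H54_S2A0
import Cfsg.Agent.H78.P6.H96_SP2NK
import Cfsg.Agent.H78.P6.H6_Sp2P1
import Cfsg.Agent.H78.P6.H62_SP2P2b
import Cfsg.Agent.H78.P6.H76_S2P3a
import Cfsg.Agent.H78.P6.H23_S2P3b
import Cfsg.Agent.H78.P6.H76_S2P4

namespace H78 end H78
open H78
namespace H85.P6 end H85.P6
open H85.P6
namespace H85.P6.H78 end H85.P6.H78
open H85.P6.H78
namespace H85.P6.H78.S2 end H85.P6.H78.S2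
open H85.P6.H78.S2
namespace H78.P6


/-! STD-SP (row S3129), chapter II, part (a). -/

set_option autoImplicit false

namespace H78.S2

universe u

theorem w1 : JobW1.{u} :=
  jobW1 H59.S2FX.jobFX H62.SP2FY.jobFY H54.S2.jobA0 H96.SP2N.jobNK H6.Sp2P1.jobP1 H96.SP2N.jobP2a
    H62.SP2P2b.jobP2b H76.S2P3a.jobP3a H23.S2P3b.jobP3b H76.S2P4.jobP4

end H78.S2
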