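import Cfsg.Agent.H78.P6.H78_YUDef
import Cfsg.Agent.H78.P6.H78_S2Fac
import Cfsg.Agent.H78.P6.H78_S2LV
import Cfsg.Agent.H78.P6.H78_S2CT
import Cfsg.Agent.H67.P6.H59_S3MU1
import Cfsg.Agent.H78.P6.H35_S2UM
import Cfsg.Agent.H85.P6.H66_UAFK

namespace H67 end H67
open H67
namespace H78 end H78
open H78
namespace H67.P6 end H67.P6
open H67.P6
namespace H67.P6.H67 end H67.P6.H67
open H67.P6.H67
namespace H67.P6.H78 end H67.P6.H78
open H67.P6.H78
namespace H67.P6.H78.YU end H67.P6.H78.YU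
open H67.P6.H78.YU
namespace H85.P6 end H85.P6
open H85.P6
namespace H85.P6.H67 end H85.P6.H67
open H85.P6.H67
namespace H85.P6.H78 end H85.P6.H78
open H85.P6.H78
namespace H85.P6.H78.YU end H85.P6.H78.YU
open H85.P6.H78.YU
namespace H78.P6


/-! STD-SP (row S3129), endgame, unitary models: the slots `QM I1 F0 F1 G0`. -/

set_option autoImplicit false
set_option linter.unusedSectionVars false

namespace H78.YU

open H64.SG (O2 Syl Cz Cs Ns cjs Is2 Inv2 IsO2 fx)
open H67 H67.UA H64.YE Subgroup Matrix H59.S3MU1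
open H67.SP (Qx bc fa mt_bc mt_fa mid iv IsIns ins Alt kk vx)
open H67.SA (cm St la)

section

variable {m : ℕ} {K : Type} [Field K] [StarRing K] [CharP K 2] [Finite K]

theorem ta_sq : ta m K * ta m K = 1 := MulEquiv.ext ta_ta

theorem wk_br {k : ℕ} {v : Vn m K} (h : Wk k v) : Wk k (br v) := fun i hi => by
  rw [br, h i hi, star_zero]

variable [p : Par m K]

theorem out_ta : GA.out (XU m K) (ta m K) = sg K := by
  have := p.five
  have h := SA.out_slField (n := m) (by omega) (sg K)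
  rw [FX.out_eq (ta m K) (H57.slField _ K (sg K)) ⟨fun _ => rfl, by rw [h]⟩, h]

theorem out_comm {β : MulAut (XU m K)} (h : β ∈ commutator (MulAut (XU m K))) :
    GA.out (XU m K) β = 1 := by
  refine (show commutator _ ≤ (GA.out (XU m K)).ker from commutator_le.2 fun a _ b _ => ?_) h
  exact GA.out_cm a b

theorem stU : ta m K ∈ St (U0 m K) := SA.mem_St_of_finite fun g hg => (FV.mem_U _).2 fun k v hv => by
  rw [← br_br v, ac_ta, ← br_add]
  exact wk_br ((FV.mem_U g).1 hg k _ (wk_br hv))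

end

theorem jobQM : JobQM := fun m K _ _ _ _ p =>
  { qs := ⟨GA.FO.perf, GA.FO.oddZ, GA.FO.nrm, GA.FO.qs, fun β h h2 => GA.FO.inn β (out_comm h) h2⟩
    stU := stU
    tne := fun h => H66.UAK.sg_ne m (out_ta.symm.trans (out_comm h))
    m3 := fun β h2 h3 o1 o2 => by
      rcases SA.out_sq_eq_one (H66.UAK.sg_ne m) H66.UAK.sg_sq (τ := GA.out (XU m K) β)
        (by rw [← map_mul, h2, map_one]) with h | h
      · obtain ⟨s, hs⟩ := GA.FO.inn β h (H64.SG.is2_of_sq h2)
        exact o1 s hs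
      · obtain ⟨s, hs⟩ := GA.FO.inn (β * ta m K) (by
          rw [map_mul, out_ta, h]; exact H66.UAK.sg_sq) h3
        exact o2 s hs
    good := fun j hj => ⟨GA.Qk_le_UU hj, GA.UU_le_Ns_Qk hj, (GA.FA.nu _ stU j hj).2,
      fun g hg => GA.Mk_le_Qk hj (GA.mem_Mk_of_Cs hj hg.1 (GA.is2_of_UU hg.2)), fun α h1 h2 => by
        obtain ⟨g, hg, rfl⟩ := SA.mem_cI.1 (GA.FA.ctK j hj α h1)
        exact H64.SG.Is2.eq_one (H64.SG.is2_of_sq (by
          rw [← map_mul, GA.FB.sqM j hj g hg, map_one])) h2⟩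
    xk := fun j hj => X_ext (Matrix.ext fun a b => by
      rw [ta_apply, UA.mt, FV.xk_val j (rg_iff.1 hj).2]
      simp only [SA.xk, Matrix.add_apply, one_apply, of_apply]
      split_ifs <;> simp) }

theorem jobI1 : JobI1 := fun m K _ _ _ _ p hn =>
  { isIns := isIns hn
    inj := ins_inj hn
    rng := ins_rng hn
    ee := fun _ _ _ h => ins_EE hn h
    tc := fun y => bc_ins (sg K : K →+* K) (fun _ => rfl) hn y
    add := iv_add
    smul := iv_smul
    hh := hf_iv hn
    hm := hf_im hn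
    mm := hf_mm hn
    dec := fun z => ⟨_, _, (dec z).trans (add_comm _ _)⟩
    e0 := by
      have := p.five
      rw [iv_ev, Fin.succAbove_ne_zero_zero (by rw [Ne, Fin.ext_iff]; simp [mid]; omega)]
    bi := fun v => vext (by simp [br]) (by simp [br]) }

theorem jobF0 : JobF0 := fun n F _ _ _ _ _ _ _ _ _ K _ _ _ _ x h =>
  { inj := fun m a b e => X_ext (Matrix.map_injective x.φ.injective (congrArg UA.mt e))
    fix := fun m y => ⟨fun e => by
      have k : ∀ i j, UA.mt y i j ∈ x.φ.range := fun i j =>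
        (x.fix _).1 ((h _).symm.trans (congrFun (congrFun (congrArg UA.mt e) i) j))
      choose M hM using k
      have e1 : (of M).map x.φ = UA.mt y := Matrix.ext hM
      have e2 : ∀ v, vx x.φ (of M *ᵥ v) = ac y (vx x.φ v) := fun v => funext fun i => by
        simp [ac, ← e1, vx, mulVec, dotProduct]
      obtain ⟨g, hg⟩ := exists_X (of M) (x.φ.injective (by
        rw [RingHom.map_det, RingHom.mapMatrix_apply, e1, mt_det, map_one])) fun a b =>
          x.φ.injective (by
            rw [← hf_vx x.φ (x.st (Or.inr h)), e2, e2, hf_ac, hf_vx x.φ (x.st (Or.inr h))])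
      exact ⟨g, X_ext (by rw [mt_bc, hg, e1])⟩, by
      rintro ⟨g, rfl⟩
      exact X_ext (Matrix.ext fun i j => (x.st (Or.inr h) _).trans (congrArg x.φ (star_trivial _)))⟩
    ac := fun m => ac_bc x.φ _
    hv := fun m => hf_vx x.φ (x.st (Or.inr h))
    ee := fun m _ _ _ o => bc_EE x.φ _ o
    ve := fun m => vx_ev x.φ
    bv := fun m v => funext fun i => (x.st (Or.inr h) _).trans (congrArg x.φ (star_trivial _)) }

theorem jobF1 : JobF1 := fun n F _ _ _ _ _ p _ _ _ K _ _ _ _ x h f i => by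
  have sq : ∀ g, iV n x h g = ins n K (iU n x h g) := bc_ins x.φ _ p.odd
  refine ⟨sq, fun y => ⟨fun e => ?_, ?_⟩⟩
  · obtain ⟨g, rfl⟩ := (f.fix _ y).1 e
    have k : ∀ v : Vn (n + 1) F, hf v v = v (mid n) ^ 2 := fun v => by
      rw [hf_mid p.odd, H86.SPI.hf_self, star_trivial, add_zero, pow_two]
    have : ac g⁻¹ (ev (mid n)) = ev (mid n) := eq_of_hf fun z => by
      rw [← star_hf, ← hf_ac_left, ← star_hf z, hf_m p.odd, hf_m p.odd]
      exact congrArg star (sq_inj (by rw [← k, ← k, hf_ac]))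
    obtain ⟨a, rfl⟩ := ins_rng p.odd g (by rw [← this, ac_ac_inv, this])
    exact ⟨a, rfl⟩
  · rintro ⟨g, rfl⟩
    exact (f.fix _ _).2 ⟨_, rfl⟩

theorem jobG0 : JobG0 := fun n F _ _ _ _ _ p b c _ K _ _ _ _ x h f η hη H h1 h2 => by
  have ct := (S2.jobCT.{0} n F b c (S2.fX n F) (S2.fY n F) K x h (S2.jobLV n F K x h)).1
  obtain ⟨M, -⟩ := H35.S2UM.jobUM n F K x h
  have five := p.five
  have mem : ∀ g, iU n x h g ∈ H := fun g => h1 ⟨g, rfl⟩
  have h01 : hf (ev 1 : Vn n F) (ev 0) = 0 := by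
    rw [hf_ev, if_neg (by rw [Fin.ext_iff, Fin.val_rev, H59.UM.v1 five]; simp; omega)]
  have k : ∀ u v : Vn n F, hf v u = 0 → S2.zM x.φ u v η ∈ H := fun u v k => by
    by_cases hu : u = 0
    · have : S2.zM x.φ u v η = 1 := by
        rw [hu]; exact (congrArg (EE · _ 0) (vx_zero x.φ)).trans (EE_zero_left _ _)
      rw [this]; exact one_mem H
    by_cases hl : Li u v
    · obtain ⟨g, rfl, rfl⟩ := SP.FW.w2 u v (hf_symm k) hl
      rw [← M.eqv g _ _ η h01]
      refine mul_mem (mul_mem (mem g) ?_) (inv_mem (mem g))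
      convert h2 using 1
      exact congrArg₂ (fun a b => EE a (η • b) 0) (vx_ev x.φ 0) (vx_ev x.φ 1)
    · obtain ⟨a, rfl⟩ := S2.dep_of_not_li hu hl
      rw [M.sm a u u η (H86.SPI.hf_self u), M.dep u _ a (by
        rw [tr, star_mul', x.st (Or.inr h), star_trivial a, ← mul_add, show η + star η = 1 from hη,
          mul_one])]
      exact mem _
  rw [eq_top_iff, ← ct]
  refine sup_le h1 ((closure_le _).2 ?_)
  rintro _ ⟨u, v, α, k0, rfl⟩
  obtain ⟨s, hs⟩ := (x.fix (tr α)).1 (by rw [← h, star_tr])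
  obtain ⟨a, ha⟩ := (x.fix (α + x.φ s * η)).1 (by
    rw [← h, star_add, star_mul', x.st (Or.inr h), star_trivial s, hs]
    linear_combination (α + star α) * hη - (η * (α + star α)) * two0 K + star α * two0 K)
  rw [show α = x.φ a + x.φ s * η by rw [ha]; linear_combination -(x.φ s * η) * two0 K,
    ← M.add _ _ _ _ k0, M.rat _ _ _ k0, ← M.sm _ _ _ _ k0]
  exact mul_mem (mem _) (k _ _ (by rw [hf_smul_left, k0, mul_zero]))

end H78.YU
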