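import Cfsg.Agent.H78.P6.H78_YUA

namespace H67 end H67
open H67
namespace H78 end H78
open H78
namespace H67.P6 end H67.P6
open H67.P6
namespace H67.P6.H67 end H67.P6.H67
open H67.P6.H67
namespace H67.P6.H78 end H67.P6.H78
open H67.P6.H78
namespace H67.P6.H78.YU end H67.P6.H78.YU
open H67.P6.H78.YU
namespace H85.P6 end H85.P6
open H85.P6
namespace H85.P6.H67 end H85.P6.H67
open H85.P6.H67
namespace H85.P6.H78 end H85.P6.H78
open H85.P6.H78
namespace H85.P6.H78.YU end H85.P6.H78.YU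
open H85.P6.H78.YU
namespace H78.P6


/-! STD-SP (row S3129), endgame, unitary models: the assembly. -/

set_option autoImplicit false
set_option linter.unusedSectionVars false

namespace H78.YU

open H64.SG (O2 Syl Cz Cs Ns cjs Is2 Inv2 IsO2 fx)
open H67 H67.UA H64.YE Subgroup Matrix
open H67.SP (Qx bc fa mt_bc mt_fa mid iv IsIns ins Alt kk vx)
open H67.SA (cm St la)

/-- The open slots. -/
structure SY : Prop where
  rr : JobR0
  np : JobNP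
  rn : JobRN
  qn : JobQN
  ra : JobRA
  hb : JobHB
  h1 : JobH1
  ha : JobHA
  pt : JobPT
  sd : JobSD
  s0 : JobS0
  s1 : JobS1
  bi : JobBI
  nu : JobNU
  cl : JobCL
  g1 : JobG1
  dc : JobDC
  al : JobAL
  gc : JobGC

section

variable {n : ℕ} {F : Type} [Field F] [StarRing F] [TrivialStar F] [CharP F 2] [Finite F]

theorem le_Ns_EG {Y : Type} [Group Y] [Finite Y] (ι : XU n F →* Y) (Go : XU n F → Prop)
    (B : Subgroup Y) : B ≤ Ns (EG ι Go B) := fun b hb =>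
  SA.conj_mem_St.1 (SA.mem_St_of_finite fun g hg => by
    refine (show EG ι Go B ≤ (EG ι Go B).comap (MulAut.conj b).toMonoidHom from
      (closure_le _).2 ?_) hg
    rintro _ ⟨c, hc, v, h1, h2, h3, rfl⟩
    exact subset_closure ⟨b * c, mul_mem hb hc, v, h1, h2, h3, by simp [mul_assoc]⟩)

theorem gen_of {Y : Type} [Group Y] [Finite Y] [QS Y] (X : Subgroup Y) {a : Y} (h1 : a * a ∈ X)
    (h2 : ∀ H, X ≤ H → a ∈ H → H = ⊤) (h3 : ¬ X ≤ center Y) : X ⊔ cjs a X = ⊤ := by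
  refine (QS.nrm _ (normalizer_eq_top_iff.1 (h2 _ (le_sup_left.trans le_normalizer) ?_))).resolve_left
    fun k => h3 (le_sup_left.trans k)
  refine SA.conj_mem_St.1 (SA.mem_St_of_finite fun g hg => ?_)
  refine (show X ⊔ cjs a X ≤ (X ⊔ cjs a X).comap (MulAut.conj a).toMonoidHom from
    sup_le (fun g hg => mem_sup_right ⟨g, hg, rfl⟩) ?_) hg
  rintro _ ⟨g, hg, rfl⟩
  refine mem_sup_left ?_
  convert mul_mem (mul_mem h1 hg) (inv_mem h1) using 1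
  simp [mul_assoc]

variable {m : ℕ} {K : Type} [Field K] [StarRing K] [CharP K 2] [Finite K] [p : Par m K]

theorem ppe {i j : Fin (m + 1)} (hi : 2 * i.val ≠ m) (hj : 2 * j.val ≠ m) (h : i.val + j.val ≠ m) :
    Pp (ev i : Vn m K) (ev j) :=
  pp_ev (by rw [Ne, Fin.ext_iff, Fin.val_rev]; omega) (by rw [Ne, Fin.ext_iff, Fin.val_rev]; omega)
    (by rw [Ne, Fin.ext_iff, Fin.val_rev]; omega)

theorem SY.mod (s : SY) (ι : XU n F →* XU m K) (Gd : XU n F → Prop) (hq : qK K = Nat.card F)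
    (hk : kk m = kk n) (fix : ∀ y, ta m K y = y ↔ y ∈ ι.range)
    (aq : ∀ i j, Pp (ev i : Vn m K) (ev j) → ∃ v, v * v = 1 ∧ Gd v ∧ ι v = qq (ev j) (ev i))
    (ht : ∃ u, u * u = 1 ∧ ι u = r0 m K)
    (gen : ∃ a, a * a ∈ ι.range ∧ a * (ta m K a)⁻¹ ∈ ι.range ∧ ∀ H, ι.range ≤ H → a ∈ H → H = ⊤)
    (gdc : ∀ u, u * u = 1 → Gd u → ∃ g, ι u = g * (ta m K g)⁻¹) : Mod ι (ta m K) Gd := by
  have five := p.five
  have qm := jobQM m K
  have r := s.rr m K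
  have np := s.np m K
  have rn := s.rn m K r
  have qn := s.qn m K
  have hb := s.hb m K r
  have sd := s.sd m K
  have := qm.qs
  have i0 := H59.UM.iso0 (n := m) (K := K)
  have v1 := H59.UM.v1 five
  have v2 := H59.UM.v2 five
  have ri : Inv2 (r0 m K) := by rw [r0, ← (base m K).xk_one]; exact GA.inv2_xk GA.rg1
  have rz : r0 m K ∈ Z0 m K := (FV.mem_Z _).2 ⟨1, star_one K, rfl⟩
  have tz : ∀ z ∈ Z0 m K, ta m K z = z := fun z hz => by
    obtain ⟨c, hc, rfl⟩ := (FV.mem_Z z).1 hz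
    rw [ta_EE (ok_zero i0 hc), br_ev, br_zero, hc]
  have p01 : Pp (ev 0 : Vn m K) (ev 1) :=
    ppe (by simp; omega) (by omega) (by rw [v1, Fin.val_zero]; omega)
  have p02 : Pp (ev 0 : Vn m K) (ev 2) :=
    ppe (by simp; omega) (by omega) (by rw [v2, Fin.val_zero]; omega)
  have p12 : Pp (ev 1 : Vn m K) (ev 2) := ppe (by omega) (by omega) (by omega)
  have pl1 : Pp (ev (la m) : Vn m K) (ev 1) :=
    ppe (by simp; omega) (by omega) (by rw [v1, Fin.val_last]; omega)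
  have eg : ∀ B i j, Pp (ev i : Vn m K) (ev j) → qq (ev j) (ev i) ∈ B →
      qq (ev j) (ev i) ∈ EG ι Gd B := fun B i j h hB => by
    obtain ⟨v, h1, h2, h3⟩ := aq i j h
    exact subset_closure ⟨1, one_mem B, v, h1, h2, h3 ▸ hB, by simp [h3]⟩
  have pe : ∀ B, P0 m K ≤ B → P0 m K ≤ EG ι Gd B := fun B hB =>
    np.np _ (hB.trans (le_Ns_EG ι Gd B)) (eg B _ _ p01 (hB (ac_EE_self p01.ok)))
      (eg B _ _ p12 (hB (ac_EE_fix p12.ok p01.p p02.p)))
  have pq : P0 m K ≤ Ns (Q0 m K) := fun g hg => SA.conj_mem_St.1 (r.stq _ (SA.conj_mem_St.2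
    (centralizer_le_normalizer _ (GA.PP_le_Cs hg))))
  obtain ⟨u0, t1, t2⟩ := ht
  obtain ⟨a, a1, ⟨u, a2⟩, a3⟩ := gen
  refine ⟨U0 m K, ⟨⟨ta_sq, fix, GA.FB.syl, qm.stU, qm.tne, a, u, a2.symm, gen_of _ a1 a3 fun k =>
      ri.2 (GA.eq_one_of_center (k ⟨u0, t2⟩) (H64.SG.is2_of_sq ri.1))⟩, ⟨gdc, fun v hv => ?_⟩, qm.qs,
      fun β b1 b2 b3 b4 => (qm.m3 β b1 b2 b3 b4).elim⟩,
    .inr (.inl ⟨fun y hy => ?_, s.nu m K, fun y hy => ?_, r0 m K, Z0 m K, Q0 m K,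
      ⟨qm.good 1 GA.rg1, (GA.UU_le_PP.trans (pe _ pq)).trans le_sup_left, _, qm.good 2 GA.rg2,
        np.top _ ((pe _ pq).trans (le_sup_left.trans le_sup_left))
          (mem_sup_left (mem_sup_right (eg _ _ _ pl1 np.n2)))⟩,
      ⟨ri, tz _ rz, rz, GA.ZZ_le_QQ, GA.QQ_le_UU, GA.UU_le_Cs, fun _ => GA.sq_of_ZZ,
        GA.FB.sqQ 1 GA.rg1, r.rz, fun α => r.ra α _ (IsConj.refl _), r.str, r.stq,
        (qm.good 1 GA.rg1).co, r.ce, GA.QQ_le_PP.trans (pe _ GA.PP_le_Cs)⟩,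
      ⟨s.pt m K r, GA.FP.ivQ, fun u hu x hx h1 h2 => ?_⟩, s.ra m K r np qn,
      ⟨hb.pd, s.ha m K r (s.h1 m K), hb.hb⟩, rn,
      ⟨fun x hx h0 => ?_, r.zq, fun u h1 h2 h3 => .inl (rn.zp _ rz ri.2 u h1 h2 h3)⟩⟩)⟩
  · obtain ⟨g, h | h⟩ := s.cl m K v hv
    · exact ⟨g, 1, mul_one 1, by rw [map_one, mul_one, h]⟩
    · exact ⟨g, u0, t1, by rw [t2, h]⟩
  · rw [bq, ← hq, ← hk]
    exact s.bi m K y hy
  · by_cases h1 : y = 1
    · exact ⟨1, 1, by simp [h1]⟩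
    obtain ⟨g, j, hj, e⟩ := GA.FI.ic y ⟨hy, h1⟩
    obtain ⟨w, hw⟩ := (fix _).1 (qm.xk j hj)
    exact ⟨g⁻¹, w, by rw [hw, ← e]; group⟩
  · have hz := GA.FB.sqQ 1 GA.rg1 x hx
    rcases Nat.even_or_odd m with k | k
    · exact .inr ⟨tz, s.s1 m K r sd k u hu (h2 ▸ hz) (h2 ▸ h1),
        s.s1 m K r sd k x (GA.QQ_le_UU hx) hz h1⟩
    · exact .inl (s.s0 m K sd k u hu (h2 ▸ hz) (h2 ▸ h1))
  · obtain ⟨z, c, z1, z2, z3, z4⟩ := qn x hx h0
    have o : Ok (ev 0) (c • z) (nm c) := ⟨i0, by rw [hf_smul_left, z1.symm.p, mul_zero], by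
      rw [tr_eq_zero.2 (star_nm c), z1.r.smul c]⟩
    refine ⟨TT z, GA.PP_le_Cs (show ac _ _ = _ by
      rw [ac_Tc z1.r (star_one K), z1.p, mul_zero, zero_smul, add_zero]), ?_, fun k => ?_⟩
    · rw [z4, EE_mul o o, v_add_self, CharTwo.add_self_eq_zero, z1.r.smul c, add_zero, EE_zero]
    · obtain ⟨d, hd, e⟩ := (FV.mem_Z _).1 k
      obtain ⟨b, hb, -⟩ := EE_inj (ev_ne 0) o (ok_zero i0 hd) (z4.symm.trans e)
      exact z3 (z2 b c (by rw [add_comm, ← hb])).2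

end

theorem SY.mu0 (s : SY) : JobMU0 := by
  intro n F _ _ _ _ _ p b c o K _ _ _ _ x h
  have := par0 n x h
  have f : F0 x h := jobF0 n F b c o K x h
  have i := jobI1 n K p.odd
  have f1 := jobF1 n F b c o K x h f i
  have gc := s.gc n F b c o K x h f i f1 (s.dc n F b c o) (s.al n F b c o K x h f)
  obtain ⟨η, hη⟩ : ∃ η : K, tr η = 1 := (base n K).eta
  have five := p.five
  have v1 := H59.UM.v1 five
  have p01 : Pp (ev 0 : Vn n K) (ev 1) :=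
    ppe (by simp; omega) (by omega) (by rw [v1, Fin.val_zero]; omega)
  have o1 : ∀ a : K, Ok (ev 0 : Vn n K) (a • ev 1) 0 := fun a => by simpa using (p01.smul 1 a).ok
  have eq : ∀ i j, Pp (ev i : Vn n K) (ev j) → hf (ev j : Vn n F) (ev i) = 0 ∧
      iU n x h (qq (ev j) (ev i)) = qq (ev j) (ev i) := fun i j k => by
    have : hf (ev j : Vn n F) (ev i) = 0 := x.φ.injective (by
      rw [← f.hv, f.ve, f.ve, k.symm.p, map_zero])
    exact ⟨this, by rw [f.ee _ _ _ _ (H86.SPI.ok this 0), f.ve, f.ve, map_zero]⟩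
  rw [tU_eq]
  refine ⟨s.mod _ _ (qK_eq x h) rfl (f.fix n) (fun i j k => ⟨_, H86.SPI.qq_sq (eq i j k).1,
    fun v => ?_, (eq i j k).2⟩) ⟨TT (ev 0), S2.Tc_sq 1 _, ?_⟩ ⟨qq (η • ev 1) (ev 0), ⟨1, ?_⟩,
      ⟨qq (ev 1) (ev 0), ?_⟩, jobG0 n F b c o K x h f η hη⟩ gc.g0, gc.na⟩
  · rw [S2.ac_qq' (eq i j k).1, hf_add_left, hf_add_left, hf_smul_left, hf_smul_left,
      H86.SPI.hf_self, H86.SPI.hf_comm (ev i), H86.SPI.hf_comm (ev j)]
    linear_combination hf v (ev j) * hf v (ev i) * two0 F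
  · rw [f.ee _ _ _ _ (H86.SPI.ok (hf_zero_left _) 1), f.ve, map_one, H59.S3MU1.vx_zero]
  · rw [map_one, EE_mul (o1 η) (o1 η), v_add_self, p01.r.smul η]; simp
  · rw [(eq 0 1 p01).2, ta_EE (o1 η), br_smul, br_ev, br_ev, star_zero, EE_inv (o1 _), star_zero,
      EE_mul (o1 _) (o1 _), ← add_smul, show η + star η = 1 from hη, hf_smul_left, hf_smul_right,
      p01.r]
    simp

theorem SY.mu1 (s : SY) : JobMU1 := by
  intro n F _ _ _ _ _ p b c o K _ _ _ _ x h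
  have := par0 n x h
  have := par1 n x h
  have f : F0 x h := jobF0 n F b c o K x h
  have i := jobI1 n K p.odd
  have f1 := jobF1 n F b c o K x h f i
  have gc := s.gc n F b c o K x h f i f1 (s.dc n F b c o) (s.al n F b c o K x h f)
  obtain ⟨η, hη⟩ : ∃ η : K, tr η = 1 := (base n K).eta
  have i0 := H59.UM.iso0 (n := n + 1) (K := K)
  have inj : Function.Injective (iV n x h) := fun a b e =>
    f.inj n (i.inj (by rw [← f1.sq, ← f1.sq, e]))
  have o1 : Ok (ev 0 : Vn (n + 1) K) (ev (mid n)) η :=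
    ⟨i0, by rw [← i.e0]; exact hf_symm (i.hm _), by rw [hη, i.mm]⟩
  have sq : ∀ y : XU (n + 1) K, ta _ K y = y → y * y = 1 → ∃ v, v * v = 1 ∧ iV n x h v = y :=
    fun y h1 h2 => by
      obtain ⟨v, rfl⟩ := (f1.fix y).1 h1
      exact ⟨v, inj (by rw [map_mul, h2, map_one]), rfl⟩
  have t0 : ta (n + 1) K (r0 (n + 1) K) = r0 (n + 1) K := by
    rw [ta_EE (ok_zero i0 (star_one K)), br_ev, br_zero, star_one]
  have aa : EE (ev 0) (ev (mid n)) η * EE (ev 0) (ev (mid n)) η = r0 (n + 1) K := by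
    rw [EE_mul o1 o1, v_add_self, CharTwo.add_self_eq_zero, i.mm, zero_add]
  rw [tU_eq]
  refine s.mod _ _ (qK_eq x h) (by obtain ⟨k, hk⟩ := p.odd; simp only [kk]; omega) f1.fix
    (fun i j k => ?_) (sq _ t0 (Tc_mul_self i0 (star_one K))) ⟨EE (ev 0) (ev (mid n)) η,
      aa ▸ (f1.fix _).1 t0, ?_, s.g1 n F b c o K x h f i f1 (jobG0 n F b c o K x h f) η hη⟩
    fun u h1 _ => gc.g1 u h1
  · obtain ⟨v, h1, h2⟩ := sq (qq (ev j) (ev i)) (by rw [ta_EE k.ok, br_ev, br_ev, star_zero])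
      (by rw [EE_mul k.ok k.ok, v_add_self, k.r]; simp)
    exact ⟨v, h1, trivial, h2⟩
  · rw [ta_EE o1, br_ev, br_ev, EE_inv o1.star, star_star, aa]
    exact (f1.fix _).1 t0

end H78.YU
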