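import Cfsg.Agent.H78.P6.H78_YUDef

namespace H67 end H67
open H67
namespace H7 end H7
open H7
namespace H67.P6 end H67.P6
open H67.P6
namespace H67.P6.H67 end H67.P6.H67
open H67.P6.H67
namespace H67.P6.H7 end H67.P6.H7
open H67.P6.H7
namespace H67.P6.H7.YURN end H67.P6.H7.YURN
open H67.P6.H7.YURN
namespace H85.P6 end H85.P6
open H85.P6
namespace H85.P6.H67 end H85.P6.H67
open H85.P6.H67
namespace H85.P6.H7 end H85.P6.H7
open H85.P6.H7
namespace H85.P6.H7.YURN end H85.P6.H7.YURN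
open H85.P6.H7.YURN
namespace H78.P6


/-! STD-SP endgame, unitary models, slot `RN`: pairs of root elements. -/

set_option autoImplicit false
set_option linter.unusedSectionVars false

namespace H7.YURN

open H64.SG (Cs cjs is2_of_sq)
open H67 H67.UA H64.YE H78.YU Subgroup H59.UM
open H67.SA (la)

variable {m : ℕ} {K : Type} [Field K] [StarRing K] [CharP K 2] [Finite K] [hp : Par m K]

theorem perp_of {u v : Vn m K} (hu : Iso u) (hv : Iso v) (h0 : v ≠ 0) {c : K} (hc : star c = c)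
    (c0 : c ≠ 0) (h : TT v * Tc c u = Tc c u * TT v) : hf v u = 0 := by
  have k := congrArg (fun g => ac g v) h
  simp only [ac_mul, ac_Tc hu hc, ac_Tc hv (star_one K), hf_add_left, hf_smul_left,
    show hf v v = 0 from hv, mul_zero, zero_smul, add_zero, zero_add, one_mul, add_eq_left,
    smul_eq_zero, h0, or_false, mul_eq_zero, c0, false_or] at k
  exact k.elim id hf_symm

theorem fix_Cs {g : XU m K} (h : ac g (ev 0) = ev 0) : g ∈ Cs (Z0 m K) := fun z hz => by
  obtain ⟨c, hc, rfl⟩ := (FV.mem_Z z).1 hz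
  have := Tc_conj H59.UM.iso0 hc g
  rw [h, mul_inv_eq_iff_eq_mul] at this
  exact this.symm

theorem mem_of_nli {v : Vn m K} (h : ¬ Li (ev 0) v) : TT v ∈ Z0 m K := by
  simp only [Li, not_forall] at h
  obtain ⟨a, b, h1, h2⟩ := h
  have hb : b ≠ 0 := by
    rintro rfl
    exact h2 ⟨by simpa [ev_ne] using h1, rfl⟩
  have e : v = (b⁻¹ * a) • ev 0 := by
    rw [mul_smul, eq_neg_of_add_eq_zero_left h1, neg_eq_iff_add_eq_zero.2 (v_add_self _), smul_smul,
      inv_mul_cancel₀ hb, one_smul]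
  exact (FV.mem_Z _).2 ⟨_, star_nm (b⁻¹ * a), by rw [e, TT, Tc_smul, mul_one]⟩

theorem jobRN : JobRN := by
  intro m K _ _ _ _ hp R
  have h5 := hp.five
  have h1 := v1 h5
  have i0 : Iso (ev 0 : Vn m K) := H59.UM.iso0
  have i1 : Iso (ev 1 : Vn m K) := by rw [Iso, hf_evv, if_neg (by omega)]
  have p01 : hf (ev 0 : Vn m K) (ev 1) = 0 := by rw [hf_evv, if_neg (by rw [Fin.val_zero]; omega)]
  have a0 : hf (ev (1 : Fin (m + 1)).rev : Vn m K) (ev 0) = 0 := by
    rw [hf_evv, if_neg (by rw [Fin.val_rev, Fin.val_zero]; omega)]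
  have a1 : hf (ev (1 : Fin (m + 1)).rev : Vn m K) (ev 1) = 1 := by
    rw [hf_evv, if_pos (by rw [Fin.val_rev]; omega)]
  have ar : Iso (ev (1 : Fin (m + 1)).rev : Vn m K) := by
    rw [Iso, hf_evv, if_neg (by rw [Fin.val_rev]; omega)]
  have b1 : hf (ev (la m) : Vn m K) (ev 1) = 0 := by rw [hf_evv, if_neg (by rw [Fin.val_last]; omega)]
  have l10 : Li (ev 1 : Vn m K) (ev 0) := fun a b h => by
    have k1 := congrArg (fun x => hf x (ev (1 : Fin (m + 1)).rev)) h
    have k2 := congrArg (fun x => hf x (ev (la m))) h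
    simp only [hf_add_left, hf_smul_left, hf_symm a0, hf_symm b1, hf0L, ← star_hf _ (ev 1), a1, b1,
      hf_zero_left] at k1 k2
    exact ⟨by simpa using k1, by simpa using k2⟩
  refine ⟨fun z hz z1 y hy hc h => ?_, ?_⟩
  · obtain ⟨c, c1, rfl⟩ := (FV.mem_Z z).1 hz
    have c0 : c ≠ 0 := by rintro rfl; exact z1 (EE_zero _)
    obtain ⟨v, v0, vi, rfl⟩ := (R.rt y).1 hy
    have p := perp_of i0 vi v0 c1 c0 hc
    rcases h with h | h
    · exact eq_inv_of_mul_eq_one_left h ▸ inv_mem hz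
    refine mem_of_nli fun l => ?_
    obtain ⟨w, -, wi, e⟩ := (R.rt _).1 h
    obtain ⟨g, g0, g1⟩ := H59.UM.w2 ⟨i0, vi, hf_symm p⟩ l
    have k : ∀ x, (c * hf x (ev 0)) • ev 0 + hf x v • v = hf x w • w := fun x => by
      have := congrArg (fun g => ac g x) e
      simp only [ac_mul, ac_Tc i0 c1, ac_Tc vi (star_one K), ac_Tc wi (star_one K), hf_add_left,
        hf_smul_left, hf_symm p, mul_zero, add_zero, one_mul, add_assoc, add_right_inj] at this
      exact this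
    have k1 := k (ac g (ev (la m)))
    have k2 := k (ac g (ev (1 : Fin (m + 1)).rev))
    rw [show hf (ac g (ev (la m))) (ev 0) = 1 by rw [← hfL0 (n := m), ← hf_ac g (ev _), g0],
      show hf (ac g (ev (la m))) v = 0 by rw [← g1, hf_ac, b1], mul_one, zero_smul, add_zero] at k1
    rw [show hf (ac g (ev (1 : Fin (m + 1)).rev)) (ev 0) = 0 by rw [← a0, ← hf_ac g (ev _), g0],
      show hf (ac g (ev (1 : Fin (m + 1)).rev)) v = 1 by rw [← g1, hf_ac, a1], mul_zero, zero_smul,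
      zero_add, one_smul] at k2
    generalize hf (ac g (ev (la m))) w = α at k1
    generalize hf (ac g (ev (1 : Fin (m + 1)).rev)) w = β at k2
    have k3 := (l (β * c) α (by rw [mul_smul, k1, k2, smul_comm, v_add_self])).2
    rw [k3, zero_smul] at k1
    exact smul_ne_zero c0 (ev_ne 0) k1
  obtain ⟨g, g0, g1⟩ := H59.UM.w2 ⟨i1, i0, hf_symm p01⟩ l10
  have e : g * r0 m K * g⁻¹ = TT (ev 1) := by rw [Tc_conj i0 (star_one K), g0]
  have z0 : r0 m K ∈ Z0 m K := (FV.mem_Z _).2 ⟨1, star_one K, rfl⟩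
  have PT : P0 m K ≤ T2 (Cs (Z0 m K)) := FW.genP _ fun v p => subset_closure
    ⟨fix_Cs (ac_EE_fix (ok_zero p.r (star_one K)) p.p (by simp)),
      is2_of_sq (Tc_mul_self p.r (star_one K))⟩
  refine ⟨g, fun h => ?_, ?_, fun d hd hr hz => ?_, ?_⟩
  · obtain ⟨c, c1, k⟩ := (FV.mem_Z _).1 h
    have := congrArg (fun g => ac g (ev (1 : Fin (m + 1)).rev)) (e.symm.trans k)
    simp only [ac_Tc i0 c1, ac_Tc i1 (star_one K), a0, a1, mul_zero, mul_one, zero_smul, one_smul,
      add_right_inj] at this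
    exact ev_ne 1 this
  · rintro _ ⟨z, hz, rfl⟩
    obtain ⟨c, c1, rfl⟩ := (FV.mem_Z z).1 hz
    refine fix_Cs ?_
    change ac (g * Tc c (ev 0) * g⁻¹) _ = _
    rw [Tc_conj i0 c1, g0, ac_Tc i1 c1, p01, mul_zero, zero_smul, add_zero]
  · obtain ⟨v, v0, vi, rfl⟩ := (R.rt d).1 hr
    have p := perp_of i0 vi v0 (star_one K) one_ne_zero (hd _ z0).symm
    obtain ⟨q, q0, q1⟩ := H59.UM.w2 ⟨i0, vi, hf_symm p⟩ (by_contra fun l => hz (mem_of_nli l))
    refine ⟨q⁻¹, inv_mem (fix_Cs q0), r0 m K, z0, e.trans ?_⟩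
    rw [Tc_conj vi (star_one K), ← q1, ac_inv_ac]
  · refine top_unique (GA.FP.top.ge.trans (sup_le (PT.trans le_sup_left) ?_))
    rw [SS_eq, closure_le]
    rintro _ ⟨a, rfl | rfl⟩
    · have p : Pp (ev (1 : Fin (m + 1)).rev : Vn m K) (a • ev 0) := by
        simpa using (⟨ar, i0, a0⟩ : Pp _ _).smul 1 a
      exact mem_sup_left (PT (ac_EE_fix p.ok (hf_symm a0) (by rw [hf_smul_right, i0, mul_zero])))
    · have p : Pp (ev (0 : Fin (m + 1)).rev : Vn m K) (a • ev 1) := by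
        simpa [rev0] using (⟨isoL, i1, b1⟩ : Pp _ _).smul 1 a
      have f : ac (ss 1 0 a : XU m K) (ev 1) = ev 1 :=
        ac_EE_fix p.ok (by rw [rev0, hf_symm b1]) (by rw [hf_smul_right, i1, mul_zero])
      refine mem_sup_right ⟨g⁻¹ * ss 1 0 a * g, PT ?_, by simp [mul_assoc]⟩
      rw [mem_PP, ac_mul, ac_mul, g0, f, ← g0, ac_inv_ac]

end H7.YURN
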