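import Cfsg.Agent.H78.P6.H78_YUDef
import Cfsg.Agent.H85.P6.H67_UAK0

namespace H67 end H67
open H67
namespace H8 end H8
open H8
namespace H67.P6 end H67.P6
open H67.P6
namespace H67.P6.H67 end H67.P6.H67
open H67.P6.H67
namespace H67.P6.H8 end H67.P6.H8
open H67.P6.H8
namespace H67.P6.H8.YURA end H67.P6.H8.YURA
open H67.P6.H8.YURA
namespace H85.P6 end H85.P6
open H85.P6
namespace H85.P6.H67 end H85.P6.H67
open H85.P6.H67
namespace H85.P6.H8 end H85.P6.H8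
open H85.P6.H8
namespace H85.P6.H8.YURA end H85.P6.H8.YURA
open H85.P6.H8.YURA
namespace H78.P6


/-! STD-SP (row S3129), endgame, unitary models: slot YU-RA (irreducibility of `Q / Z`). -/

set_option autoImplicit false
set_option linter.unusedSectionVars false

namespace H8.YURA

open H64.SG (O2 Syl Cz Cs Ns cjs Is2 Inv2 IsO2 fx)
open H67 H67.UA H64.YE Subgroup Matrix H78.YU
open H67.SA (cm St la)

section G

variable {Y : Type} [Group Y] (τ : MulAut Y) (Z : Subgroup Y)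

theorem conj_PU {q : Y} (hq : q ∈ Cs Z) {y : Y} (hy : y ∈ PU τ Z) : q * y * q⁻¹ ∈ PU τ Z := by
  induction hy using closure_induction with
  | mem y h =>
    obtain ⟨p, hp, rfl⟩ := h
    have e : q * (p * (τ p)⁻¹) * q⁻¹ = (q * p) * (τ (q * p))⁻¹ * (q * (τ q)⁻¹)⁻¹ := by
      rw [map_mul]; group
    rw [e]
    exact mul_mem (subset_closure ⟨_, mul_mem hq hp, rfl⟩) (inv_mem (subset_closure ⟨_, hq, rfl⟩))
  | one => simp
  | mul a b _ _ ha hb =>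
    have e : q * (a * b) * q⁻¹ = q * a * q⁻¹ * (q * b * q⁻¹) := by group
    rw [e]; exact mul_mem ha hb
  | inv a _ ha =>
    have e : q * a⁻¹ * q⁻¹ = (q * a * q⁻¹)⁻¹ := by group
    rw [e]; exact inv_mem ha

theorem Cs_le_Ns_PU : Cs Z ≤ Ns (PU τ Z) := fun q hq => by
  rw [mem_normalizer_iff]
  refine fun y => ⟨conj_PU τ Z hq, fun h => ?_⟩
  have := conj_PU τ Z (inv_mem hq) h
  have e : q⁻¹ * (q * y * q⁻¹) * q⁻¹⁻¹ = y := by group
  rwa [e] at this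

end G

variable {m : ℕ} {K : Type} [Field K] [StarRing K] [CharP K 2] [Finite K] [Par m K]

theorem qq_tw {u v : Vn m K} (h : Pp u v) (hu : br u = u) (hv : br v = v) {η : K} (hη : tr η = 1) :
    qq v u = qq (η • v) u * (ta m K (qq (η • v) u))⁻¹ := by
  have h1 : Ok u (η • v) 0 := by simpa using (h.smul 1 η).ok
  have h2 : Ok u (star η • v) 0 := by simpa using (h.smul 1 (star η)).ok
  rw [qq, qq, ta_EE h1, hu, br_smul, hv, star_zero, EE_inv h2, star_zero, EE_mul h1 h2, ← add_smul,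
    show η + star η = 1 from hη, one_smul, hf_smul_left, hf_smul_right, h.r]
  simp

theorem P_le_Cs (h0 : R0 m K) : P0 m K ≤ Cs (Z0 m K) := fun g hg =>
  (h0.cz g).2 ⟨1, by simp, by rw [one_smul]; exact hg⟩

theorem P_le_PU (h0 : R0 m K) (h1 : NP m K) : P0 m K ≤ PU (ta m K) (Z0 m K) := by
  obtain ⟨η, hη⟩ := (jobFQ m K).eta
  refine h1.np _ ((P_le_Cs h0).trans (Cs_le_Ns_PU _ _)) ?_ ?_
  · refine subset_closure ⟨_, P_le_Cs h0 ?_, qq_tw pp01 (br_ev _) (br_ev _) hη⟩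
    have : Ok (ev 0 : Vn m K) (η • ev 1) 0 := by simpa using (pp01.smul 1 η).ok
    exact ac_EE_self this
  · refine subset_closure ⟨_, P_le_Cs h0 ?_, qq_tw pp12 (br_ev _) (br_ev _) hη⟩
    have : Ok (ev 1 : Vn m K) (η • ev 2) 0 := by simpa using (pp12.smul 1 η).ok
    exact ac_EE_fix this pp01.p (by rw [hf_smul_right, pp02.p, mul_zero])

theorem Tc_mem {c : K} (hc : star c = c) : Tc c (ev 0) ∈ Z0 m K := (FV.mem_Z _).2 ⟨c, hc, rfl⟩

theorem adj {B : Subgroup (XU m K)} (hZ : Z0 m K ≤ B) {y : Vn m K} {c d : K} (h : Ok (ev 0) y c)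
    (h' : Ok (ev 0) y d) (hB : EE (ev 0) y c ∈ B) : EE (ev 0) y d ∈ B := by
  have hs : star (c + d) = c + d := tr_eq_zero.1 (by
    have e1 := h.tr
    have e2 := h'.tr
    simp only [tr, star_add] at e1 e2 ⊢
    linear_combination e1 + e2 + hf y y * two0 K)
  have := mul_mem hB (hZ (Tc_mem hs))
  rw [EE_mul h (ok_zero h.iso hs), add_zero, hf_zero_left, add_zero, ← add_assoc,
    CharTwo.add_self_eq_zero, zero_add] at this
  exact this

theorem irr (h2 : QN m K) {B : Subgroup (XU m K)} (hZ : Z0 m K ≤ B) (hQ : B ≤ Q0 m K)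
    (hP : P0 m K ≤ Ns B) : B ≤ Z0 m K ∨ Q0 m K ≤ B := by
  have cj : ∀ g ∈ P0 m K, ∀ x ∈ B, g * x * g⁻¹ ∈ B := fun g hg x hx =>
    (mem_normalizer_iff.1 (hP hg) x).1 hx
  refine or_iff_not_imp_left.2 fun hn => ?_
  obtain ⟨x, hx, hx'⟩ := SetLike.not_le_iff_exists.1 hn
  obtain ⟨z, a, hz, hl, ha, e⟩ := h2 x (hQ hx) hx'
  have t1 : TT z ∈ P0 m K := by
    change ac _ _ = _
    rw [ac_Tc hz.r (star_one K), hz.p]; simp
  have pa : Pp (ev 0) (a • z) := by simpa using hz.smul 1 a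
  have la' : Li (ev 0) (a • z) := fun s t h => by
    obtain ⟨e1, e2⟩ := hl s (t * a) (by rwa [mul_smul])
    exact ⟨e1, (mul_eq_zero.1 e2).resolve_right ha⟩
  have b1 : EE (ev 0) (a • z) (nm a) ∈ B := e ▸ mul_mem (cj _ t1 x hx) (inv_mem hx)
  have b2 : qq (a • z) (ev 0) ∈ B :=
    adj hZ ⟨pa.l, pa.symm.p, by rw [tr_eq_zero.2 (star_nm a), pa.r]⟩ pa.ok b1
  obtain ⟨g, g0, g1⟩ := (base m K).toFW.w2 _ _ pa la'
  have b3 : qq (ev 1) (ev 0) ∈ B := by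
    have := cj g⁻¹ ((P0 m K).inv_mem g0) _ b2
    rwa [qq, EE_conj pa.ok, ← g1, ac_inv_ac, show ac g⁻¹ (ev 0) = ev 0 from (P0 m K).inv_mem g0]
      at this
  have b4 : ∀ y : Vn m K, hf y (ev 0) = 0 → ∃ c, Ok (ev 0) y c ∧ EE (ev 0) y c ∈ B := by
    refine (base m K).toFW.span (ev 0) iso0 _ (fun y hy => ⟨0, hy.ok, ?_⟩) ?_
    · by_cases hl' : Li (ev 0) y
      · obtain ⟨k, k0, k1⟩ := (base m K).toFW.w2 _ _ hy hl'
        have := cj k k0 _ b3
        rwa [qq, EE_conj pp01.ok, k0, k1] at this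
      · obtain ⟨c, rfl⟩ := exists_smul_of_not_li (ev_ne 0) hl'
        have := qq_self c (ev 0 : Vn m K)
        rw [qq] at this
        rw [this]
        exact hZ (Tc_mem (star_tr c))
    · rintro y y' - - ⟨c, hc, hb⟩ ⟨d, hd, hb'⟩
      exact ⟨_, hc.add hd, EE_mul hc hd ▸ mul_mem hb hb'⟩
  intro q hq
  obtain ⟨y, c, hc, rfl⟩ := (FV.mem_Q q).1 hq
  obtain ⟨d, hd, hb⟩ := b4 y hc.perp
  exact adj hZ hd hc hb

theorem sqs : ∃ x ∈ Q0 m K, ∃ y ∈ Q0 m K, x ∉ Z0 m K ∧ y ∉ Z0 m K ∧ x * x ≠ y * y := by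
  obtain ⟨p, hp, hp'⟩ := H59.UM.exists_p (n := m) (K := K)
  have h5 := Par.five (n := m) (K := K)
  have p0 : hf p (ev 0) = 0 := hp' 0 (by simp) (by simp; omega)
  obtain ⟨c, hc⟩ := (jobFQ m K).trs (hf p p) (star_hf p p)
  have ok : Ok (ev 0) p c := ⟨iso0, p0, hc⟩
  have yy : EE (ev 0) p c * EE (ev 0) p c ≠ 1 := by
    rw [EE_mul ok ok, v_add_self, CharTwo.add_self_eq_zero, zero_add]
    exact fun e => hp (Tc_eq_one (ev_ne 0) iso0 (star_hf p p) e)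
  refine ⟨qq (ev 1) (ev 0), (FV.mem_Q _).2 ⟨_, _, pp01.ok, rfl⟩, EE (ev 0) p c,
    (FV.mem_Q _).2 ⟨_, _, ok, rfl⟩, fun h => ?_, fun h => ?_, ?_⟩
  · obtain ⟨d, hd, e⟩ := (FV.mem_Z _).1 h
    obtain ⟨a, e1, -⟩ := EE_inj (ev_ne 0) pp01.ok (ok_zero iso0 hd) e
    exact one_ne_zero (li_ev (n := m) (K := K) a 1 (by rw [one_smul, add_comm, ← e1])).2
  · obtain ⟨d, hd, e⟩ := (FV.mem_Z _).1 h
    exact yy (e ▸ Tc_mul_self iso0 hd)
  · rw [qq, EE_mul pp01.ok pp01.ok, v_add_self, pp01.r, add_zero, add_zero, EE_zero]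
    exact yy.symm

theorem jobRA : JobRA := fun m K _ _ _ _ _ h0 h1 h2 =>
  { tz := fun z hz => by
      obtain ⟨c, hc, rfl⟩ := (FV.mem_Z z).1 hz
      rw [Tc, ta_EE (ok_zero iso0 hc), br_ev, br_zero, hc]
    irr := fun _ hZ hQ hP => irr h2 hZ hQ ((P_le_PU h0 h1).trans hP)
    sqs := sqs }

end H8.YURA
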