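import Cfsg.Agent.H78.P6.H78_YUDef
import Cfsg.Agent.H54.P6.H84_SpBD
import Cfsg.Agent.H54.P6.H9_SPGBN
import Cfsg.Agent.H85.P6.H54_SPFW

namespace H96 end H96
open H96
namespace H54.P6 end H54.P6
open H54.P6
namespace H54.P6.H96 end H54.P6.H96
open H54.P6.H96
namespace H54.P6.H96.YU end H54.P6.H96.YU
open H54.P6.H96.YU
namespace H67.P6 end H67.P6
open H67.P6
namespace H67.P6.H96 end H67.P6.H96
open H67.P6.H96
namespace H67.P6.H96.YU end H67.P6.H96.YU
open H67.P6.H96.YU
namespace H85.P6 end H85.P6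
open H85.P6
namespace H85.P6.H96 end H85.P6.H96
open H85.P6.H96
namespace H85.P6.H96.YU end H85.P6.H96.YU
open H85.P6.H96.YU
namespace H78.P6


/-! STD-SP (row S3129), endgame, unitary model: slot `DC`. -/

set_option autoImplicit false
set_option linter.unusedSectionVars false

namespace H96.YU

open H67.UA hiding Par Base FV FW
open H67.SP Matrix
open H86.SPI (hf_comm hf_self)

theorem jobDC : H78.YU.JobDC := by
  intro n F _ _ _ _ _ p b _ _ u hu
  have hk := H54.SPF.two_kk n F
  have hr := H9.SPG.two_rk hu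
  let W := LinearMap.range (mt u - 1).mulVecLin
  have hW : ∀ w, w ∈ W ↔ ∃ y, ac u y + y = w := fun w => exists_congr fun y => by
    rw [mulVecLin_apply, sub_mulVec, one_mulVec, CharTwo.sub_eq_add]; rfl
  have hd : Module.finrank F W = rk u := rfl
  let B := Module.finBasisOfFinrankEq F W hd
  let ι : Fin (rk u) → Fin (n + 1) := fun i => ⟨i.val, by omega⟩
  obtain ⟨g, hg⟩ := FW.witt (rk u) (fun i => (B i : Vn n F)) (fun i => ev (ι i))
    (B.linearIndependent.map' W.subtype W.ker_subtype)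
    (H54.SPF.li_ev fun i j e => Fin.ext (congrArg Fin.val e :)) fun i j => by
      obtain ⟨y, h1⟩ := (hW _).1 (B i).2
      obtain ⟨y', h2⟩ := (hW _).1 (B j).2
      have e : hf (ac u y) y' = hf y (ac u y') := by
        rw [hf_ac_left, inv_eq_of_mul_eq_one_right hu]
      rw [← h1, ← h2, H9.SPG.hf_ev_ev (by simp only [ι]; omega), hf_add_left, hf_add_right,
        hf_add_right, hf_ac, e]
      linear_combination (hf y y' + hf y (ac u y')) * two0 F
  have hm : g * u * g⁻¹ ∈ Mk n F (kk n) := (FV.mem_M _ _).2 fun v => by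
    have h1 : ac (g * u * g⁻¹) v + v = ac g (ac u (ac g⁻¹ v) + ac g⁻¹ v) := by
      rw [ac_add, ac_ac_inv, ac_mul, ac_mul]
    have h2 : ∀ w : W, ac g w ∈ H54.SPF.WS n F (kk n) := fun w => by
      have h3 := B.mem_span w
      induction h3 using Submodule.span_induction with
      | mem x hx =>
        obtain ⟨i, rfl⟩ := hx
        rw [hg]
        intro j hj
        rw [ev_apply, if_neg]
        rintro rfl
        simp only [ι] at hj
        omega
      | zero => simp
      | add x y _ _ hx hy => rw [Submodule.coe_add, ac_add]; exact add_mem hx hy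
      | smul a x _ hx => rw [Submodule.coe_smul, ac_smul]; exact Submodule.smul_mem _ _ hx
    rw [h1]
    exact h2 ⟨_, (hW _).2 ⟨_, rfl⟩⟩
  have h1 : g * u * g⁻¹ * (g * u * g⁻¹) = 1 := by
    rw [conj_mul, hu, mul_one, mul_inv_cancel]
  obtain ⟨d, hd⟩ := H84.SpBD.bd.ex _ h1
  have hw := H84.SpBD.mk_dg (by omega) hm d hd
  have hT : TT d * TT d = (1 : XU n F) := Tc_mul_self (hf_self d) (star_one F)
  refine ⟨g⁻¹, g * u * g⁻¹ * TT d, d, ?_, (FV.mem_M _ _).1 (mul_mem hm (H84.SpBD.tt_mem _ d hw)),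
    (H84.SpBD.dg_alt _ d h1 hd).1, hw, fun a => eq_of_hf fun z => ?_, fun h0 v => ?_⟩
  · rw [mul_assoc _ (TT d), hT]; group
  · have := hd z
    rw [ac_mul, ac_mul, hf_ac_left, a] at this
    rw [hf_comm, hf_zero_left]
    exact (pow_eq_zero_iff two_ne_zero).1 this.symm
  · have := hd (ac g v)
    rwa [ac_mul, ac_mul, ac_inv_ac, hf_ac, h0, hf_zero_right, zero_pow two_ne_zero] at this

end H96.YU
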