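import Cfsg.Agent.H78.P6.H78_YUDef

namespace H67 end H67
open H67
namespace H96 end H96
open H96
namespace H67.P6 end H67.P6
open H67.P6
namespace H67.P6.H67 end H67.P6.H67
open H67.P6.H67
namespace H67.P6.H96 end H67.P6.H96
open H67.P6.H96
namespace H67.P6.H96.YU end H67.P6.H96.YU
open H67.P6.H96.YU
namespace H85.P6 end H85.P6
open H85.P6
namespace H85.P6.H67 end H85.P6.H67
open H85.P6.H67
namespace H85.P6.H96 end H85.P6.H96
open H85.P6.H96
namespace H85.P6.H96.YU end H85.P6.H96.YU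
open H85.P6.H96.YU
namespace H78.P6


/-! STD-SP (row S3129), endgame, unitary model: slot `H1`. -/

set_option autoImplicit false
set_option linter.unusedSectionVars false

namespace H96.YU

open H67 H67.UA H78.YU
open H67.SA (la)
open H59.SO (AutOn)
open H59.UM (hf0L exists_tr)

variable {m : ℕ} {K : Type} [Field K] [StarRing K] [CharP K 2] [Finite K] [Par m K]

theorem uq {x x' : Vn m K} {d d' : K} (h : Ok (ev 0) x d) (h' : Ok (ev 0) x' d')
    (e : hf x (ev (la m)) = 0) (e' : hf x' (ev (la m)) = 0)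
    (k : EE (ev 0) x d = EE (ev 0) x' d') : x = x' ∧ d = d' := by
  obtain ⟨a, h1, h2⟩ := EE_inj (ev_ne 0) h h' k
  have : a = 0 := by rwa [h1, hf_add_left, e, hf_smul_left, hf0L, zero_add, mul_one] at e'
  subst this
  exact ⟨by rw [h1, zero_smul, add_zero], by rw [h2]; simp⟩

theorem nf {g : XU m K} (hg : g ∈ Q0 m K) :
    ∃ x d, Ok (ev 0) x d ∧ hf x (ev (la m)) = 0 ∧ g = EE (ev 0) x d := by
  obtain ⟨x, c, h, rfl⟩ := (FV.mem_Q g).1 hg
  refine ⟨x + hf x (ev (la m)) • ev 0, c + tr (hf x (ev (la m))), ⟨h.iso, ?_, ?_⟩, ?_, ?_⟩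
  · rw [hf_add_left, h.perp, hf_smul_left, h.iso, mul_zero, add_zero]
  · have := h.tr
    simp only [hf_add_left, hf_add_right, hf_smul_left, hf_smul_right, h.perp, hf_symm h.perp,
      show hf (ev 0 : Vn m K) (ev 0) = 0 from h.iso, tr, star_add, star_star] at this ⊢
    linear_combination this + (hf x (ev (la m)) + star (hf x (ev (la m)))) * two0 K
  · rw [hf_add_left, hf_smul_left, hf0L, mul_one, CharTwo.add_self_eq_zero]
  · rw [EE_shift, add_assoc, CharTwo.add_self_eq_zero, add_zero]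

theorem exok {y : Vn m K} (h : hf y (ev 0) = 0) : ∃ c, Ok (ev 0) y c :=
  (exists_tr (star_hf y y)).imp fun _ hc => ⟨H59.UM.iso0, h, hc⟩

theorem jobH1 : JobH1 := by
  intro m K _ _ _ _ _ θ hθ hZ
  have mQ : ∀ {y : Vn m K} {c}, Ok (ev 0) y c → EE (ev 0) y c ∈ Q0 m K := fun h =>
    (FV.mem_Q _).2 ⟨_, _, h, rfl⟩
  have hT : ∀ {c : K}, star c = c → θ (Tc c (ev 0)) = Tc c (ev 0) := fun h =>
    hZ _ ((FV.mem_Z _).2 ⟨_, h, rfl⟩)
  obtain ⟨f, f0, fL, hf1⟩ : ∃ f : Vn m K → Vn m K, (∀ y, hf (f y) (ev 0) = 0) ∧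
      (∀ y, hf (f y) (ev (la m)) = 0) ∧ ∀ y c, Ok (ev 0) y c →
        ∃ d, Ok (ev 0) (f y) d ∧ θ (EE (ev 0) y c) = EE (ev 0) (f y) d := by
    have : ∀ y : Vn m K, ∃ x : Vn m K, hf x (ev 0) = 0 ∧ hf x (ev (la m)) = 0 ∧
        ∀ c, Ok (ev 0) y c → ∃ d, Ok (ev 0) x d ∧ θ (EE (ev 0) y c) = EE (ev 0) x d := fun y => by
      by_cases h : hf y (ev 0) = 0
      · obtain ⟨c0, h0⟩ := exok h
        obtain ⟨x, d, h1, h2, h3⟩ := nf (hθ.bij.mapsTo (mQ h0))
        refine ⟨x, h1.perp, h2, fun c hc => ?_⟩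
        have hs : star (c0 + c) = c0 + c := tr_eq_zero.1 (by
          have a := h0.tr
          have b := hc.tr
          simp only [tr, star_add] at a b ⊢
          linear_combination a + b + hf y y * two0 K)
        have o := ok_zero (H59.UM.iso0 (n := m) (K := K)) hs
        have e : EE (ev 0) y c = EE (ev 0) y c0 * Tc (c0 + c) (ev 0) := by
          rw [EE_mul h0 o, add_zero, hf_zero_left, add_zero, ← add_assoc, CharTwo.add_self_eq_zero,
            zero_add]
        have := h1.add o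
        rw [add_zero] at this
        exact ⟨_, this, by rw [e, hθ.mul _ (mQ h0) _ (mQ o), hT hs, h3, EE_mul h1 o, add_zero]⟩
      · exact ⟨0, by simp, by simp, fun c hc => absurd hc.perp h⟩
    choose f h1 h2 h3 using this
    exact ⟨f, h1, h2, h3⟩
  have sq : ∀ {y : Vn m K} {c}, Ok (ev 0) y c →
      EE (ev 0) y c * EE (ev 0) y c = Tc (hf y y) (ev 0) := fun h => by
    rw [EE_mul h h, v_add_self, CharTwo.add_self_eq_zero, zero_add]
  have nr : ∀ y, hf y (ev 0) = 0 → hf (f y) (f y) = hf y y := fun y h => by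
    obtain ⟨c, hc⟩ := exok h
    obtain ⟨d, h1, h2⟩ := hf1 y c hc
    have := hθ.mul _ (mQ hc) _ (mQ hc)
    rw [sq hc, hT (star_hf y y), h2, sq h1] at this
    exact (uq (ok_zero H59.UM.iso0 (star_hf _ _)) (ok_zero H59.UM.iso0 (star_hf _ _)) (by simp) (by simp)
      this).2.symm
  have ad : ∀ y y', hf y (ev 0) = 0 → hf y' (ev 0) = 0 → f (y + y') = f y + f y' :=
    fun y y' h h' => by
      obtain ⟨c, hc⟩ := exok h
      obtain ⟨c', hc'⟩ := exok h'
      obtain ⟨d, h1, h2⟩ := hf1 y c hc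
      obtain ⟨d', h1', h2'⟩ := hf1 y' c' hc'
      obtain ⟨d'', h3, h4⟩ := hf1 _ _ (hc.add hc')
      have := hθ.mul _ (mQ hc) _ (mQ hc')
      rw [EE_mul hc hc', h4, h2, h2', EE_mul h1 h1'] at this
      exact (uq h3 (h1.add h1') (fL _) (by rw [hf_add_left, fL, fL, add_zero]) this).1
  have tt : ∀ y y', hf y (ev 0) = 0 → hf y' (ev 0) = 0 → tr (hf (f y) (f y')) = tr (hf y y') :=
    fun y y' h h' => by
      have := nr (y + y') (by rw [hf_add_left, h, h', add_zero])
      rw [ad y y' h h'] at this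
      simp only [hf_add_left, hf_add_right, nr y h, nr y' h'] at this
      simp only [tr, star_hf]
      linear_combination this
  refine ⟨f, f0, fun y c h => ⟨nr y h.perp, hf1 y c h⟩,
    fun y y' h h' => ⟨ad y y' h h', tt y y' h h'⟩, fun a y ha h => ?_⟩
  have hay : hf (a • y) (ev 0) = 0 := by rw [hf_smul_left, h, mul_zero]
  obtain ⟨s, hs⟩ := H59.UM.dual (u := ev 0) (x := f (a • y) + a • f y) fun w hw => by
    obtain ⟨c, hc⟩ := exok hw
    obtain ⟨g, hg, e⟩ := hθ.bij.surjOn (mQ hc)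
    obtain ⟨y', c', h', rfl⟩ := (FV.mem_Q g).1 hg
    obtain ⟨d, h1, h2⟩ := hf1 y' c' h'
    obtain ⟨b, rfl, -⟩ := EE_inj (ev_ne 0) h1 hc (h2.symm.trans e)
    have t1 := tt y' _ h'.perp hay
    have t2 := tt y' _ h'.perp h
    simp only [hf_add_left, hf_add_right, hf_smul_left, hf_smul_right, hf_symm (f0 _), ha, tr,
      star_add, star_mul', mul_zero, add_zero] at t1 t2 ⊢
    linear_combination t1 + a * t2 + (a * hf y' y + a * star (hf y' y)) * two0 K
  have h0 : s = 0 := by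
    have := congrArg (hf · (ev (la m))) hs
    simp only [hf_add_left, hf_smul_left, fL, hf0L, mul_zero, add_zero, mul_one] at this
    exact this.symm
  rw [h0, zero_smul] at hs
  rw [← add_zero (f (a • y)), ← v_add_self (a • f y), ← add_assoc, hs, zero_add]

end H96.YU
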