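import Cfsg.Agent.H78.P6.H78_YUAsm
import Cfsg.Agent.H78.P6.H60_YuR0
import Cfsg.Agent.H78.P6.H34_YuNP
import Cfsg.Agent.H78.P6.H7_YURN
import Cfsg.Agent.H78.P6.H52_YUQN
import Cfsg.Agent.H78.P6.H8_YURA
import Cfsg.Agent.H78.P6.H49_YUHB
import Cfsg.Agent.H78.P6.H96_YUH1
import Cfsg.Agent.H78.P6.H57_YUHA
import Cfsg.Agent.H78.P6.H70_YUPT
import Cfsg.Agent.H78.P6.H17_YUSD
import Cfsg.Agent.H78.P6.H61_YUS0
import Cfsg.Agent.H78.P6.H38_YUS1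
import Cfsg.Agent.H78.P6.H14_YUBI
import Cfsg.Agent.H78.P6.H76_YUNU
import Cfsg.Agent.H78.P6.H35_YUCL
import Cfsg.Agent.H78.P6.H35_YUG1
import Cfsg.Agent.H78.P6.H96_YUDC
import Cfsg.Agent.H78.P6.H77_YUAL
import Cfsg.Agent.H78.P6.H18_YUGC

namespace H78 end H78
open H78
namespace H54.P6 end H54.P6
open H54.P6
namespace H54.P6.H78 end H54.P6.H78
open H54.P6.H78
namespace H54.P6.H78.YU end H54.P6.H78.YU
open H54.P6.H78.YU
namespace H67.P6 end H67.P6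
open H67.P6
namespace H67.P6.H78 end H67.P6.H78
open H67.P6.H78
namespace H67.P6.H78.YU end H67.P6.H78.YU
open H67.P6.H78.YU
namespace H85.P6 end H85.P6
open H85.P6
namespace H85.P6.H78 end H85.P6.H78
open H85.P6.H78
namespace H85.P6.H78.YU end H85.P6.H78.YU
open H85.P6.H78.YU
namespace H78.P6


/-! STD-SP (row S3129), endgame: the unitary models. -/

set_option autoImplicit false

namespace H78.YU

theorem sy : SY :=
  ⟨H60.YR0.jobR0, H34.YuNP.jobNP, H7.YURN.jobRN, H52.YUQN.jobQN, H8.YURA.jobRA,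
    H49.YUHB.jobHB, H96.YU.jobH1, H57.YUHA.jobHA, H70.YUPT.jobPT, H17.YUSD.jobSD, H61.YUS0.jobS0,
    H38.YU.jobS1, H14.YUBI.jobBI, H76.YUNU.jobNU, H35.YUCL.jobCL, H35.YUG1.jobG1, H96.YU.jobDC,
    H77.YUAL.jobAL, H18.YUGC.jobGC⟩

theorem jobMU0 : H64.YE.JobMU0 := sy.mu0
theorem jobMU1 : H64.YE.JobMU1 := sy.mu1

end H78.YU
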