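import Cfsg.Agent.H85.P6.H67_UAK0

namespace H67 end H67
open H67
namespace H79 end H79
open H79
namespace H85.P6 end H85.P6
open H85.P6
namespace H85.P6.H67 end H85.P6.H67
open H85.P6.H67
namespace H85.P6.H79 end H85.P6.H79
open H85.P6.H79
namespace H85.P6.H79.UMJ end H85.P6.H79.UMJ
open H85.P6.H79.UMJ
namespace H78.P6


/-! STD-UM (row S3128), job FJ: centralisers of the involutions that are not transvections. -/

set_option autoImplicit false
set_option linter.unusedSectionVars false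

namespace H79.UMJ

open H64.SG (O2 Syl Cz Cs Ns Is2 Inv2 IsO2 mem_Cs mem_Cz is2_of_sq mem_O2_of_odd)
open Matrix Subgroup H67 H67.UA

section Grp
variable {G : Type*} [Group G] {A : Subgroup G} {o s : G}

theorem cjO (ho : o ∈ O2 A) (hs : s ∈ A) : s * o * s⁻¹ ∈ O2 A :=
  (mem_normalizer_iff.1 (H64.SG.Ns_le_Ns_O2 A (le_normalizer hs)) o).1 ho

theorem cmO (ho : o ∈ O2 A) (hs : s ∈ A) : o * s * o⁻¹ * s⁻¹ ∈ O2 A := by
  simpa [mul_assoc] using mul_mem ho (cjO (inv_mem ho) hs)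

theorem O2_conj {g y p : G} (h : p * y * p⁻¹ ∈ O2 (Cz (p * g * p⁻¹))) : y ∈ O2 (Cz g) := by
  have : O2 (Cz (p * g * p⁻¹)) ≤ (O2 (Cz g)).comap (MulAut.conj p⁻¹).toMonoidHom :=
    (closure_le _).2 fun a ha => mem_O2_of_odd (A := Cz g) (g := MulAut.conj p⁻¹ a)
      (mem_Cz.2 (by simpa [mul_assoc] using congrArg (MulAut.conj p⁻¹) (mem_Cz.1 ha.1)))
      (by rw [MulEquiv.orderOf_eq]; exact ha.2)
  simpa [mul_assoc] using this h

end Grp

variable {n : ℕ} {K : Type} [Field K] [StarRing K] [CharP K 2] [Finite K]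

/-- `g - 1` -/
def nl (g : XU n K) (v : Vn n K) : Vn n K := ac g v + v

theorem ac_eq (g : XU n K) (v : Vn n K) : ac g v = v + nl g v := by
  rw [nl, add_comm (ac g v), ← add_assoc, v_add_self, zero_add]
theorem nl_add (g : XU n K) (v w : Vn n K) : nl g (v + w) = nl g v + nl g w := by
  simp only [nl, ac_add]; abel
theorem nl_smul (g : XU n K) (a : K) (v : Vn n K) : nl g (a • v) = a • nl g v := by
  simp only [nl, ac_smul, smul_add]
theorem nl_zero (g : XU n K) : nl g 0 = 0 := by simp [nl]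
theorem nl_mt (g : XU n K) (v : Vn n K) : (mt g - 1) *ᵥ v = nl g v := by
  rw [sub_mulVec, one_mulVec, sub_eq_iff_eq_add, add_comm (nl g v), ← ac_eq]; rfl

omit [StarRing K] in
theorem mext {M N : Matrix (Fin (n + 1)) (Fin (n + 1)) K} (h : ∀ j, M *ᵥ ev j = N *ᵥ ev j) : M = N :=
  Matrix.ext fun i j => by simpa [ev] using congrFun (h j) i
theorem bext {g h : XU n K} (e : ∀ j, ac g (ev j) = ac h (ev j)) : g = h := X_ext (mext e)

theorem nl_comm {g s : XU n K} (h : g * s = s * g) (v : Vn n K) : nl g (ac s v) = ac s (nl g v) := by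
  rw [nl, nl, ← ac_mul, h, ac_mul, ac_add]
theorem cz_of {g s : XU n K} (h : ∀ j, nl g (ac s (ev j)) = ac s (nl g (ev j))) : s ∈ Cz g :=
  mem_Cz.2 (bext fun j => by rw [ac_mul, ac_mul, ac_eq g, h, ac_eq g (ev j), ac_add])

theorem hf0 {j : Fin (n + 1)} (hj : j ≠ Fin.last n) : hf (ev j : Vn n K) (ev 0) = 0 := by
  rw [hf_ev_right, ev_apply, if_neg (by simpa using hj.symm)]

/-- what is used about the elements of `M_k` -/
structure MK (k : ℕ) (g : XU n K) : Prop where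
  w : ∀ v, Wk k (nl g v)
  sa : ∀ v w, hf (nl g v) w = hf v (nl g w)
  z : ∀ v, Wk (n + 1 - k) v → nl g v = 0

/-- the span of the last `k` basis vectors -/
def Wd (k : ℕ) (v : Vn n K) : Prop := ∀ i : Fin (n + 1), i.val + k < n + 1 → v i = 0

theorem Wd.perp {k : ℕ} {u v : Vn n K} (h : Wd k u) (h' : Wd k v) (hk : 2 * k ≤ n + 1) :
    hf u v = 0 := Finset.sum_eq_zero fun i _ => by
  by_cases hi : i.val + k < n + 1
  · rw [h i hi, zero_mul]
  · rw [h' i.rev (by rw [Fin.val_rev]; omega), star_zero, mul_zero]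
theorem wd_ev {k : ℕ} {i : Fin (n + 1)} (h : n + 1 ≤ i.val + k) (a : K) : Wd k (a • ev i : Vn n K) :=
  fun j hj => by rw [Pi.smul_apply, ev_apply, if_neg (by rintro rfl; omega), smul_zero]

theorem EE_U [FV n K] {u x : Vn n K} {α β : ℕ} (h : Ok u x 0) (hu : Wk α u) (hx : Wk β x)
    (k : α + β ≤ n + 1) : EE u x 0 ∈ GA.UU (XU n K) := (FV.mem_U _).2 fun r v hv => by
  have e : ac (EE u x 0) v + v = hf v x • u + hf v u • x := by
    rw [ac_EE h, zero_mul, zero_smul, add_zero, add_comm, ← add_assoc, ← add_assoc, v_add_self, zero_add]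
  rw [e]
  refine Wk.add ?_ ?_
  · by_cases c : α ≤ r
    · exact (hu.mono c).smul _
    · rw [hv.perp hx (by omega), zero_smul]; exact fun _ _ => rfl
  · by_cases c : β ≤ r
    · exact (hx.mono c).smul _
    · rw [hv.perp hu (by omega), zero_smul]; exact fun _ _ => rfl

/-- the lift of a Siegel element of `SU(W_k)` -/
noncomputable def sl (g : XU n K) (f z : Vn n K) (c : K) : XU n K :=
  EE (nl g f) (z + c • f) 0 * EE f (nl g z) 0

structure SL (k : ℕ) (g : XU n K) (f z : Vn n K) (c : K) : Prop where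
  hk : 2 * k ≤ n + 1
  m : MK k g
  wf : Wd k f
  wz : Wd k z
  ff : hf f (nl g f) = 0
  zf : hf z (nl g f) = 0
  tc : tr c = hf (nl g z) z

namespace SL
variable {k : ℕ} {g : XU n K} {f z : Vn n K} {c : K} (h : SL k g f z c)
include h

theorem ok1 : Ok (nl g f) (z + c • f) 0 :=
  ⟨((h.m.w f).pp (h.m.w f) h.hk).l, by rw [hf_add_left, hf_smul_left, h.ff, h.zf]; simp, by
    simp [hf_add_left, hf_add_right, hf_smul_left, hf_smul_right, h.wf.perp h.wf h.hk,
      h.wf.perp h.wz h.hk, h.wz.perp h.wf h.hk, h.wz.perp h.wz h.hk]⟩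

theorem ok2 : Ok f (nl g z) 0 :=
  ⟨h.wf.perp h.wf h.hk, by rw [h.m.sa, h.zf], by simp [((h.m.w z).pp (h.m.w z) h.hk).p]⟩

theorem act (v : Vn n K) : ac (sl g f z c) v = v + hf v (nl g z) • f + hf v f • nl g z +
    (hf v z + c * hf v f) • nl g f + hf v (nl g f) • z + (c * hf v (nl g f)) • f := by
  have hc : hf (nl g z) z = c + star c := h.tc.symm
  rw [sl, ac_mul, ac_EE h.ok1, ac_EE h.ok2]
  simp only [hf_add_left, hf_add_right, hf_smul_left, hf_smul_right, h.ff, hc, h.ok2.perp,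
    h.wf.perp h.wf h.hk, h.wf.perp h.wz h.hk, ((h.m.w z).pp (h.m.w f) h.hk).p]
  ext i
  simp only [Pi.add_apply, Pi.smul_apply, smul_eq_mul]
  linear_combination star c * hf v f * nl g f i * two0 K

theorem actW {v : Vn n K} (hv : Wk k v) :
    ac (sl g f z c) v = v + hf v f • nl g z + (hf v z + c * hf v f) • nl g f := by
  simp [h.act, (hv.pp (h.m.w _) h.hk).p]

theorem nl_act {y : XU n K} (m : MK k y) (v : Vn n K) : nl y (ac (sl g f z c) v) =
    nl y v + hf v (nl g z) • nl y f + hf v (nl g f) • nl y z + (c * hf v (nl g f)) • nl y f := by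
  have := h.hk
  simp [h.act, nl_add, nl_smul, m.z _ ((h.m.w _).mono (by omega))]

theorem mem : sl g f z c ∈ Cz g := cz_of fun j => by
  rw [h.nl_act h.m, h.actW (h.m.w _), h.m.sa, h.m.sa]
  ext i
  simp only [Pi.add_apply, Pi.smul_apply, smul_eq_mul]
  ring

end SL

variable [hp : Par n K] [Base n K] {k : ℕ}

theorem mk_of (hk : GA.Rg (XU n K) k) {g : XU n K} (h : g ∈ GA.Mk (XU n K) k) : MK k g := by
  have hk' := rg_iff.1 hk
  have w : ∀ v, Wk k (nl g v) := (FV.mem_M k hk'.2 g).1 h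
  have sa : ∀ v w, hf (nl g v) w = hf v (nl g w) := fun v w => by
    rw [nl, nl, hf_add_left, hf_add_right, hf_ac_left,
      inv_eq_of_mul_eq_one_right (GA.FB.sqM k hk g h)]
  exact ⟨w, sa, fun v hv => eq_of_hf fun u => by
    rw [sa, hv.perp (w u) (by omega), hf_zero_left]⟩

theorem xk_ev (hk : 2 * k ≤ n + 1) {a j : Fin (n + 1)} (h : j.val + k = n + 1 + a.val) :
    nl (GA.xk (XU n K) k) (ev j) = ev a := funext fun i => by
  rw [nl, Pi.add_apply, ac_ev, UA.mt, FV.xk_val k hk]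
  simp only [SA.xk, Matrix.add_apply, Matrix.one_apply, of_apply, ev_apply]
  rw [add_right_comm, CharTwo.add_self_eq_zero, zero_add]
  exact if_congr (by rw [Fin.lt_def, Fin.ext_iff]; omega) rfl rfl

/-- the index `n + 1 - k` -/
def i0 (n k : ℕ) : Fin (n + 1) := ⟨n - (k - 1), by omega⟩

theorem sl0 (h2 : 2 ≤ k) (hk : 2 * k ≤ n + 1) {j : Fin (n + 1)} (h1 : n + 1 ≤ j.val + k)
    (hj : j ≠ Fin.last n) (a : K) : ∃ c, SL k (GA.xk (XU n K) k) (ev (i0 n k)) (a • ev j) c ∧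
      nl (GA.xk (XU n K) k) (ev (i0 n k)) = ev 0 ∧ (a = 0 → c = 1) := by
  have r : GA.Rg (XU n K) k := rg_iff.2 ⟨by omega, hk⟩
  have m := mk_of r (GA.FB.xM k r)
  have e : nl (GA.xk (XU n K) k) (ev (i0 n k)) = ev 0 := xk_ev hk (by simp [i0]; omega)
  obtain ⟨c, hc, h0⟩ : ∃ c, tr c = hf (nl (GA.xk (XU n K) k) (a • ev j)) (a • ev j) ∧
      (a = 0 → c = 1) := by
    by_cases h0 : a = 0
    · exact ⟨1, by simp [h0, tr_eq_zero], fun _ => rfl⟩
    · exact (FQ.trs _ (by rw [star_hf, m.sa])).imp fun c hc => ⟨hc, fun k => absurd k h0⟩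
  refine ⟨c, ⟨hk, m, by simpa using wd_ev (i := i0 n k) (by simp [i0]; omega) (1 : K), wd_ev h1 a,
    ?_, ?_, hc⟩, e, h0⟩
  · rw [e, hf_ev, if_neg (by simp [Fin.ext_iff, i0, Fin.val_rev]; omega)]
  · rw [e, hf_smul_left, hf0 hj, mul_zero]

theorem form (h2 : 2 ≤ k) (hk : 2 * k ≤ n + 1) {y : XU n K} (m : MK k y)
    (h : y ∈ Cs (GA.UU (XU n K) ⊓ Cz (GA.xk (XU n K) k))) : ∃ l c : K, star c = c ∧
      ∀ j, nl y (ev j) = l • nl (GA.xk (XU n K) k) (ev j) + (c * hf (ev j) (ev 0)) • ev 0 := by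
  set G := GA.xk (XU n K) k
  have r : GA.Rg (XU n K) k := rg_iff.2 ⟨by omega, hk⟩
  have mG : MK k G := mk_of r (GA.FB.xM k r)
  have l0 : hf (ev (Fin.last n) : Vn n K) (ev 0) = 1 := by simp [hf_ev]
  have key : ∀ j : Fin (n + 1), n + 1 ≤ j.val + k → j ≠ Fin.last n → ∀ a : K, ∃ c : K, (a = 0 → c = 1) ∧
      ∀ v, hf v (nl G (a • ev j)) • nl y (ev (i0 n k)) + hf v (ev 0) • nl y (a • ev j) +
        (c * hf v (ev 0)) • nl y (ev (i0 n k)) = hf v (nl y (ev (i0 n k))) • nl G (a • ev j) +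
        (hf v (nl y (a • ev j)) + c * hf v (nl y (ev (i0 n k)))) • ev 0 := fun j h1 hj a => by
    obtain ⟨c, s, e, h0⟩ := sl0 h2 hk h1 hj a
    refine ⟨c, h0, fun v => ?_⟩
    have u : sl G (ev (i0 n k)) (a • ev j) c ∈ GA.UU (XU n K) := mul_mem
      (EE_U (α := 1) (β := n) s.ok1 (e ▸ w0 le_rfl) (((wk_ev (Fin.val_lt_last hj)).smul a).add
        ((wk_ev (by simp [i0]; omega)).smul c)) (by omega))
      (EE_U (α := n + 2 - k) (β := k - 1) s.ok2 (wk_ev (by simp [i0]; omega)) (fun i hi => by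
        by_cases c : k ≤ i.val
        · exact mG.w _ i c
        · have := s.ok2.perp
          rwa [hf_ev_right, show (i0 n k).rev = i by
            simp [Fin.ext_iff, i0, Fin.val_rev]; omega] at this) (by omega))
    have := nl_comm (mem_Cs.1 h _ ⟨u, s.mem⟩).symm v
    rw [s.nl_act m, s.actW (m.w _), e, m.sa, m.sa, add_assoc, add_assoc, add_assoc,
      add_right_inj, ← add_assoc] at this
    exact this
  have j0 : n + 1 ≤ (i0 n k).val + k := by simp [i0]; omega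
  have j1 : i0 n k ≠ Fin.last n := by simp [i0, Fin.ext_iff]; omega
  obtain ⟨l, hl, sl⟩ : ∃ l, nl y (ev (i0 n k)) = l • ev 0 ∧ star l = l := by
    obtain ⟨c, h0, e⟩ := key _ j0 j1 0
    have := e (ev (Fin.last n))
    simp only [h0 rfl, zero_smul, nl_zero, hf_zero_right, smul_zero, l0, zero_add, one_mul,
      one_smul] at this
    have e := congrArg (hf (ev (Fin.last n))) this
    rw [hf_smul_right, l0, mul_one] at e
    exact ⟨_, this, e.symm⟩
  have D : ∀ j, j ≠ Fin.last n → nl y (ev j) = l • nl G (ev j) := fun j hj => by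
    by_cases h1 : n + 1 ≤ j.val + k
    swap
    · rw [m.z _ (wk_ev (by omega)), mG.z _ (wk_ev (by omega)), smul_zero]
    set μ := hf (ev (Fin.last n)) (nl y (ev j)) + l * hf (ev (Fin.last n)) (nl G (ev j))
    have q : ∀ a : K, a • (nl y (ev j) + l • nl G (ev j)) = (star a * μ) • ev 0 := fun a => by
      obtain ⟨c, -, e⟩ := key j h1 hj a
      have := e (ev (Fin.last n))
      simp only [hl, nl_smul, hf_smul_right, l0, sl] at this
      ext i
      have := congrFun this i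
      simp only [Pi.add_apply, Pi.smul_apply, smul_eq_mul, μ] at this ⊢
      linear_combination this + (a * l * nl G (ev j) i -
        star a * l * hf (ev (Fin.last n)) (nl G (ev j)) * (ev 0 : Vn n K) i) * two0 K
    obtain ⟨a, ha⟩ := hp.ne
    have q1 := q 1
    have q2 := congrFun (q a) 0
    rw [one_smul, star_one, one_mul] at q1
    simp only [q1, Pi.smul_apply, ev_apply, if_true, smul_eq_mul, mul_one] at q2
    rw [(mul_eq_mul_right_iff.1 q2).resolve_left ha.symm, zero_smul] at q1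
    rw [← add_zero (l • _), ← q1, add_comm (nl y _), ← add_assoc, v_add_self, zero_add]
  refine ⟨l, hf (nl y (ev (Fin.last n)) + l • nl G (ev (Fin.last n))) (ev (Fin.last n)), ?_,
    fun j => ?_⟩
  · rw [star_hf, hf_add_left, hf_add_right, hf_smul_left, hf_smul_right, sl, m.sa, mG.sa]
  by_cases hj : j = Fin.last n
  swap
  · rw [D j hj, hf0 hj]; simp
  subst hj
  ext i
  by_cases hi : i = 0
  · simp only [hi, l0, hf_ev_right, Fin.rev_last, Pi.add_apply, Pi.smul_apply, ev_apply, if_true,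
      smul_eq_mul]
    linear_combination -(l * nl G (ev (Fin.last n)) 0) * two0 K
  · have := congrArg (hf (ev (Fin.last n))) (D i.rev (by simpa [Fin.rev_eq_iff] using hi))
    rw [hf_smul_right, sl, ← m.sa, ← mG.sa, hf_ev_right, hf_ev_right, Fin.rev_rev] at this
    simp [ev_apply, hi, this]

theorem conj_or [GA.FA (XU n K)] (ic : IC n K) (h2 : 2 ≤ k) (hk : 2 * k ≤ n + 1) (qk : QK n K)
    {y : XU n K} (hy : Inv2 y) (h : y ∈ Cs (GA.UU (XU n K) ⊓ Cz (GA.xk (XU n K) k))) :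
    IsConj (GA.xk (XU n K) k) y ∨ ∃ c, star c = c ∧ y = Tc c (ev 0) := by
  have r : GA.Rg (XU n K) k := rg_iff.2 ⟨by omega, hk⟩
  have mG := mk_of r (GA.FB.xM k r)
  obtain ⟨l, c, sc, e⟩ := form h2 hk (mk_of r (GA.mem_Mk_of_Cs r
    (centralizer_le (le_inf (GA.Qk_le_UU r) (qk k r).1) h) (is2_of_sq hy.1))) h
  by_cases l0 : l = 0
  · exact .inr ⟨c, sc, bext fun j => by rw [ac_eq, e, l0, zero_smul, zero_add, ac_Tc iso0 sc]⟩
  refine .inl (ic.rk _ _ (GA.inv2_xk r) hy ?_)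
  have e0 : nl (GA.xk (XU n K) k) (ev (i0 n k)) = ev 0 := xk_ev hk (by simp [i0]; omega)
  have : UA.mt y - 1 = (l • 1 + c • op (ev 0) (ev (i0 n k))) * (UA.mt (GA.xk (XU n K) k) - 1) :=
    mext fun j => by
      rw [nl_mt, e, ← mulVec_mulVec, nl_mt, add_mulVec, smul_mulVec, one_mulVec, smul_mulVec,
        op_mulVec, mG.sa, e0, smul_smul]
  rw [this, rank_mul_eq_right_of_isUnit_det]
  refine isUnit_det_of_right_inverse (B := (l * l)⁻¹ • (l • 1 + c • op (ev 0) (ev (i0 n k)))) ?_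
  have z : hf (ev 0 : Vn n K) (ev (i0 n k)) = 0 := hf_symm (hf0 (by simp [i0, Fin.ext_iff]; omega))
  simp only [mul_smul_comm, add_mul, mul_add, smul_mul_assoc, op_mul, z, one_mul, mul_one,
    zero_smul, smul_zero, add_zero]
  ext i j
  simp only [Matrix.add_apply, Matrix.smul_apply, smul_eq_mul]
  field_simp
  linear_combination c * op (ev 0 : Vn n K) (ev (i0 n k)) i j * two0 K

theorem L1 (h3 : 3 ≤ k) (hk : 2 * k ≤ n + 1) {ρ : XU n K} (o : Odd (orderOf ρ))
    {d : Fin (n + 1) → K} (hd : ∀ r, ac ρ (ev r) = d r • ev r)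
    (hc : ∀ a j : Fin (n + 1), j.val + k = n + 1 + a.val → d j = d a) (h1 : star (d 0) * d 1 ≠ 1)
    {c : K} (sc : star c = c) : Tc c (ev 0) ∈ O2 (Cz (GA.xk (XU n K) k)) := by
  have r : GA.Rg (XU n K) k := rg_iff.2 ⟨by omega, hk⟩
  have mG := mk_of r (GA.FB.xM k r)
  have m : ρ ∈ Cz (GA.xk (XU n K) k) := cz_of fun j => by
    rw [hd, nl_smul]
    by_cases c : n + 1 ≤ j.val + k
    · have e : j.val + k = n + 1 + (⟨j.val + k - (n + 1), by omega⟩ : Fin (n + 1)).val := by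
        simp; omega
      rw [xk_ev hk e, hd, hc _ _ e]
    · rw [mG.z _ (wk_ev (by omega)), ac_zero, smul_zero]
  have ok : ∀ a : K, Ok (ev 0 : Vn n K) (a • ev 1) 0 := fun a => by
    simpa using (pp01.smul 1 a).ok
  have p : ∀ a b : K, hf (a • ev 1 : Vn n K) (b • ev 1) = 0 := fun a b => by
    rw [hf_smul_left, hf_smul_right, pp01.r]; simp
  have o1 := cmO (mem_O2_of_odd m o) (mem_Cz.2 (mem_Cs.1 (GA.Mk_le_Cs r
    (FV.EE_M k hk _ _ _ (ok 1) (w0 (by omega)) ((w1 (by omega)).smul 1))) _ (GA.FB.xM k r)))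
  rw [EE_conj (ok 1), ac_smul, hd, hd, EE_smul, EE_inv (ok 1), mul_zero, star_zero, smul_smul,
    smul_smul, EE_mul (ok _) (ok 1), p, ← add_smul, add_zero, add_zero] at o1
  have a0 : star (d 0) * 1 * d 1 + 1 ≠ 0 := fun e => h1 (by linear_combination e - two0 K)
  generalize star (d 0) * 1 * d 1 + 1 = a at o1 a0
  obtain ⟨η, rfl⟩ := FQ.trs c sc
  have v := v1 K (n := n)
  obtain ⟨c', s, e, -⟩ := sl0 (j := (1 : Fin (n + 1)).rev) (by omega) hk
    (by rw [Fin.val_rev]; omega) (by rw [Ne, Fin.ext_iff, Fin.val_rev, Fin.val_last]; omega)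
    (star (η / a))
  have z0 : hf (ev 0 : Vn n K) (ev (i0 n k)) = 0 := hf_symm (hf0 (by simp [i0, Fin.ext_iff]; omega))
  have z1 : hf (ev 1 : Vn n K) (ev (i0 n k)) = 0 := by
    rw [hf_ev, if_neg (by rw [Fin.ext_iff, Fin.val_rev, v]; simp [i0]; omega)]
  have o2 := mul_mem (cjO o1 s.mem) o1
  rw [EE_conj (ok a), ac_smul, s.actW (w0 (by omega)), s.actW (w1 (by omega)), e] at o2
  simp only [z0, z1, hf_smul_right, hf_ev, Fin.rev_inj, if_neg (ne01 (K := K)).symm, if_true,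
    zero_smul, mul_zero, add_zero, star_star, mul_one, smul_add, smul_smul, mul_div_cancel₀ _ a0] at o2
  rw [EE_shift, EE_mul ⟨iso0, (ok a).perp, by rw [zero_add, tr_tr, p]⟩ (ok a), v_add_self, p] at o2
  simpa using o2

theorem L2 (h1 : 1 ≤ k) (hk : 2 * k + 2 ≤ n + 1) (qk : QK n K)
    {c : K} (sc : star c = c) : Tc c (ev 0) ∈ O2 (Cz (GA.xk (XU n K) k)) := by
  have r : GA.Rg (XU n K) k := rg_iff.2 ⟨by omega, by omega⟩
  have mG := mk_of r (GA.FB.xM k r)
  obtain ⟨u, w, hu, hw, iu, iw, uw⟩ : ∃ u w : Vn n K, Wk (n + 1 - k) u ∧ Wk (n + 1 - k) w ∧ Iso u ∧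
      Iso w ∧ hf u w = 1 := ⟨ev ⟨k, by omega⟩, ev (Fin.rev ⟨k, by omega⟩), wk_ev (by simp; omega),
    wk_ev (by simp [Fin.val_rev]; omega), ev_iso (by simp [Fin.ext_iff, Fin.val_rev]; omega),
    ev_iso (by simp [Fin.ext_iff, Fin.val_rev]; omega), by simp [hf_ev]⟩
  have wu : hf w u = 1 := by rw [← star_hf, uw, star_one]
  have s1 := star_one K
  have T : ∀ v : Vn n K, Wk (n + 1 - k) v → Iso v → TT v ∈ Cz (GA.xk (XU n K) k) := fun v hv iv =>
    mem_Cz.2 (mul_inv_eq_iff_eq_mul.1 (by rw [Tc_conj iv s1, ac_eq, mG.z v hv, add_zero]))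
  have p0 : ∀ v : Vn n K, Wk (n + 1 - k) v → hf v (ev 0) = 0 := fun v hv =>
    hv.perp (w0 le_rfl) (by omega)
  have Q : ∀ (v : Vn n K), Wk (n + 1 - k) v → Iso v →
      EE (ev 0) v 0 ∈ Cz (GA.xk (XU n K) k) ∧ Ok (ev 0) v 0 := fun v hv iv =>
    have ok : Ok (ev 0) v 0 := ⟨iso0, p0 v hv, by simp [iv]⟩
    ⟨(qk k r).1 (FV.EE_Q k (by omega) _ _ _ ok (w0 h1) hv), ok⟩
  have o3 : (TT u * TT w) ^ 3 = 1 := by
    have e1 := Tc_conj iw s1 (TT u)
    have e2 := Tc_conj iu s1 (TT w)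
    rw [inv_eq_of_mul_eq_one_right (Tc_mul_self iu s1), ac_Tc iu s1, wu] at e1
    rw [inv_eq_of_mul_eq_one_right (Tc_mul_self iw s1), ac_Tc iw s1, uw] at e2
    simp only [mul_one, one_smul] at e1 e2
    rw [add_comm u] at e2
    calc (TT u * TT w) ^ 3 = TT u * TT w * TT u * (TT w * TT u * TT w) := by
          simp only [pow_succ, pow_zero, one_mul, mul_assoc]
      _ = 1 := by
        rw [e1, e2]
        exact Tc_mul_self (by simp [Iso, hf_add_left, hf_add_right, iu, iw, uw, wu,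
          CharTwo.add_self_eq_zero]) s1
  have o1 := cmO (mem_O2_of_odd (mul_mem (T u hu iu) (T w hw iw))
    (Odd.of_dvd_nat (by decide) (orderOf_dvd_of_pow_eq_one o3))) (Q u hu iu).1
  have a0 : ac (TT u * TT w) (ev 0) = ev 0 := by
    simp [ac_mul, ac_Tc iu s1, ac_Tc iw s1, hf_symm (p0 u hu), hf_symm (p0 w hw)]
  have a1 : ac (TT u * TT w) u = w := by
    simp only [ac_mul, ac_Tc iu s1, ac_Tc iw s1, uw, wu, hf_add_left, show hf u u = 0 from iu, mul_one,
      one_smul, zero_add]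
    rw [add_right_comm, v_add_self, zero_add]
  rw [EE_conj (Q u hu iu).2, a0, a1, EE_inv (Q u hu iu).2, star_zero,
    EE_mul (Q w hw iw).2 (Q u hu iu).2] at o1
  obtain ⟨η, rfl⟩ := FQ.trs c sc
  have q := Q _ (hu.smul (star η)) (iu.smul _)
  have o2 := cmO o1 q.1
  rw [← GA.cm, EE_cm ((Q w hw iw).2.add (Q u hu iu).2) q.2] at o2
  simpa [hf_add_left, hf_smul_right, wu, show hf u u = 0 from iu] using o2

end H79.UMJ
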