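import Cfsg.Agent.H67.P6.Core
import Cfsg.Agent.H78.S33Wrap
import Cfsg.Agent.H78.P6.YUT
import Cfsg.Agent.H69.P6Mult

/-! Row S3133 from the endgame and the multipliers of the models. -/

set_option autoImplicit false

namespace H78.Y3

open Cfsg Subgroup Function
open H85.P6.H67.SP
open H85.P6.H67.UA (XU)
open H85.P6.H78.S2 (base)
open H64.SG (Cov Cfg Inv2)

universe u

theorem final (hF' : H54.P6.H64.YE.JobFin.{u}) {G : Type u} [Group G] [Finite G]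
    (L : Subgroup G) (hL : IsStandardSubgroup L) {F : Type*} [Field F] [Fintype F]
    (hF : Fintype.card F = 2) (hLX : Nonempty (L ≃* PSp 3 F))
    (hR : ∀ R : Sylow 2 ↥(centralizer (L : Set G)),
      IsCyclic ↥(R : Subgroup ↥(centralizer (L : Set G)))) (hn : ¬ (L ⊔ oddCore G).Normal) :
    Nonempty (↥(normalClosure (L : Set G)) ≃* POmega F (quadFormPlus 4 F)) ∨
      (∃ a b : F, (∀ z₁ z₂ : F, z₁ ^ 2 + a * z₁ * z₂ + b * z₂ ^ 2 = 0 → z₁ = 0 ∧ z₂ = 0) ∧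
        Nonempty (↥(normalClosure (L : Set G)) ≃* POmega F (quadFormMinus 3 F a b))) ∨
      (∃ (K : Type) (_ : Field K) (_ : Fintype K), Fintype.card K = 4 ∧
        (Nonempty (↥(normalClosure (L : Set G)) ≃* PSU 6 K 2) ∨
          Nonempty (↥(normalClosure (L : Set G)) ≃* ↥(SU 6 K 2)) ∨
          Nonempty (↥(normalClosure (L : Set G)) ≃* PSU 7 K 2) ∨
          Nonempty (↥(normalClosure (L : Set G)) ≃* PSp 3 K))) ∨
      Nonempty (↥(normalClosure (L : Set G)) ≃* Matrix.ProjectiveSpecialLinearGroup (Fin 6) F) ∨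
      Nonempty (↥(normalClosure (L : Set G)) ≃* Matrix.ProjectiveSpecialLinearGroup (Fin 7) F) ∨
      Nonempty (↥(normalClosure (L : Set G)) ≃* ↥L × ↥L) := by
  obtain ⟨ε⟩ := hLX
  let φ : F ≃+* ZMod 2 := FiniteField.ringEquivOfCardEq (by rw [hF, ZMod.card])
  let _ : StarRing (ZMod 2) := starRingOfComm
  have : TrivialStar (ZMod 2) := ⟨fun _ => rfl⟩
  have : Par 5 (ZMod 2) := ⟨by decide, le_rfl, rfl⟩
  have b := base 5 (ZMod 2)
  obtain ⟨ι⟩ := FA.psp (n := 5) (F := ZMod 2)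
  have hX := FA.ns (n := 5) (F := ZMod 2)
  have q := Nat.card_zmod 2
  refine H78.S33.main L hL hF ε (ι.trans (H55.pspCongr φ 3).symm)
    (eq_bot_iff.2 fun a ha => mem_bot.2 (hX.eq_one fun c => (mem_center_iff.1 ha c).symm))
    (fun H _ _ F₀ L' t c cfg => ?_) hR hn
  obtain ⟨e, he, rfl⟩ := H67.P6.Core.exists_e q c cfg.perf
  obtain ⟨⟨z, z1, z2⟩, k⟩ := H67.P6.Core.core H69.P6M.mu (H78.P6T.fin hF') q he cfg
  refine ⟨⟨e z, ⟨z, rfl⟩, ⟨by rw [← map_mul, z1.1, map_one], fun h => z1.2 (he (h.trans e.map_one.symm))⟩,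
    z2⟩, H78.S33.Cl.congr φ ?_⟩
  refine k.imp_right (Or.imp_right (Or.imp_left ?_))
  rintro ⟨K, i1, i2, k1, k2⟩
  have k3 : ∀ m a, a = 2 → Nonempty (F₀ ≃* PSU m K a) → Nonempty (F₀ ≃* PSU m K 2) := by
    rintro m _ rfl k
    exact k
  exact ⟨K, i1, i2, k1.trans (by rw [q]; rfl), k2.imp (k3 _ _ q) (Or.imp_left (k3 _ _ q))⟩

end H78.Y3
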