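import Cfsg.Agent.H54.P6.YEnd
import Cfsg.Agent.H78.P6.Y3CA
import Cfsg.Agent.H85.O6RA

/-! Row S3133: the endgame for `Sp₆(2)`. -/

set_option autoImplicit false

namespace H78.Y3

open H85.P6.H67.SP (Par FC)
open H54.P6T (mb mc rd)

universe u

theorem jobMP : H54.P6.H64.YE.JobMP.{u} := fun n F _ _ _ _ _ p _ _ _ δ => by
  obtain ⟨r, h⟩ := H86.O6.res (F := F) p.six (FC.two n) δ
  have q : H54.P6.H64.YE.QS (H59.SO.Om (H85.P6.H86.SPI.QD n F δ)) := H54.P6T.qs h.mb.qs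
  have z := h.rz
  have ob := h.ob
  have os := h.os
  have oc := h.oc
  have ou := h.ou
  have oq := h.oq
  exact ⟨r.U, mb h.mb, h.on, h.na, ⟨h.me.1, h.me.2⟩, _, _, _, _, _, _, _, mc h.mc, rd h.rd,
    fun G _ _ e t Φ K₀ k => H78.P6.Y3CA.jobCA2 H54.P6.H64.YE.slots.gc n F G e t _ _ _ _ _ _ Φ K₀ k
      _ _ _ _ (rd h.rd) (H85.O6RA.res_ra2 h),
    ⟨z.1, z.2, z.3⟩, ⟨ob.1, ob.2, ob.3, ob.4, ob.5, ob.6⟩, h.oh, ⟨os.1, os.2, os.3, os.4, os.5⟩,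
    ⟨oc.1, oc.2, oc.3, oc.4, oc.5, oc.6, oc.7, oc.8, oc.9⟩, ⟨ou.1, ou.2, ou.3, ou.4, ou.5⟩,
    ⟨oq.1, oq.2⟩⟩

theorem jobFin : H54.P6.H64.YE.JobFin.{u} := H54.P6.H64.YE.jobFin H54.P6T.mods jobMP

end H78.Y3
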