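import Cfsg.Agent.H78.P6.Z_YEKit
import Cfsg.Agent.H85.P6.H67_SPSpec

namespace H64 end H64
open H64
namespace H85.P6 end H85.P6
open H85.P6
namespace H85.P6.H64 end H85.P6.H64
open H85.P6.H64
namespace H85.P6.H64.YE end H85.P6.H64.YE
open H85.P6.H64.YE
namespace H78.P6


/-! STD-SP (row S3129), endgame, piece 1: the type-free steps.  Notes: `blueprints/STDSP_E.md`.
`X = Sp_(n+1)(q)`, `Φ : Y →* G`, `G₁ = Φ.range`, `M = N(G₁)`, `K₀` of index `2`, `T` = class of `t`. -/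

set_option autoImplicit false
set_option linter.unusedSectionVars false

namespace H64.YE

open H64.SG (O2 Syl Cz Cs Ns cjs Is2 Inv2 UF IsO2 fx)
open Subgroup H67.UA H67.SP
open H67.SA (cm Gen)
open H59.SO (Ind CE AutOn)
open H64.SF (Outer)

universe u

section Gen

variable {G : Type*} [Group G]

/-- `d` fixes no coset of `M` other than `M`. -/
def Fx (M : Subgroup G) (d : G) : Prop := ∀ g, g * d * g⁻¹ ∈ M → g ∈ M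
/-- The subgroup generated by the `2`-elements of `A`. -/
def T2 (A : Subgroup G) : Subgroup G := closure {g | g ∈ A ∧ Is2 g}
/-- conjugate under `Aut G` -/
def Ac (a b : G) : Prop := ∃ β : MulAut G, β a = b
/-- `β` fixes a `2`-subgroup of order greater than `N`. -/
def Big (N : ℕ) (β : MulAut G) : Prop := ∃ P ≤ fx β, IsPGroup 2 P ∧ N < Nat.card P
/-- the conjugate of `τ` by `w` -/
def tw (τ : MulAut G) (w : G) : MulAut G := MulAut.conj w * τ * (MulAut.conj w)⁻¹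
/-- An automorphism of odd order that fixes `R` pointwise is trivial. -/
def Co (R : Subgroup G) : Prop :=
  ∀ α : MulAut G, (∀ u ∈ R, α u = u) → Odd (orderOf α) → α = 1

/-- A component of `H / V O(H)` that is not centralised by `Q`: `N` is its preimage, `B` the
centraliser in `Q` of the image of `N` in `H / O(H)`. -/
structure GD (M H T V Q N B : Subgroup G) : Prop where
  nh : N ≤ H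
  vb : V ≤ B
  bq : B ≤ Q
  dec : ∀ x ∈ Q, ∃ a ∈ Q ⊓ N, ∃ b ∈ B, x = a * b
  four : ∃ x ∈ Q, ∃ y ∈ Q, x ∉ B ∧ y ∉ B ∧ x⁻¹ * y ∉ B
  tr : ∀ a ∈ Q, ∀ a' ∈ Q, a ∉ B → a' ∉ B →
    ∃ d ∈ N, d ∈ Ns Q ∧ d ∈ Cs B ∧ d * a * d⁻¹ * a'⁻¹ ∈ B
  om : ∀ x ∈ T ⊓ N, x * x ∈ V → x ∈ Q
  cj : ∀ h ∈ H ⊓ Ns Q, h ∈ Ns N ∧ h ∈ Ns B ∨ cjs h (Q ⊓ N) ≤ B
  inv : ∀ s ∈ H, s * s = 1 → Cz s ≤ M → s ∈ Ns N ∧ s ∈ Ns B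

end Gen

/-- Goldschmidt's theorem in `H / O(H)` (`H32.SH.gold_z`). -/
def JobGC : Prop := ∀ (G : Type u) [Group G] [Finite G] (M H T V Q : Subgroup G), Syl T H → V ≤ Q →
  Q ≤ T → H ≤ Cs V → (∀ x ∈ Q, x * x ∈ V) → (∀ x ∈ Q, ∀ h ∈ H, h * x * h⁻¹ ∈ T → h * x * h⁻¹ ∈ Q) →
  M ⊓ H ≤ Ns Q → (∃ O ≤ H, Odd (Nat.card O) ∧ Ns H ≤ Ns O ∧
    ∀ h ∈ H, ∃ o ∈ O, ∃ n ∈ H ⊓ Ns Q, h = o * n) ∨ ∃ N B, GD M H T V Q N B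

/-- A large group of Lie type in characteristic `2` is not alternating (row S2363). -/
def JobNA : Prop := ∀ (Y : Type) [Group Y] [Finite Y] (P : Subgroup Y), Cfsg.IsLieTypeChar 2 Y →
  IsPGroup 2 P → 2 ^ 20 ≤ Nat.card P → ∀ m, IsEmpty (Y ≃* alternatingGroup (Fin m))

section Mod

variable {n : ℕ} {F : Type} [Field F] [StarRing F] [TrivialStar F] [CharP F 2] [Finite F]
  {Y : Type} [Group Y] (ι : XU n F →* Y) (τ : MulAut Y) (Gd Go : XU n F → Prop) (U : Subgroup Y)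

variable (n F) in
/-- a bound for the `2`-subgroups of `C(t)` -/
noncomputable def bq : ℕ := Nat.card F ^ (kk n ^ 2 + 1)

/-- `y` is conjugate into `X`. -/
def MI (y : Y) : Prop := ∃ w u, y = w * ι u * w⁻¹

/-- Basic facts. -/
structure M1 : Prop where
  t2 : τ * τ = 1
  fix : ∀ y, τ y = y ↔ y ∈ ι.range
  syl : Syl U ⊤
  stU : τ ∈ H67.SA.St U
  tne : τ ∉ commutator (MulAut Y)
  gen : ∃ a u, a * (τ a)⁻¹ = ι u ∧ ι.range ⊔ cjs a ι.range = ⊤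

/-- The involutions of `Y τ`. -/
structure M2 : Prop where
  gdc : ∀ u, u * u = 1 → Gd u → ∃ g, ι u = g * (τ g)⁻¹
  cl : ∀ v, v * τ v = 1 → ∃ g u, u * u = 1 ∧ v = g * ι u * (τ g)⁻¹

/-- The other outer involutions. -/
def M3 : Prop := ∀ β : MulAut Y, β * β = 1 → Is2 (β * τ) → Outer β → Outer (β * τ) →
  Big (bq n F) β ∨ (∀ u, Inv2 u → Gd u → u ∈ O2 (Cz u)) ∧
    ∃ (y : Y) (β' : MulAut Y) (ψ : MulAut (XU n F)) (z : XU n F),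
      β' = MulAut.conj y * β * (MulAut.conj y)⁻¹ ∧ β' * τ = τ * β' ∧ (∀ u, β' (ι u) = ι (ψ u)) ∧
        Outer ψ ∧ z ∈ O2 (fx ψ) ∧ Inv2 z ∧ ¬ Gd z

/-- The normal closure in `B` of the involutions `ι v`, `Go v`. -/
def EG (B : Subgroup Y) : Subgroup Y :=
  closure {y | ∃ b ∈ B, ∃ v, v * v = 1 ∧ Go v ∧ ι v ∈ B ∧ y = b * ι v * b⁻¹}

/-- `R` is a self-centralising normal subgroup of `U ⟨τ⟩`. -/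
structure Good (R : Subgroup Y) : Prop where
  le : R ≤ U
  nr : U ≤ Ns R
  st : τ ∈ H67.SA.St R
  ce : Cs R ⊓ U ≤ R
  co : Co R

/-- The data for `JobCO`. -/
def MC (R : Subgroup Y) : Prop := Good τ U R ∧ U ≤ EG ι Go (Ns R) ⊔ R ∧
  ∃ R', Good τ U R' ∧ EG ι Go (Ns R) ⊔ EG ι Go (Ns R') ⊔ U = ⊤

variable (r : Y) (Z Q : Subgroup Y)

/-- A root involution `r`, its root group `Z`, `Q = O₂(C Z)`.  "Root" means `IsConj r y`. -/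
structure RD : Prop where
  inv : Inv2 r
  tr : τ r = r
  rz : r ∈ Z
  zq : Z ≤ Q
  qu : Q ≤ U
  uz : U ≤ Cs Z
  z2 : ∀ z ∈ Z, z * z = 1
  sq : ∀ x ∈ Q, x * x ∈ Z
  rt : ∀ z ∈ Z, z ≠ 1 → IsConj r z
  ra : ∀ α : MulAut Y, IsConj r (α r)
  str : ∀ α : MulAut Y, α r = r → α ∈ H67.SA.St Z
  stq : ∀ α ∈ H67.SA.St Z, α ∈ H67.SA.St Q
  co : Co Q
  ce : ∀ u ∈ U, (∀ x ∈ Q, cm u x ∈ Z) → u ∈ Q
  gq : Q ≤ EG ι Go (Cs Z)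

/-- For `JobZ1`. -/
structure RZ : Prop where
  qn : ∀ x ∈ Q, x ∉ Z → ∃ p ∈ Cs Z, cm p x * cm p x = 1 ∧ cm p x ∉ Z
  zq : ∀ α ∈ H67.SA.St Q, (∀ x ∈ Q, α x * x⁻¹ ∈ Z) → ∀ z ∈ Z, α z = z
  zs : ∀ u, IsConj r u → u * r = r * u → u * r = 1 ∨ IsConj r (u * r) →
    u ∈ Z ∨ (∀ z ∈ Z, τ z = z) ∧ ∃ w, tw τ w r = r ∧ tw τ w u = u

/-- For `JobNZ`. -/
structure RN : Prop where
  zp : ∀ z ∈ Z, z ≠ 1 → ∀ y, IsConj r y → y * z = z * y → y * z = 1 ∨ IsConj r (y * z) → y ∈ Z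
  tp : ∃ g, g * r * g⁻¹ ∉ Z ∧ cjs g Z ≤ Cs Z ∧
    (∀ d ∈ Cs Z, IsConj r d → d ∉ Z → ∃ p ∈ Cs Z, p * d * p⁻¹ ∈ cjs g Z) ∧
    T2 (Cs Z) ⊔ cjs g (T2 (Cs Z)) = ⊤

/-- For `JobCA`. -/
structure RA (P : Subgroup Y) : Prop where
  tz : ∀ z ∈ Z, τ z = z
  irr : ∀ B, Z ≤ B → B ≤ Q → P ≤ Ns B → B ≤ Z ∨ Q ≤ B
  sqs : ∃ x ∈ Q, ∃ y ∈ Q, x ∉ Z ∧ y ∉ Z ∧ x * x ≠ y * y

/-- For `JobCB`, `JobHS` (symplectic model). -/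
structure RB : Prop where
  tr : ∀ x ∈ Q, ∀ y ∈ Q, x ∉ Z → y ∉ Z → ∃ p ∈ Cs Z, p * x * p⁻¹ * y⁻¹ ∈ Z
  nb : ∀ N, Q ≤ N → N ≤ Cs Z → Cs Z ≤ Ns N → N ≤ Q ∨ Cs Z ≤ N
  ex : ∃ u ∈ U, u * u = 1 ∧ u ∉ Q
  mv : ∃ p ∈ Cs Z, ∃ x ∈ Q, ∃ y ∈ Q, x ∉ Z ∧ cm p x ∈ Z ∧ cm p y ∉ Z
  el : ∀ x ∈ Q, x * x = 1
  hs : ∀ θ, AutOn Q θ → (∀ z ∈ Z, θ z = z) → (∀ x ∈ Q, Ac x (θ x)) →
    ∃ p ∈ Cs Z, ∀ x ∈ Q, θ x * (p * x * p⁻¹)⁻¹ ∈ Z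

/-- For `JobHU` (unitary models). -/
structure RH : Prop where
  pd : U ≤ closure {d | d ∈ Cs Z ∧ IsConj r d}
  ha : ∀ θ δ : Y → Y, AutOn Q θ → (∀ z ∈ Z, θ z = z) → ∀ d ∈ Cs Z, IsConj r d → d ∉ Z →
    (∀ x ∈ Q, δ (θ x) = θ (d * x * d⁻¹)) → ∃ d₂ ∈ Cs Z, IsConj r d₂ ∧ d₂ ∉ Z ∧
      (∀ x ∈ Q, δ (d₂ * x * d₂⁻¹) * (d₂ * δ x * d₂⁻¹)⁻¹ ∈ Z) ∧
      (∃ x ∈ Q, ∃ x' ∈ Q, δ x * x⁻¹ ∉ Z ∧ δ x * x⁻¹ * (cm d₂ x')⁻¹ ∈ Z) ∧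
      ((∀ x ∈ Q, ∃ x' ∈ Q, δ x * x⁻¹ * (cm d₂ x')⁻¹ ∈ Z) →
        ∃ d₃ ∈ Cs Z, ∀ x ∈ Q, δ x * (d₃ * x * d₃⁻¹)⁻¹ ∈ Z)
  hb : ∀ d₁ ∈ U, ∀ d₂ ∈ U, IsConj r d₁ → IsConj r d₂ →
    (∃ x ∈ Q, ∃ x' ∈ Q, cm d₁ x ∉ Z ∧ cm d₁ x * (cm d₂ x')⁻¹ ∈ Z) →
      ∀ x ∈ Q, ∃ x' ∈ Q, cm d₁ x * (cm d₂ x')⁻¹ ∈ Z

/-- For `JobSS`. -/
structure RS : Prop where
  pat : ∀ v ∈ Cs Z, v * v = 1 → ∀ x ∈ Q, x * x = 1 → (∀ z ∈ Z, Ac (x * z) (v * z)) → v ∈ Q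
  gen : Q ≤ closure {x | x ∈ Q ∧ x * x = 1}
  scf : ∀ u ∈ U, ∀ x ∈ Q, x * x ≠ 1 → u * u = x * x →
    (∃ y ∈ closure {y | y ∈ Q ∧ y * y = 1 ∧ cm u y ∈ Z}, u * y * (u * y) = 1) ∨
      (∀ z ∈ Z, τ z = z) ∧ (∃ w ∈ Cs Z, tw τ w u * u⁻¹ ∈ Z) ∧ ∃ w ∈ Cs Z, tw τ w x * x⁻¹ ∈ Z

/-- For `JobEI`. -/
structure ME (Ge : XU n F → Prop) : Prop where
  mz : ∀ z, Ge z → ∀ α : MulAut Y, α * (MulAut.conj (ι z) * τ) = MulAut.conj (ι z) * τ * α →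
    α * τ = τ * α
  zp : ∀ z, Ge z → Inv2 z ∧ ∃ A, IsO2 A (Cz z) ∧ z ∈ closure {v | v ∈ A ∧ v * v = 1 ∧ Gd v}

variable (c : Y) (R : Subgroup Y)

/-- Orthogonal models: `c` of type `c₂`, `R = O₂(C c)`; the involutions that are not conjugate into
`X`. -/
structure OB : Prop where
  inv : Inv2 c
  tc : τ c = c
  ncr : ¬ IsConj r c
  b1 : ∀ y, y * y = 1 → ¬ MI ι y → ¬ IsConj r y ∧
    ∃ w, y * tw τ w y = tw τ w y * y ∧ IsConj c (y * tw τ w y)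
  b2 : ∀ y y', y * y = 1 → y' * y' = 1 → ¬ MI ι y → ¬ MI ι y' → IsConj y y' ∨ IsConj y (τ y')
  b3 : ∀ r' c', IsConj r r' → Ac c c' → MI ι c' → r' * c' = c' * r' →
    ∃ w, tw τ w r' = r' ∧ tw τ w c' = c'

/-- For `JobNO`. -/
def ON : Prop := ∀ y, y * y = 1 → ¬ MI ι y → ∃ A ≤ O2 (Cz y), Nat.card F < Nat.card A ∧
  ∀ a ∈ A, a * a = 1 ∧ IsConj y (y * a)

/-- For `JobHO`. -/
def OH : Prop := ∀ θ, AutOn R θ → (∀ x ∈ R, IsConj r x ↔ IsConj r (θ x)) →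
  ∃ p, ∀ x ∈ R, θ (τ x) = p * τ (θ x) * p⁻¹

/-- For `JobSR`. -/
structure OS : Prop where
  cr : c ∈ R
  el : ∀ x ∈ R, x * x = 1
  st : ∀ α : MulAut Y, α c = c → α ∈ H67.SA.St R
  sr : ∀ x ∈ R, ∃ w, tw τ w c = c ∧ tw τ w x = x
  scr : ∀ u, u * u = 1 → u * c = c * u → (¬ MI ι u ∨ ∃ x ∈ R, Ac x u) →
    (¬ MI ι (u * c) ∨ ∃ x ∈ R, Ac x (u * c)) → ∃ w, tw τ w c = c ∧ (tw τ w u = u ∨ tw τ w u = u * c)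

/-- For `JobC3`: `R₁ = E(e, F w)`, `R₀ = E(e, w^⊥)`. -/
structure OC (R₀ R₁ : Subgroup Y) : Prop where
  l1 : R₁ ≤ R₀
  l0 : R₀ ≤ R
  n1 : ¬ R₀ ≤ R₁
  n0 : ¬ R ≤ R₀
  irr : ∀ B ≤ R, (∀ p ∈ Cz c, p * (τ p)⁻¹ ∈ Ns B) → B ≤ R₁ ∨ R₀ ≤ B
  st : ∀ α : MulAut Y, α c = c → α ∈ H67.SA.St R₀
  tv : ∀ α ∈ H67.SA.St R, (∀ x ∈ R₀, α x = x) → ∀ x ∈ R, α x * x⁻¹ ∈ R₀
  gr : R₀ ≤ EG ι Go (Cz c)
  two : ∃ g ∈ Ns R, c ∈ cjs g R₀ ∧ R ≤ R₀ ⊔ cjs g R₀ ∧ Co (R₀ ⊓ cjs g R₀)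

/-- For `JobUZ`. -/
structure OU : Prop where
  o2c : IsO2 R (T2 (Cz c))
  o2r : IsO2 R (T2 (Ns R))
  max : ∀ A, T2 (Ns R) ≤ A → A ≤ Ns R ∨ A = ⊤
  d1 : ∀ y, y * y = 1 → ¬ MI ι y → Ac c y ∨ ∃ D : Set Y, y ∈ closure D ∧
    (∀ a ∈ D, IsConj r a ∧ a * y = y * a) ∧
      ∀ a ∈ D, ∀ b ∈ D, a * b = b * a ∧ MI ι (a * b) ∧ ¬ Ac c (a * b)
  d2 : ∀ D : Set Y, (∀ a ∈ D, IsConj r a) →
    (∀ a ∈ D, ∀ b ∈ D, a * b = b * a ∧ ¬ (MI ι (a * b) ∧ Ac c (a * b))) → c ∉ closure D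

/-- For `JobSO`. -/
structure OQ : Prop where
  ex : ∃ w, w * c * w⁻¹ ∈ Q
  fx : ∀ u ∈ U, u * u ∈ Z → ∃ w, w * c * w⁻¹ ∈ Cs Z ∧ cm (w * c * w⁻¹) u ∈ Z

/-- Linear models, `q = 2`. -/
structure LD (A A' : Subgroup Y) : Prop where
  z : ∀ z ∈ Z, z = 1 ∨ z = r
  sup : A ⊔ A' = Q
  inf : A ⊓ A' = Z
  sw : ∀ y, y ∈ A ↔ τ y ∈ A'
  el : ∀ a ∈ A, a * a = 1
  rt : ∀ a ∈ A, a ≠ 1 → IsConj r a
  pat : ∀ u, IsConj r u → u * r = r * u → u * r = 1 ∨ IsConj r (u * r) → u ∈ A ∨ u ∈ A'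
  nr : Cs Z ≤ Ns A
  ce : A ⊓ Cs A' ≤ Z
  zc : Z ≤ ⁅A, A'⁆
  hl : ∀ θ, AutOn A θ → θ r = r → ∃ p ∈ Cs Z, ∀ a ∈ A, θ a * (p * a * p⁻¹)⁻¹ ∈ Z

end Mod

section Amb

variable {n : ℕ} {F : Type} [Field F] [StarRing F] [TrivialStar F] [CharP F 2] [Finite F]
  {Y : Type} [Group Y] {G : Type u} [Group G] (ι : XU n F →* Y) (τ : MulAut Y)
  (Gd Go : XU n F → Prop) (U : Subgroup Y) (e : XU n F →* G) (t : G) (Φ : Y →* G) (K₀ : Subgroup G)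

/-- The start of the endgame. -/
structure E0 : Prop extends CE e t, Hm ι τ e t Φ, M1 ι τ U, M2 ι τ Gd where
  gd : ∀ u, Fu e t u → u = 1 ∨ Gd u

/-- The facts on the model, lifted to `G₁`. -/
structure EA : Prop where
  odd : Odd (Nat.card (Cs Φ.range))
  ct : Cz t ≤ Ns Φ.range
  tx : ∀ u, u * u = 1 → Gd u → ∃ w, t * e u = Φ w * t * (Φ w)⁻¹
  tc : ∀ v, IsConj t (Φ v * t) → ∃ w, Φ v * t = Φ w * t * (Φ w)⁻¹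
  inn : ∀ m y, Is2 m → Ind Φ m (MulAut.conj y) → m ∈ Φ.range

variable (n F) in
/-- The `2`-subgroups of `C(s)`, `s ∈ T`, are small. -/
def BG : Prop := ∀ s, IsConj t s → ∀ P ≤ Cz s, IsPGroup 2 P → Nat.card P ≤ bq n F

/-- `T` does not meet `G₁`. -/
def NR : Prop := ∀ y, ¬ IsConj t (Φ y)

/-- The result of the transfer. -/
structure EK : Prop where
  nor : K₀.Normal
  nt : t ∉ K₀
  le : Φ.range ≤ K₀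
  top : ∀ g, g ∈ K₀ ∨ g * t ∈ K₀
  two2 : ∀ m ∈ Ns Φ.range, Is2 m → m ∈ K₀ → m ∈ Φ.range
  sylS : Syl (U.map Φ ⊔ zpowers t) ⊤
  sylK : Syl (U.map Φ) K₀

/-- The standing hypotheses after the transfer. -/
structure E1 : Prop extends E0 ι τ Gd U e t Φ, EA Gd e t Φ, EK U t Φ K₀ where
  uf : UF (Ns Φ.range) t
  go : ∀ v, v * v = 1 → Go v → Cz (t * e v) ≤ Ns Φ.range

/-- `C_K(R) ≤ R C(G₁)` -/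
def CR (R : Subgroup Y) : Prop := ∀ g ∈ K₀, g ∈ Cs (R.map Φ) →
  ∃ y ∈ R, ∃ o ∈ Cs Φ.range, g = Φ y * o

/-- `M` controls the fusion of `r`. -/
def RF (r : Y) : Prop := ∀ g, g * Φ r * g⁻¹ ∈ Φ.range →
  ∃ m ∈ Ns Φ.range, ∃ c ∈ Cz (Φ r), g = m * c

/-- `A` is strongly closed in `U` with respect to `C_K(Z)`. -/
def SC (Z A : Subgroup Y) : Prop := ∀ x ∈ A, ∀ h ∈ K₀, h ∈ Cs (Z.map Φ) →
  h * Φ x * h⁻¹ ∈ U.map Φ → h * Φ x * h⁻¹ ∈ A.map Φ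

/-- `C_K(Z) ≤ N(A)` -/
def CN (Z A : Subgroup Y) : Prop := K₀ ⊓ Cs (Z.map Φ) ≤ Ns (A.map Φ)

/-- The elements that act trivially on `Z` and on `Q / Z`. -/
def CQ (Z Q : Subgroup Y) : Prop := ∀ g ∈ K₀, g ∈ Cs (Z.map Φ) → g ∈ Ns (Q.map Φ) →
  (∀ x ∈ Q, cm g (Φ x) ∈ Z.map Φ) → ∃ y ∈ Q, ∃ o ∈ Cs Φ.range, g = Φ y * o

/-- The `2`-elements of `C_K(Z)` lie in `G₁`. -/
def C2 (Z : Subgroup Y) : Prop := ∀ g ∈ K₀, g ∈ Cs (Z.map Φ) → Is2 g → g ∈ Φ.range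

/-- `P` is generated by involutions of `C(Z)` with centralisers in `M`. -/
def PE (Z P : Subgroup Y) : Prop :=
  P.map Φ ≤ closure {s | s * s = 1 ∧ s ∈ Cs (Z.map Φ) ∧ Cz s ≤ Ns Φ.range}

end Amb

/-- A statement at the start of the endgame. -/
def All0 (P : ∀ (n : ℕ) (F : Type) [Field F] [StarRing F] [TrivialStar F] [CharP F 2] [Finite F]
    (Y : Type) [Group Y] (G : Type u) [Group G], (XU n F →* Y) → MulAut Y → (XU n F → Prop) →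
      Subgroup Y → (XU n F →* G) → G → (Y →* G) → Prop) : Prop :=
  AllA.{u} fun n F _ _ _ _ _ G _ e t => FO n F → ∀ (Y : Type) [Group Y] [Finite Y] [QS Y]
    (ι : XU n F →* Y) (τ : MulAut Y) (Gd : XU n F → Prop) (U : Subgroup Y) (Φ : Y →* G),
      E0 ι τ Gd U e t Φ → P n F Y G ι τ Gd U e t Φ

/-- A statement after the transfer (no fact on `X` is needed). -/
def All1 (P : ∀ (n : ℕ) (F : Type) [Field F] [StarRing F] [TrivialStar F] [CharP F 2] [Finite F]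
    (Y : Type) [Group Y] (G : Type u) [Group G], (XU n F →* Y) → MulAut Y → (XU n F → Prop) →
      (XU n F → Prop) → Subgroup Y → (XU n F →* G) → G → (Y →* G) → Subgroup G → Prop) : Prop :=
  AllG.{u} fun n F _ _ _ _ _ G _ e t => ∀ (Y : Type) [Group Y] [Finite Y] [QS Y]
    (ι : XU n F →* Y) (τ : MulAut Y) (Gd Go : XU n F → Prop) (U : Subgroup Y) (Φ : Y →* G)
    (K₀ : Subgroup G), E1 ι τ Gd Go U e t Φ K₀ → P n F Y G ι τ Gd Go U e t Φ K₀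

def JobEA : Prop := All0.{u} fun _ _ _ _ _ _ _ _ _ _ _ _ _ Gd _ e t Φ => EA Gd e t Φ

def JobBG : Prop := All0.{u} fun n F _ _ _ _ _ Y _ _ _ _ _ _ _ _ t Φ => BG n F t ∧
  ((∀ y : Y, Inv2 y → Big (bq n F) (MulAut.conj y)) → NR t Φ)

def JobNO : Prop := All0.{u} fun _ _ _ _ _ _ _ _ _ _ _ ι _ Gd _ e t Φ => (∀ u, Gd u ↔ Lr u) →
  ON ι → EA Gd e t Φ → NR t Φ

def JobUF : Prop := All0.{u} fun n F _ _ _ _ _ _ _ _ _ ι τ Gd _ e t Φ => M3 ι τ Gd →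
  EA Gd e t Φ → BG n F t → NR t Φ → UF (Ns Φ.range) t

def JobEV : Prop := All0.{u} fun _ _ _ _ _ _ _ _ _ _ _ _ _ Gd U e t Φ => EA Gd e t Φ →
  UF (Ns Φ.range) t → Gen t → ∃ K₀, EK U t Φ K₀

def JobEI : Prop := All0.{u} fun _ _ _ _ _ _ _ _ _ _ _ ι τ Gd _ e t Φ => EA Gd e t Φ →
  UF (Ns Φ.range) t → ∀ Ge, ME ι τ Gd Ge → ∀ z, Ge z → Cz (t * e z) ≤ Ns Φ.range

def JobCO : Prop := All1.{u} fun _ _ _ _ _ _ _ _ _ _ _ ι τ _ Go U _ _ Φ K₀ =>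
  ∀ R, MC ι τ Go U R → CR Φ K₀ R

def JobCQ : Prop := All1.{u} fun _ _ _ _ _ _ _ _ _ _ _ ι τ _ Go U _ _ Φ K₀ =>
  ∀ r Z Q, RD ι τ Go U r Z Q → CR Φ K₀ Q → CQ Φ K₀ Z Q

def JobSS : Prop := All1.{u} fun _ _ _ _ _ _ _ _ _ _ _ ι τ _ Go U _ _ Φ K₀ =>
  ∀ r Z Q, RD ι τ Go U r Z Q → (∀ y, y * y = 1 → MI ι y) → RS τ U Z Q → SC U Φ K₀ Z Q

def JobCA : Prop := JobGC.{u} → All1.{u} fun _ _ _ _ _ _ _ _ _ _ _ ι τ _ Go U _ _ Φ K₀ =>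
  ∀ r Z Q P, RD ι τ Go U r Z Q → RA τ Z Q P → PE Φ Z P → SC U Φ K₀ Z Q → CN Φ K₀ Z Q

def JobHS : Prop := All1.{u} fun _ _ _ _ _ _ _ _ _ _ _ ι τ _ Go U _ _ Φ K₀ =>
  ∀ r Z Q, RD ι τ Go U r Z Q → (∀ y, y * y = 1 → MI ι y) → RB U Z Q → CQ Φ K₀ Z Q →
    K₀ ⊓ Cs (Z.map Φ) ⊓ Ns (Q.map Φ) ≤ Ns Φ.range

def JobCB : Prop := JobGC.{u} → All1.{u} fun _ _ _ _ _ _ _ _ _ _ _ ι τ _ Go U _ _ Φ K₀ =>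
  ∀ r Z Q, RD ι τ Go U r Z Q → RB U Z Q → SC U Φ K₀ Z Q →
    K₀ ⊓ Cs (Z.map Φ) ⊓ Ns (Q.map Φ) ≤ Ns Φ.range → CN Φ K₀ Z Q

def JobHU : Prop := All1.{u} fun _ _ _ _ _ _ _ _ _ _ _ ι τ _ Go U _ _ Φ K₀ =>
  ∀ r Z Q, RD ι τ Go U r Z Q → RH U r Z Q → RF Φ r → CN Φ K₀ Z Q → CQ Φ K₀ Z Q → C2 Φ K₀ Z

def JobNZ : Prop := All1.{u} fun _ _ _ _ _ _ _ _ _ _ _ ι τ _ Go U _ _ Φ K₀ =>
  ∀ r Z Q, RD ι τ Go U r Z Q → RN r Z → RF Φ r → C2 Φ K₀ Z → K₀ ⊓ Ns (Z.map Φ) ≤ Ns Φ.range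

def JobSZ : Prop := All1.{u} fun _ _ _ _ _ _ _ _ _ _ _ ι τ _ Go U _ _ Φ K₀ =>
  ∀ r Z Q, RD ι τ Go U r Z Q → RZ τ r Z Q → RF Φ r → SC U Φ K₀ (zpowers r) Z

def JobZ1 : Prop := JobGC.{u} → All1.{u} fun _ _ _ _ _ _ _ _ _ _ _ ι τ _ Go U _ _ Φ K₀ =>
  ∀ r Z Q, RD ι τ Go U r Z Q → RZ τ r Z Q → SC U Φ K₀ (zpowers r) Z →
    K₀ ⊓ Ns (Z.map Φ) ≤ Ns Φ.range → K₀ ⊓ Cz (Φ r) ≤ Ns Φ.range

def JobHT : Prop := All1.{u} fun _ _ _ _ _ _ _ Y _ _ _ ι τ _ Go U _ _ Φ K₀ =>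
  ∀ r Z Q, RD ι τ Go U r Z Q → IsSimpleGroup K₀ →
    (∀ m, IsEmpty (Y ⧸ center Y ≃* alternatingGroup (Fin m))) → RF Φ r →
      K₀ ⊓ Cz (Φ r) ≤ Ns Φ.range → K₀ ≤ Ns Φ.range

def JobRO : Prop := All1.{u} fun _ _ _ _ _ _ _ _ _ _ _ ι τ _ Go U _ _ Φ _ =>
  ∀ r Z Q c, RD ι τ Go U r Z Q → OB ι τ r c → RF Φ r

def JobHO : Prop := All1.{u} fun _ _ _ _ _ _ _ _ _ _ _ ι τ _ Go U _ _ Φ K₀ =>
  ∀ r Z Q R, RD ι τ Go U r Z Q → Good τ U R → OH τ r R → RF Φ r → CR Φ K₀ R →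
    Ns (R.map Φ) ≤ Ns Φ.range

def JobSR : Prop := All1.{u} fun _ _ _ _ _ _ _ _ _ _ _ ι τ _ _ _ _ _ Φ _ =>
  ∀ c R, Inv2 c → OS ι τ c R → ∀ x ∈ R, ∀ h ∈ Cz (Φ c), h * Φ x * h⁻¹ ∈ Φ.range →
    h * Φ x * h⁻¹ ∈ R.map Φ

def JobC3 : Prop := JobGC.{u} → All1.{u} fun _ _ _ _ _ _ _ _ _ _ _ ι τ _ Go U _ _ Φ _ =>
  ∀ c R R₀ R₁, τ c = c → Good τ U R → OS ι τ c R → OC ι τ Go c R R₀ R₁ →
    (∀ x ∈ R, ∀ h ∈ Cz (Φ c), h * Φ x * h⁻¹ ∈ Φ.range → h * Φ x * h⁻¹ ∈ R.map Φ) →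
      Ns (R.map Φ) ≤ Ns Φ.range → Cz (Φ c) ≤ Ns Φ.range

def JobUZ : Prop := All1.{u} fun _ _ _ _ _ _ _ _ _ _ _ ι τ _ Go U _ _ Φ _ =>
  ∀ r Z Q c R, RD ι τ Go U r Z Q → Good τ U R → OB ι τ r c → c ∈ R → OU ι r c R → RF Φ r →
    Ns (R.map Φ) ≤ Ns Φ.range → Cz (Φ c) ≤ Ns Φ.range → Fx (Ns Φ.range) (Φ c)

def JobSO : Prop := All1.{u} fun _ _ _ _ _ _ _ _ _ _ _ ι τ _ Go U _ _ Φ K₀ =>
  ∀ r Z Q c, RD ι τ Go U r Z Q → c * c = 1 → OQ U Z Q c → Fx (Ns Φ.range) (Φ c) → SC U Φ K₀ Z Q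

def JobLA : Prop := All1.{u} fun _ _ _ _ _ _ _ _ _ _ _ ι τ _ Go U _ _ Φ K₀ =>
  ∀ r Z Q A A', RD ι τ Go U r Z Q → LD τ r Z Q A A' → RF Φ r → SC U Φ K₀ Z A ∧ SC U Φ K₀ Z A'

def JobLB : Prop := All1.{u} fun _ _ _ _ _ _ _ _ _ _ _ ι τ _ Go U _ _ Φ K₀ =>
  ∀ r Z Q A A', RD ι τ Go U r Z Q → LD τ r Z Q A A' → SC U Φ K₀ Z A → SC U Φ K₀ Z A' →
    CN Φ K₀ Z A ∧ CN Φ K₀ Z A'

def JobLC : Prop := All1.{u} fun _ _ _ _ _ _ _ _ _ _ _ ι τ _ Go U _ _ Φ K₀ =>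
  ∀ r Z Q A A', RD ι τ Go U r Z Q → LD τ r Z Q A A' → CN Φ K₀ Z A → CN Φ K₀ Z A' → CQ Φ K₀ Z Q →
    K₀ ⊓ Cz (Φ r) ≤ Ns Φ.range

/-- Row S1769. -/
def JobL4 : Prop := ∀ (m : ℕ) (F : Type) [Field F] [Finite F] [CharP F 2] (G : Type u) [Group G]
  [Finite G] (Φ : H67.SA.SLn m F →* G) (U : Subgroup (H67.SA.SLn m F)) (K₀ : Subgroup G), 5 ≤ m →
  4 ≤ Nat.card F → Φ.ker ≤ center _ → Syl U ⊤ → Syl (U.map Φ) K₀ → IsSimpleGroup K₀ →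
    Nonempty (K₀ ≃* Matrix.ProjectiveSpecialLinearGroup (Fin (m + 1)) F)

end H64.YE
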